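import Mathlib
import Cfsg.Agent.Lib.Sporadic.MultCoTwoPart.Pack0
import Cfsg.Agent.Lib.Sporadic.MultCoTwoPart.Pack1
import Cfsg.Agent.Lib.Sporadic.MultCoTwoPart.Pack2
import Cfsg.Agent.Lib.Sporadic.MultCoTwoPart.Data
import Cfsg.Agent.Lib.Schur.CheckParts

/-!
# Shape and permutations of table 0
-/

set_option autoImplicit false
set_option maxRecDepth 100000
set_option maxHeartbeats 0
set_option Elab.async false

noncomputable section

namespace CfsgLib.Sporadic.MultCoTwoPart

open CfsgLib.Schur.Cert CfsgLib.Sporadic

theorem head0 : shapeHead level0 [level1, level2] (top) = true := by decide +kernel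

theorem srel0_0 : allFrom (shapeRel (chainRels chain top) level0 (top)) 0 2 = true := by decide +kernel

theorem srel0_2 : allFrom (shapeRel (chainRels chain top) level0 (top)) 2 4 = true := by decide +kernel

theorem srel0_4 : allFrom (shapeRel (chainRels chain top) level0 (top)) 4 6 = true := by decide +kernel

theorem srel0_6 : allFrom (shapeRel (chainRels chain top) level0 (top)) 6 8 = true := by decide +kernel

theorem srel0_8 : allFrom (shapeRel (chainRels chain top) level0 (top)) 8 9 = true := by decide +kernel

theorem permsGen0 : permsGen 552 level0 [level1, level2] = true := by decide +kernel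

theorem path0_0 : allFrom (permsPath level0) 0 72 = true := by decide +kernel

theorem permsKey0 : permsKey level0 [level1, level2] = true := by decide +kernel

end CfsgLib.Sporadic.MultCoTwoPart
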