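import Mathlib
import Cfsg.Agent.Lib.Sporadic.MultCoTwoPart.Pack0
import Cfsg.Agent.Lib.Sporadic.MultCoTwoPart.Pack1
import Cfsg.Agent.Lib.Sporadic.MultCoTwoPart.Pack2
import Cfsg.Agent.Lib.Sporadic.MultCoTwoPart.Data
import Cfsg.Agent.Lib.Schur.CheckParts

/-!
# Deductions of table 0
-/

set_option autoImplicit false
set_option maxRecDepth 100000
set_option maxHeartbeats 0
set_option Elab.async false

noncomputable section

namespace CfsgLib.Sporadic.MultCoTwoPart

open CfsgLib.Schur.Cert CfsgLib.Sporadic

theorem ded0_0 : allFrom (dedAt level0 pack0 [level1, level2] [pack1, pack2]) 0 3 = true := by decide +kernel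

theorem ded0_3 : allFrom (dedAt level0 pack0 [level1, level2] [pack1, pack2]) 3 6 = true := by decide +kernel

theorem ded0_6 : allFrom (dedAt level0 pack0 [level1, level2] [pack1, pack2]) 6 9 = true := by decide +kernel

theorem ded0_9 : allFrom (dedAt level0 pack0 [level1, level2] [pack1, pack2]) 9 12 = true := by decide +kernel

theorem ded0_12 : allFrom (dedAt level0 pack0 [level1, level2] [pack1, pack2]) 12 15 = true := by decide +kernel

theorem ded0_15 : allFrom (dedAt level0 pack0 [level1, level2] [pack1, pack2]) 15 18 = true := by decide +kernel

theorem ded0_18 : allFrom (dedAt level0 pack0 [level1, level2] [pack1, pack2]) 18 21 = true := by decide +kernel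

theorem ded0_21 : allFrom (dedAt level0 pack0 [level1, level2] [pack1, pack2]) 21 24 = true := by decide +kernel

theorem ded0_24 : allFrom (dedAt level0 pack0 [level1, level2] [pack1, pack2]) 24 27 = true := by decide +kernel

theorem ded0_27 : allFrom (dedAt level0 pack0 [level1, level2] [pack1, pack2]) 27 30 = true := by decide +kernel

theorem ded0_30 : allFrom (dedAt level0 pack0 [level1, level2] [pack1, pack2]) 30 33 = true := by decide +kernel

theorem ded0_33 : allFrom (dedAt level0 pack0 [level1, level2] [pack1, pack2]) 33 36 = true := by decide +kernel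

theorem ded0_36 : allFrom (dedAt level0 pack0 [level1, level2] [pack1, pack2]) 36 39 = true := by decide +kernel

theorem ded0_39 : allFrom (dedAt level0 pack0 [level1, level2] [pack1, pack2]) 39 42 = true := by decide +kernel

theorem ded0_42 : allFrom (dedAt level0 pack0 [level1, level2] [pack1, pack2]) 42 45 = true := by decide +kernel

theorem ded0_45 : allFrom (dedAt level0 pack0 [level1, level2] [pack1, pack2]) 45 48 = true := by decide +kernel

theorem ded0_48 : allFrom (dedAt level0 pack0 [level1, level2] [pack1, pack2]) 48 51 = true := by decide +kernel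

theorem ded0_51 : allFrom (dedAt level0 pack0 [level1, level2] [pack1, pack2]) 51 54 = true := by decide +kernel

theorem ded0_54 : allFrom (dedAt level0 pack0 [level1, level2] [pack1, pack2]) 54 57 = true := by decide +kernel

theorem ded0_57 : allFrom (dedAt level0 pack0 [level1, level2] [pack1, pack2]) 57 60 = true := by decide +kernel

theorem ded0_60 : allFrom (dedAt level0 pack0 [level1, level2] [pack1, pack2]) 60 63 = true := by decide +kernel

theorem ded0_63 : allFrom (dedAt level0 pack0 [level1, level2] [pack1, pack2]) 63 66 = true := by decide +kernel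

theorem ded0_66 : allFrom (dedAt level0 pack0 [level1, level2] [pack1, pack2]) 66 69 = true := by decide +kernel

theorem ded0_69 : allFrom (dedAt level0 pack0 [level1, level2] [pack1, pack2]) 69 72 = true := by decide +kernel

theorem ded0_72 : allFrom (dedAt level0 pack0 [level1, level2] [pack1, pack2]) 72 73 = true := by decide +kernel

end CfsgLib.Sporadic.MultCoTwoPart
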