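import Mathlib
import Cfsg.Agent.Lib.Sporadic.MultCoTwoPart.Pack0
import Cfsg.Agent.Lib.Sporadic.MultCoTwoPart.Pack1
import Cfsg.Agent.Lib.Sporadic.MultCoTwoPart.Pack2
import Cfsg.Agent.Lib.Sporadic.MultCoTwoPart.Data
import Cfsg.Agent.Lib.Schur.CheckParts

/-!
# Equations of table 0
-/

set_option autoImplicit false
set_option maxRecDepth 100000
set_option maxHeartbeats 0
set_option Elab.async false

noncomputable section

namespace CfsgLib.Sporadic.MultCoTwoPart

open CfsgLib.Schur.Cert CfsgLib.Sporadic

theorem eqn0_0 : allFrom (eqnAt level0 pack0 [level1, level2] [pack1, pack2]) 0 3 = true := by decide +kernel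

theorem eqn0_3 : allFrom (eqnAt level0 pack0 [level1, level2] [pack1, pack2]) 3 6 = true := by decide +kernel

theorem eqn0_6 : allFrom (eqnAt level0 pack0 [level1, level2] [pack1, pack2]) 6 9 = true := by decide +kernel

end CfsgLib.Sporadic.MultCoTwoPart
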