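import Mathlib
import Cfsg.Agent.Lib.Sporadic.MultCoTwoPart.Pack0
import Cfsg.Agent.Lib.Sporadic.MultCoTwoPart.Pack1
import Cfsg.Agent.Lib.Sporadic.MultCoTwoPart.Pack2
import Cfsg.Agent.Lib.Sporadic.MultCoTwoPart.Data
import Cfsg.Agent.Lib.Schur.CheckParts

/-!
# Relations of table 0 for the permutations
-/

set_option autoImplicit false
set_option maxRecDepth 100000
set_option maxHeartbeats 0
set_option Elab.async false

noncomputable section

namespace CfsgLib.Sporadic.MultCoTwoPart

open CfsgLib.Schur.Cert CfsgLib.Sporadic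

theorem rel0_8 : allFrom (permsRel 552 level0) 8 9 = true := by decide +kernel

end CfsgLib.Sporadic.MultCoTwoPart
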