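import Mathlib
import Cfsg.Agent.Lib.Sporadic.MultCoTwoPart.Pack0
import Cfsg.Agent.Lib.Sporadic.MultCoTwoPart.Pack1
import Cfsg.Agent.Lib.Sporadic.MultCoTwoPart.Pack2
import Cfsg.Agent.Lib.Sporadic.MultCoTwoPart.Data
import Cfsg.Agent.Lib.Schur.CheckParts

/-!
# Shape and permutations of table 2
-/

set_option autoImplicit false
set_option maxRecDepth 100000
set_option maxHeartbeats 0
set_option Elab.async false

noncomputable section

namespace CfsgLib.Sporadic.MultCoTwoPart

open CfsgLib.Schur.Cert CfsgLib.Sporadic

theorem head2 : shapeHead level2 [] (nextWords (nextWords (top) level0) level1) = true := by decide +kernel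

theorem srel2_0 : allFrom (shapeRel (chainRels chain top) level2 (nextWords (nextWords (top) level0) level1)) 0 2 = true := by decide +kernel

theorem srel2_2 : allFrom (shapeRel (chainRels chain top) level2 (nextWords (nextWords (top) level0) level1)) 2 4 = true := by decide +kernel

theorem srel2_4 : allFrom (shapeRel (chainRels chain top) level2 (nextWords (nextWords (top) level0) level1)) 4 5 = true := by decide +kernel

theorem row2_0 : allFrom (shapeRow rows level2 []) 0 80 = true := by decide +kernel

theorem row2_80 : allFrom (shapeRow rows level2 []) 80 160 = true := by decide +kernel

theorem row2_160 : allFrom (shapeRow rows level2 []) 160 240 = true := by decide +kernel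

theorem row2_240 : allFrom (shapeRow rows level2 []) 240 320 = true := by decide +kernel

theorem row2_320 : allFrom (shapeRow rows level2 []) 320 400 = true := by decide +kernel

theorem row2_400 : allFrom (shapeRow rows level2 []) 400 480 = true := by decide +kernel

theorem row2_480 : allFrom (shapeRow rows level2 []) 480 560 = true := by decide +kernel

theorem row2_560 : allFrom (shapeRow rows level2 []) 560 640 = true := by decide +kernel

theorem row2_640 : allFrom (shapeRow rows level2 []) 640 720 = true := by decide +kernel

theorem row2_720 : allFrom (shapeRow rows level2 []) 720 800 = true := by decide +kernel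

theorem row2_800 : allFrom (shapeRow rows level2 []) 800 880 = true := by decide +kernel

theorem row2_880 : allFrom (shapeRow rows level2 []) 880 960 = true := by decide +kernel

theorem row2_960 : allFrom (shapeRow rows level2 []) 960 1040 = true := by decide +kernel

theorem row2_1040 : allFrom (shapeRow rows level2 []) 1040 1120 = true := by decide +kernel

theorem row2_1120 : allFrom (shapeRow rows level2 []) 1120 1152 = true := by decide +kernel

theorem permsGen2 : permsGen 552 level2 [] = true := by decide +kernel

theorem path2_0 : allFrom (permsPath level2) 0 200 = true := by decide +kernel

theorem path2_200 : allFrom (permsPath level2) 200 400 = true := by decide +kernel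

theorem path2_400 : allFrom (permsPath level2) 400 600 = true := by decide +kernel

theorem path2_600 : allFrom (permsPath level2) 600 800 = true := by decide +kernel

theorem path2_800 : allFrom (permsPath level2) 800 1000 = true := by decide +kernel

theorem path2_1000 : allFrom (permsPath level2) 1000 1152 = true := by decide +kernel

theorem permsKey2 : permsKey level2 [] = true := by decide +kernel

end CfsgLib.Sporadic.MultCoTwoPart
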