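import Mathlib
import Cfsg.Agent.Lib.Sporadic.MultCoTwoPart.Pack0
import Cfsg.Agent.Lib.Sporadic.MultCoTwoPart.Pack1
import Cfsg.Agent.Lib.Sporadic.MultCoTwoPart.Pack2
import Cfsg.Agent.Lib.Sporadic.MultCoTwoPart.Data
import Cfsg.Agent.Lib.Schur.CheckParts

/-!
# Deductions of table 2
-/

set_option autoImplicit false
set_option maxRecDepth 100000
set_option maxHeartbeats 0
set_option Elab.async false

noncomputable section

namespace CfsgLib.Sporadic.MultCoTwoPart

open CfsgLib.Schur.Cert CfsgLib.Sporadic

theorem ded2_0 : allFrom (dedAt level2 pack2 [] []) 0 60 = true := by decide +kernel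

theorem ded2_60 : allFrom (dedAt level2 pack2 [] []) 60 120 = true := by decide +kernel

theorem ded2_120 : allFrom (dedAt level2 pack2 [] []) 120 180 = true := by decide +kernel

theorem ded2_180 : allFrom (dedAt level2 pack2 [] []) 180 240 = true := by decide +kernel

theorem ded2_240 : allFrom (dedAt level2 pack2 [] []) 240 300 = true := by decide +kernel

theorem ded2_300 : allFrom (dedAt level2 pack2 [] []) 300 360 = true := by decide +kernel

theorem ded2_360 : allFrom (dedAt level2 pack2 [] []) 360 420 = true := by decide +kernel

theorem ded2_420 : allFrom (dedAt level2 pack2 [] []) 420 480 = true := by decide +kernel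

theorem ded2_480 : allFrom (dedAt level2 pack2 [] []) 480 540 = true := by decide +kernel

theorem ded2_540 : allFrom (dedAt level2 pack2 [] []) 540 600 = true := by decide +kernel

theorem ded2_600 : allFrom (dedAt level2 pack2 [] []) 600 660 = true := by decide +kernel

theorem ded2_660 : allFrom (dedAt level2 pack2 [] []) 660 720 = true := by decide +kernel

theorem ded2_720 : allFrom (dedAt level2 pack2 [] []) 720 780 = true := by decide +kernel

theorem ded2_780 : allFrom (dedAt level2 pack2 [] []) 780 840 = true := by decide +kernel

theorem ded2_840 : allFrom (dedAt level2 pack2 [] []) 840 900 = true := by decide +kernel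

theorem ded2_900 : allFrom (dedAt level2 pack2 [] []) 900 960 = true := by decide +kernel

theorem ded2_960 : allFrom (dedAt level2 pack2 [] []) 960 1020 = true := by decide +kernel

theorem ded2_1020 : allFrom (dedAt level2 pack2 [] []) 1020 1080 = true := by decide +kernel

theorem ded2_1080 : allFrom (dedAt level2 pack2 [] []) 1080 1140 = true := by decide +kernel

theorem ded2_1140 : allFrom (dedAt level2 pack2 [] []) 1140 1153 = true := by decide +kernel

end CfsgLib.Sporadic.MultCoTwoPart
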