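import Mathlib
import Cfsg.Agent.Lib.Sporadic.MultCoTwoPart.Check0
import Cfsg.Agent.Lib.Sporadic.MultCoTwoPart.Check0Row0
import Cfsg.Agent.Lib.Sporadic.MultCoTwoPart.Check0Rel0
import Cfsg.Agent.Lib.Sporadic.MultCoTwoPart.Check0Rel1
import Cfsg.Agent.Lib.Sporadic.MultCoTwoPart.Check0Ded0
import Cfsg.Agent.Lib.Sporadic.MultCoTwoPart.Check0Eqn0
import Cfsg.Agent.Lib.Sporadic.MultCoTwoPart.Check1
import Cfsg.Agent.Lib.Sporadic.MultCoTwoPart.Check1Row0
import Cfsg.Agent.Lib.Sporadic.MultCoTwoPart.Check1Rel0
import Cfsg.Agent.Lib.Sporadic.MultCoTwoPart.Check1Ded0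
import Cfsg.Agent.Lib.Sporadic.MultCoTwoPart.Check1Eqn0
import Cfsg.Agent.Lib.Sporadic.MultCoTwoPart.Check2
import Cfsg.Agent.Lib.Sporadic.MultCoTwoPart.Check2Rel0
import Cfsg.Agent.Lib.Sporadic.MultCoTwoPart.Check2Ded0
import Cfsg.Agent.Lib.Sporadic.MultCoTwoPart.Check2Eqn0
import Cfsg.Agent.Lib.Sporadic.MultCoTwoPart.CheckLin0
import Cfsg.Agent.Lib.Schur.CheckParts

/-!
# All checks of the chain
-/

set_option autoImplicit false
set_option maxRecDepth 100000
set_option maxHeartbeats 0
set_option Elab.async false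

noncomputable section

namespace CfsgLib.Sporadic.MultCoTwoPart

open CfsgLib.Schur.Cert CfsgLib.Sporadic

theorem shape0 : shapeOK (chainRels chain top) rows level0 [level1, level2] (top) = true :=
  shapeOK_of_parts head0 (allFrom_trans srel0_0 (allFrom_trans srel0_2 (allFrom_trans srel0_4 (allFrom_trans srel0_6 (srel0_8))))) (allFrom_trans row0_0 (allFrom_trans row0_10 (allFrom_trans row0_20 (allFrom_trans row0_30 (allFrom_trans row0_40 (allFrom_trans row0_50 (allFrom_trans row0_60 (row0_70))))))))

theorem deds0 : dedsOK level0 [level1, level2] = true :=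
  dedsOK_of_parts pack_ok0 (packsOK_cons pack_ok1 (packsOK_cons pack_ok2 (rfl))) (allFrom_trans ded0_0 (allFrom_trans ded0_3 (allFrom_trans ded0_6 (allFrom_trans ded0_9 (allFrom_trans ded0_12 (allFrom_trans ded0_15 (allFrom_trans ded0_18 (allFrom_trans ded0_21 (allFrom_trans ded0_24 (allFrom_trans ded0_27 (allFrom_trans ded0_30 (allFrom_trans ded0_33 (allFrom_trans ded0_36 (allFrom_trans ded0_39 (allFrom_trans ded0_42 (allFrom_trans ded0_45 (allFrom_trans ded0_48 (allFrom_trans ded0_51 (allFrom_trans ded0_54 (allFrom_trans ded0_57 (allFrom_trans ded0_60 (allFrom_trans ded0_63 (allFrom_trans ded0_66 (allFrom_trans ded0_69 (ded0_72)))))))))))))))))))))))))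

theorem eqns0 : eqnsOK level0 [level1, level2] = true :=
  eqnsOK_of_parts pack_ok0 (packsOK_cons pack_ok1 (packsOK_cons pack_ok2 (rfl))) (allFrom_trans eqn0_0 (allFrom_trans eqn0_3 (eqn0_6)))

theorem shape1 : shapeOK (chainRels chain top) rows level1 [level2] (nextWords (top) level0) = true :=
  shapeOK_of_parts head1 (allFrom_trans srel1_0 (allFrom_trans srel1_2 (allFrom_trans srel1_4 (srel1_6)))) (allFrom_trans row1_0 (allFrom_trans row1_10 (allFrom_trans row1_20 (row1_30))))

theorem deds1 : dedsOK level1 [level2] = true :=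
  dedsOK_of_parts pack_ok1 (packsOK_cons pack_ok2 (rfl)) (allFrom_trans ded1_0 (allFrom_trans ded1_10 (allFrom_trans ded1_20 (ded1_30))))

theorem eqns1 : eqnsOK level1 [level2] = true :=
  eqnsOK_of_parts pack_ok1 (packsOK_cons pack_ok2 (rfl)) (eqn1_0)

theorem shape2 : shapeOK (chainRels chain top) rows level2 [] (nextWords (nextWords (top) level0) level1) = true :=
  shapeOK_of_parts head2 (allFrom_trans srel2_0 (allFrom_trans srel2_2 (srel2_4))) (allFrom_trans row2_0 (allFrom_trans row2_80 (allFrom_trans row2_160 (allFrom_trans row2_240 (allFrom_trans row2_320 (allFrom_trans row2_400 (allFrom_trans row2_480 (allFrom_trans row2_560 (allFrom_trans row2_640 (allFrom_trans row2_720 (allFrom_trans row2_800 (allFrom_trans row2_880 (allFrom_trans row2_960 (allFrom_trans row2_1040 (row2_1120)))))))))))))))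

theorem deds2 : dedsOK level2 [] = true :=
  dedsOK_of_parts pack_ok2 (rfl) (allFrom_trans ded2_0 (allFrom_trans ded2_60 (allFrom_trans ded2_120 (allFrom_trans ded2_180 (allFrom_trans ded2_240 (allFrom_trans ded2_300 (allFrom_trans ded2_360 (allFrom_trans ded2_420 (allFrom_trans ded2_480 (allFrom_trans ded2_540 (allFrom_trans ded2_600 (allFrom_trans ded2_660 (allFrom_trans ded2_720 (allFrom_trans ded2_780 (allFrom_trans ded2_840 (allFrom_trans ded2_900 (allFrom_trans ded2_960 (allFrom_trans ded2_1020 (allFrom_trans ded2_1080 (ded2_1140))))))))))))))))))))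

theorem eqns2 : eqnsOK level2 [] = true :=
  eqnsOK_of_parts pack_ok2 (rfl) (eqn2_0)

theorem perms_check : permsOKN 552 chain = true :=
  permsOKN_cons permsGen0 (allFrom_trans rel0_0 (allFrom_trans rel0_1 (allFrom_trans rel0_2 (allFrom_trans rel0_3 (allFrom_trans rel0_4 (allFrom_trans rel0_5 (allFrom_trans rel0_6 (allFrom_trans rel0_7 (rel0_8))))))))) (path0_0) permsKey0 (permsOKN_cons permsGen1 (allFrom_trans rel1_0 (allFrom_trans rel1_1 (allFrom_trans rel1_2 (allFrom_trans rel1_3 (allFrom_trans rel1_4 (allFrom_trans rel1_5 (rel1_6))))))) (path1_0) permsKey1 (permsOKN_cons permsGen2 (allFrom_trans rel2_0 (allFrom_trans rel2_1 (allFrom_trans rel2_2 (allFrom_trans rel2_3 (rel2_4))))) (allFrom_trans path2_0 (allFrom_trans path2_200 (allFrom_trans path2_400 (allFrom_trans path2_600 (allFrom_trans path2_800 (path2_1000)))))) permsKey2 (rfl)))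

theorem rows_check : rows = relRows (chainRels chain top) ∧ chainExp chain = top.map (wexp vunit) := by decide +kernel

theorem lastWords : (nextWords (nextWords (nextWords (top) level0) level1) level2).isEmpty = true := by decide +kernel

theorem tables_check : tablesOK (chainRels chain top) rows chain top = true := by
  show tablesOK (chainRels chain top) rows [level0, level1, level2] top = true
  simp only [tablesOK, shape0, deds0, eqns0, shape1, deds1, eqns1, shape2, deds2, eqns2, lastWords, Bool.and_self]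

theorem lin_check : lin.ok rows 2 (chainEqns chain) = true :=
  LinCert.ok_of_parts linHead_check (allFrom_trans linUnit_0 (allFrom_trans linUnit_5 (allFrom_trans linUnit_10 (linUnit_15)))) (allFrom_trans linKind_0 (allFrom_trans linKind_2 (allFrom_trans linKind_4 (allFrom_trans linKind_6 (allFrom_trans linKind_8 (allFrom_trans linKind_10 (allFrom_trans linKind_12 (allFrom_trans linKind_14 (linKind_16)))))))))

end CfsgLib.Sporadic.MultCoTwoPart
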