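import Mathlib
import Cfsg.Agent.Lib.Sporadic.ChainCertificate
import Cfsg.Agent.Lib.Schur.TrieFast

/-!
# Coset table 0 of a chain
-/

set_option autoImplicit false
set_option maxRecDepth 100000
set_option maxHeartbeats 0
set_option Elab.async false

noncomputable section

namespace CfsgLib.Sporadic.MultCoTwoPart

open CfsgLib.Schur.Cert

/-- data -/
def next0 : Trie (ℕ) := .node (.node (.node (.node (.node (.node (.node (.node (.leaf 1) (.leaf 54)) (.leaf 40)) (.node (.leaf 16) (.leaf 48))) (.node (.node (.leaf 6) (.leaf 32)) (.node (.leaf 20) (.leaf 56)))) (.node (.node (.node (.node (.leaf 2) (.leaf 60)) (.leaf 44)) (.node (.leaf 24) (.leaf 43))) (.node (.node (.leaf 17) (.leaf 36)) (.node (.leaf 28) (.leaf 68))))) (.node (.node (.node (.node (.node (.leaf 4) (.leaf 66)) (.leaf 34)) (.node (.leaf 21) (.leaf 42))) (.node (.node (.leaf 7) (.leaf 50)) (.node (.leaf 26) (.leaf 58)))) (.node (.node (.node (.node (.leaf 8) (.leaf 70)) (.leaf 45)) (.node (.leaf 27) (.leaf 64))) (.node (.node (.leaf 15) (.leaf 51)) (.node (.leaf 37) (.leaf 62)))))) (.node (.node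 (.node (.node (.node (.node (.leaf 0) (.leaf 67)) (.leaf 33)) (.node (.leaf 12) (.leaf 59))) (.node (.node (.leaf 13) (.leaf 41)) (.node (.leaf 31) (.leaf 63)))) (.node (.node (.node (.node (.leaf 5) (.leaf 69)) (.leaf 30)) (.node (.leaf 18) (.leaf 53))) (.node (.node (.leaf 9) (.leaf 38)) (.node (.leaf 35) (.leaf 61))))) (.node (.node (.node (.node (.node (.leaf 3) (.leaf 65)) (.leaf 29)) (.node (.leaf 19) (.leaf 46))) (.node (.node (.leaf 11) (.leaf 52)) (.node (.leaf 22) (.leaf 49)))) (.node (.node (.node (.node (.leaf 10) (.leaf 71)) (.leaf 39)) (.node (.leaf 23) (.leaf 55))) (.node (.node (.leaf 14) (.leaf 47)) (.node (.leaf 25) (.leaf 57))))))) (.node (.node (.node (.node (.node (.node (.node (.leaf 2) (.leaf 68)) (.leaf 41)) (.node (.leaf 1) (.leaf 58))) (.node (.node (.leaf 12) (.leaf 48)) (.node (.leaf 30) (.leaf 66)))) (.node (.node (.node (.node (.leaf 6) (.leaf 64)) (.leaf 17)) (.node (.leaf 25) (.leaf 27))) (.node (.node (.leaf 18) (.leaf 54)) (.node (.leaf 34) (.leaf 21))))) (.node (.node (.node (.node (.node (.leaf 0) (.leaf 24)) (.leaf 8))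 (.node (.leaf 22) (.leaf 61))) (.node (.node (.leaf 15) (.leaf 51)) (.node (.leaf 32) (.leaf 67)))) (.node (.node (.node (.node (.leaf 9) (.leaf 71)) (.leaf 46)) (.node (.leaf 28) (.leaf 45))) (.node (.node (.leaf 20) (.leaf 56)) (.node (.leaf 38) (.leaf 52)))))) (.node (.node (.node (.node (.node (.node (.leaf 3) (.leaf 69)) (.leaf 42)) (.node (.leaf 13) (.leaf 60))) (.node (.node (.leaf 14) (.leaf 49)) (.node (.leaf 4) (.leaf 59)))) (.node (.node (.node (.node (.leaf 7) (.leaf 44)) (.leaf 31)) (.node (.leaf 26) (.leaf 63))) (.node (.node (.leaf 19) (.leaf 55)) (.node (.leaf 36) (.leaf 35))))) (.node (.node (.node (.node (.node (.leaf 5) (.leaf 70)) (.leaf 43)) (.node (.leaf 23) (.leaf 62))) (.node (.node (.leaf 16) (.leaf 53)) (.node (.leaf 33) (.leaf 37)))) (.node (.node (.node (.node (.leaf 11) (.leaf 40)) (.leaf 47)) (.node (.leaf 29) (.leaf 65))) (.node (.node (.leaf 10) (.leaf 57)) (.node (.leaf 39) (.leaf 50)))))))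

/-- data -/
def prev0 : Trie (ℕ) := .node (.node (.node (.node (.node (.node (.node (.node (.leaf 1) (.leaf 54)) (.leaf 40)) (.node (.leaf 16) (.leaf 48))) (.node (.node (.leaf 6) (.leaf 32)) (.node (.leaf 20) (.leaf 56)))) (.node (.node (.node (.node (.leaf 2) (.leaf 60)) (.leaf 44)) (.node (.leaf 24) (.leaf 43))) (.node (.node (.leaf 17) (.leaf 36)) (.node (.leaf 28) (.leaf 68))))) (.node (.node (.node (.node (.node (.leaf 4) (.leaf 66)) (.leaf 34)) (.node (.leaf 21) (.leaf 42))) (.node (.node (.leaf 7) (.leaf 50)) (.node (.leaf 26) (.leaf 58)))) (.node (.node (.node (.node (.leaf 8) (.leaf 70)) (.leaf 45)) (.node (.leaf 27) (.leaf 64))) (.node (.node (.leaf 15) (.leaf 51)) (.node (.leaf 37) (.leaf 62)))))) (.node (.node (.node (.node (.node (.node (.leaf 0) (.leaf 67)) (.leaf 33)) (.node (.leaf 12) (.leaf 59))) (.node (.node (.leaf 13) (.leaf 41)) (.node (.leaf 31) (.leaf 63)))) (.node (.node (.node (.node (.leaf 5) (.leaf 69)) (.leaf 30)) (.node (.leaf 18) (.leaf 53))) (.node (.node (.leaf 9) (.leaf 38)) (.node (.leaf 35) (.leaf 61))))) (.node (.node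 (.node (.node (.node (.leaf 3) (.leaf 65)) (.leaf 29)) (.node (.leaf 19) (.leaf 46))) (.node (.node (.leaf 11) (.leaf 52)) (.node (.leaf 22) (.leaf 49)))) (.node (.node (.node (.node (.leaf 10) (.leaf 71)) (.leaf 39)) (.node (.leaf 23) (.leaf 55))) (.node (.node (.leaf 14) (.leaf 47)) (.node (.leaf 25) (.leaf 57))))))) (.node (.node (.node (.node (.node (.node (.node (.leaf 2) (.leaf 68)) (.leaf 26)) (.node (.leaf 11) (.leaf 40))) (.node (.node (.leaf 34) (.leaf 71)) (.node (.leaf 66) (.leaf 46)))) (.node (.node (.node (.node (.leaf 25) (.leaf 64)) (.leaf 29)) (.node (.leaf 14) (.leaf 62))) (.node (.node (.leaf 8) (.leaf 69)) (.node (.leaf 22) (.leaf 49))))) (.node (.node (.node (.node (.node (.leaf 0) (.leaf 56)) (.leaf 28)) (.node (.leaf 12) (.leaf 63))) (.node (.node (.leaf 15) (.leaf 33)) (.node (.leaf 21) (.leaf 48)))) (.node (.node (.node (.node (.leaf 4) (.leaf 67)) (.leaf 30)) (.node (.leaf 18) (.leaf 44))) (.node (.node (.leaf 9) (.leaf 38)) (.node (.leaf 24) (.leaf 51)))))) (.node (.node (.node (.node (.node (.node (.leaf 16) (.leaf 55)) (.leaf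 27)) (.node (.leaf 36) (.leaf 41))) (.node (.node (.leaf 6) (.leaf 32)) (.node (.leaf 20) (.leaf 47)))) (.node (.node (.node (.node (.leaf 3) (.leaf 65)) (.leaf 59)) (.node (.leaf 60) (.leaf 43))) (.node (.node (.leaf 17) (.leaf 54)) (.node (.leaf 23) (.leaf 50))))) (.node (.node (.node (.node (.node (.leaf 1) (.leaf 58)) (.leaf 61)) (.node (.leaf 13) (.leaf 42))) (.node (.node (.leaf 7) (.leaf 35)) (.node (.leaf 52) (.leaf 57)))) (.node (.node (.node (.node (.leaf 5) (.leaf 70)) (.leaf 31)) (.node (.leaf 19) (.leaf 45))) (.node (.node (.leaf 10) (.leaf 39)) (.node (.leaf 37) (.leaf 53)))))))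

/-- data -/
def lab0 : Trie (Word) := .node (.node (.node (.node (.node (.node (.node (.node (.leaf ([])) (.leaf ([]))) (.leaf ([]))) (.node (.leaf ([(1, true), (1, true), (0, false), (1, true), (0, false), (1, true), (0, false), (1, false)])) (.leaf ([(1, true), (0, false), (1, true), (1, true), (1, true), (0, false), (1, false), (0, true), (1, false), (1, false), (0, false)])))) (.node (.node (.leaf ([])) (.leaf ([]))) (.node (.leaf ([])) (.leaf ([(1, true), (1, true), (1, true), (0, false), (1, true), (0, false), (1, true), (0, false), (1, false), (1, false), (0, true), (0, true)]))))) (.node (.node (.node (.node (.leaf ([])) (.leaf ([]))) (.leaf ([]))) (.node (.leaf ([])) (.leaf ([])))) (.node (.node (.leaf ([])) (.leaf ([]))) (.node (.leaf ([(1, false), (0, true), (1, false), (0, false), (1, false), (1, false), (0, false), (1, true), (0, true), (1, true), (0, true), (0, true)])) (.leaf ([])))))) (.node (.node (.node (.node (.node (.leaf ([])) (.leaf ([(1, false), (0, true), (1, false), (1, false), (0, false), (1, false), (0, true), (1, true), (1,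 true), (0, false), (1, true), (0, false)]))) (.leaf ([(0, true), (1, true), (1, true), (0, false), (1, true), (0, false), (1, true), (0, false), (1, false), (0, false)]))) (.node (.leaf ([])) (.leaf ([])))) (.node (.node (.leaf ([])) (.leaf ([]))) (.node (.leaf ([(1, true), (1, true), (0, true), (1, false), (0, true), (1, true), (0, true), (1, false), (0, false), (1, true), (1, true)])) (.leaf ([(1, true), (1, true), (0, false), (1, false), (0, true), (1, false), (0, true), (1, true), (0, false), (1, false), (1, false), (0, true)]))))) (.node (.node (.node (.node (.leaf ([])) (.leaf ([(1, false), (0, true), (1, false), (0, false), (1, false), (1, false), (0, false), (1, true), (0, true), (1, true), (0, true), (0, true)]))) (.leaf ([]))) (.node (.leaf ([])) (.leaf ([])))) (.node (.node (.leaf ([(1, false), (0, true), (1, true), (0, true), (1, false), (1, false), (0, true), (0, true), (1, false), (1, false), (0, true)])) (.leaf ([(0, true), (0, true), (0, true)]))) (.node (.leaf ([])) (.leaf ([(1, false), (0, false), (1, false), (0, false), (1, false), (1,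 false), (0, false), (1, true), (0, true), (1, true), (1, true), (0, false)]))))))) (.node (.node (.node (.node (.node (.node (.leaf ([])) (.leaf ([(0, false), (1, true), (1, true), (0, true), (1, true), (1, true), (0, false), (1, false), (0, true), (0, true), (1, true)]))) (.leaf ([(1, true), (0, false), (1, false), (0, true), (1, false), (0, true), (1, true), (1, true), (0, false), (1, false), (1, false), (0, false)]))) (.node (.leaf ([])) (.leaf ([])))) (.node (.node (.leaf ([])) (.leaf ([(0, true), (1, true), (1, true), (0, false), (1, true), (0, false), (1, true), (0, false), (1, false), (0, true), (0, true)]))) (.node (.leaf ([])) (.leaf ([(0, true), (0, true), (0, true)]))))) (.node (.node (.node (.node (.leaf ([(1, true), (0, false), (1, true), (0, false), (1, false), (1, false), (0, true), (1, true), (1, true), (1, true), (0, true), (0, true)])) (.leaf ([(1, false), (0, true), (1, false), (1, false), (0, false), (1, false), (0, true), (1, true), (1, true), (0, false), (1, true), (0, true), (0, true)]))) (.leaf ([]))) (.node (.leaf ([])) (.leaf ([(1,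 false), (0, true), (1, true), (1, true), (0, false), (1, true), (0, false), (1, true), (0, false), (1, false), (0, false), (1, true)])))) (.node (.node (.leaf ([])) (.leaf ([]))) (.node (.leaf ([])) (.leaf ([(1, false), (1, false), (0, true), (1, true), (0, true), (1, false), (0, true), (1, false), (0, false), (1, false), (0, true), (1, true), (0, true)])))))) (.node (.node (.node (.node (.node (.leaf ([(1, false), (1, false), (1, false), (0, true), (1, false), (0, true), (1, true), (0, true), (1, false), (0, true), (0, true)])) (.leaf ([(1, false), (0, true), (1, true), (0, true), (1, false), (1, false), (0, true), (0, true), (1, false), (1, false), (0, true)]))) (.leaf ([]))) (.node (.leaf ([(1, true), (0, true), (1, true), (1, true), (1, true), (0, false), (1, true), (0, false), (1, false), (0, true), (0, true), (1, false), (0, true)])) (.leaf ([(0, true), (0, true), (0, true)])))) (.node (.node (.leaf ([(1, false), (1, false), (0, false), (1, true), (0, true), (1, true), (0, false), (1, false), (0, true), (1, false), (0, false)])) (.leaf ([]))) (.node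 (.leaf ([])) (.leaf ([]))))) (.node (.node (.node (.node (.leaf ([])) (.leaf ([(0, true), (1, false), (1, false), (0, true), (1, false), (0, true), (1, false), (0, true), (1, true), (0, true), (0, true)]))) (.leaf ([(1, false), (1, false), (1, false), (0, true), (1, false), (0, true), (1, true), (0, true), (1, false), (0, true), (0, true)]))) (.node (.leaf ([(1, true), (1, true), (1, true), (0, false), (1, true), (0, false), (1, true), (0, false), (1, false), (1, false), (0, true), (0, true)])) (.leaf ([(1, false), (1, false), (0, true), (1, true), (0, true), (1, false), (0, true), (1, false), (0, false), (1, false), (0, true), (1, true), (0, true)])))) (.node (.node (.leaf ([(0, false), (1, true), (1, true), (0, true), (1, true), (1, true), (0, false), (1, false), (0, true), (0, true), (1, true)])) (.leaf ([(1, false), (0, true), (1, false), (0, false), (1, false), (1, false), (0, false), (1, true), (0, true), (1, true), (0, true), (0, true)]))) (.node (.leaf ([])) (.leaf ([(0, true), (0, true), (0, true)])))))))) (.node (.node (.node (.node (.node (.node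 (.node (.leaf ([])) (.leaf ([(1, false), (0, false), (1, false), (1, false), (0, false), (1, true), (1, true), (0, false), (1, false), (0, true), (1, true), (0, true)]))) (.leaf ([]))) (.node (.leaf ([(0, true), (0, true), (0, true)])) (.leaf ([])))) (.node (.node (.leaf ([])) (.leaf ([]))) (.node (.leaf ([])) (.leaf ([]))))) (.node (.node (.node (.node (.leaf ([])) (.leaf ([(1, true), (1, true)]))) (.leaf ([(1, false), (0, true), (0, true), (0, true)]))) (.node (.leaf ([])) (.leaf ([(1, true), (0, false), (1, false), (1, false), (0, true), (1, true), (0, true)])))) (.node (.node (.leaf ([])) (.leaf ([]))) (.node (.leaf ([])) (.leaf ([(0, true), (0, true), (0, true)])))))) (.node (.node (.node (.node (.node (.leaf ([(0, true)])) (.leaf ([(0, true), (0, true), (0, true)]))) (.leaf ([(0, true), (0, true), (0, true)]))) (.node (.leaf ([])) (.leaf ([])))) (.node (.node (.leaf ([])) (.leaf ([]))) (.node (.leaf ([])) (.leaf ([]))))) (.node (.node (.node (.node (.leaf ([])) (.leaf ([]))) (.leaf ([]))) (.node (.leaf ([])) (.leaf ([(0, true)])))) (.node (.node (.leaf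 ([])) (.leaf ([]))) (.node (.leaf ([])) (.leaf ([(0, false), (1, false), (0, true), (0, true), (1, true), (1, true), (0, true), (1, false)]))))))) (.node (.node (.node (.node (.node (.node (.leaf ([])) (.leaf ([]))) (.leaf ([]))) (.node (.leaf ([(1, true)])) (.leaf ([])))) (.node (.node (.leaf ([])) (.leaf ([]))) (.node (.leaf ([(0, true), (0, true), (0, true)])) (.leaf ([(1, false), (0, true), (1, true), (0, true), (1, false), (1, false), (0, false), (1, false), (1, false), (0, true), (0, true)]))))) (.node (.node (.node (.node (.leaf ([])) (.leaf ([(0, true), (0, true)]))) (.leaf ([(0, true), (0, true), (1, false), (1, false), (0, true), (1, false), (0, true), (1, true), (0, true), (1, false)]))) (.node (.leaf ([])) (.leaf ([])))) (.node (.node (.leaf ([])) (.leaf ([]))) (.node (.leaf ([])) (.leaf ([(0, true), (1, true), (1, true), (0, false), (1, false), (1, false), (0, false), (1, true), (0, false), (1, false), (0, true)])))))) (.node (.node (.node (.node (.node (.leaf ([])) (.leaf ([]))) (.leaf ([]))) (.node (.leaf ([])) (.leaf ([])))) (.node (.node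 (.leaf ([])) (.leaf ([]))) (.node (.leaf ([])) (.leaf ([(0, true), (1, true), (0, true), (1, false), (1, false), (1, false), (0, true), (1, false), (1, false), (0, false), (1, true)]))))) (.node (.node (.node (.node (.leaf ([])) (.leaf ([(0, true), (0, true), (0, true)]))) (.leaf ([]))) (.node (.leaf ([])) (.leaf ([])))) (.node (.node (.leaf ([(0, true), (1, false), (0, true), (1, true), (0, true), (1, false), (1, false), (0, false), (1, false), (1, false), (0, true)])) (.leaf ([]))) (.node (.leaf ([])) (.leaf ([(1, true), (0, true), (1, false), (1, false), (1, false), (0, true), (1, false), (1, false), (1, false), (0, false), (1, true)]))))))))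

/-- data -/
def val0 : Trie (Vec) := .node (.node (.node (.node (.node (.node (.node (.node (.leaf ([])) (.leaf ([0, 0, 0, 0, 0, 0, 0, 0, 0, 0, 1]))) (.leaf ([]))) (.node (.leaf ([51, (-21), 71, 1, (-10), 1, (-1), 1, 1, 0, (-2), 0, 0, 1, 0, (-1)])) (.leaf ([(-3097), 1380, (-4256), 157, 839, (-409), 367, (-103), (-143), (-212), (-16), 4, 4, 11, 10, (-3), (-10)])))) (.node (.node (.leaf ([0, 0, 0, 0, 0, 0, 0, 0, 0, 0, 1])) (.leaf ([0, 0, 0, 0, 0, 0, 0, 0, 0, 0, 1]))) (.node (.leaf ([0, 0, 0, 0, 0, 0, 0, 0, 0, 0, 1])) (.leaf ([953, (-439), 1403, (-19), (-87), 183, (-40), 11, 31, 40, (-1), 0, 1, (-3), (-1), 1, 2]))))) (.node (.node (.node (.node (.leaf ([0, 0, 0, 0, 0, 0, 0, 0, 0, 0, 1])) (.leaf ([0, 0, 0, 0, 0, 0, 0, 0, 0, 0, 1]))) (.leaf ([]))) (.node (.leaf ([])) (.leaf ([0, 0, 0, 0, 0, 0, 0, 0, 0, 0, 1])))) (.node (.node (.leaf ([])) (.leaf ([0, 0, 0, 0, 0, 0, 0, 0, 0, 0, 1]))) (.node (.leaf ([(-790), 365, (-1184), 61, 75, (-170), 47, (-15), (-35), (-37), 2, 2, (-1), 4, (-2), (-1), (-2)])) (.leaf ([])))))) (.node (.node (.node (.node (.node (.leaf ([]))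 (.leaf ([323, (-131), 467, (-74), (-104), 19, (-27), 12, 11, 16, (-1), 0, 1, (-2), (-1), 1, 1]))) (.leaf ([(-32), 13, (-46), 4, 8, (-1), 1, (-1), 0, 0, (-1), 0, 1, (-1), 0, 1]))) (.node (.leaf ([])) (.leaf ([0, 0, 0, 0, 0, 0, 0, 0, 0, 0, 1])))) (.node (.node (.leaf ([0, 0, 0, 0, 0, 0, 0, 0, 0, 0, 1])) (.leaf ([]))) (.node (.leaf ([5353, (-2330), 6674, (-1218), (-3487), 380, (-1208), 377, 421, 556, 49, (-13), (-7), (-55), 2, 47, 34])) (.leaf ([(-850), 391, (-1290), 91, 75, (-188), 46, (-14), (-35), (-41), 2, 2, (-1), 4, (-2), (-1), (-2)]))))) (.node (.node (.node (.node (.leaf ([])) (.leaf ([1327, (-609), 2049, (-93), (-16), 296, (-33), 8, 41, 48, (-4), (-2), 1, (-3), 2, 1, 2]))) (.leaf ([]))) (.node (.leaf ([])) (.leaf ([])))) (.node (.node (.leaf ([1, (-1), 3, (-3), 0, 2, 0, 0, 0, 0, 1, 0, 0, 0, (-1)])) (.leaf ([104, (-49), 202, (-19), 58, 44, 14, (-3), 0, 1, (-3), (-2), 0, 0, 3]))) (.node (.leaf ([])) (.leaf ([910, (-477), 1480, 44, 222, 391, (-12), 5, 31, 81, (-14), (-8), 0, (-2), 12, (-1), 3]))))))) (.node (.node (.node (.node (.node (.node (.leaf ([0,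 0, 0, 0, 0, 0, 0, 0, 0, 0, 1])) (.leaf ([1237, (-584), 1784, 228, 85, 261, (-63), 26, 35, 82, (-7), (-4), 1, (-1), (-9), (-12), 4]))) (.leaf ([(-263), 151, (-386), (-102), (-53), (-103), (-5), 3, (-15), 6, 1, 0, (-1), 1, 0, 1]))) (.node (.leaf ([0, 0, 0, 0, 0, 0, 0, 0, 0, 0, 1])) (.leaf ([])))) (.node (.node (.leaf ([])) (.leaf ([(-136), 61, (-248), 23, (-50), (-43), (-13), 2, 0, (-1), 2, 2, 1, (-1), (-3), 1]))) (.node (.leaf ([])) (.leaf ([104, (-49), 202, (-19), 58, 44, 14, (-3), 0, 1, (-3), (-2), 0, 0, 3]))))) (.node (.node (.node (.node (.leaf ([(-354), 161, (-519), 15, 45, (-61), 19, (-4), (-15), (-8), (-2), 0, 0, 2, 1, (-1), (-1)])) (.leaf ([73, (-29), 335, 58, 439, 88, 134, (-41), (-38), (-38), (-7), (-1), 1, 6, 2, (-7), (-4)]))) (.leaf ([0, 0, 0, 0, 0, 0, 0, 0, 0, 0, 1]))) (.node (.leaf ([0, 0, 0, 0, 0, 0, 0, 0, 0, 0, 1])) (.leaf ([(-22), 18, (-24), (-24), (-1), (-15), 5, (-1), (-8), 6, (-1), 0, (-1), 2, 0, (-1)])))) (.node (.node (.leaf ([0, 0, 0, 0, 0, 0, 0, 0, 0, 0, 1])) (.leaf ([0, 0, 0, 0, 0, 0, 0, 0, 0, 0, 1]))) (.node (.leaf ([])) (.leaf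 ([334, (-165), 572, (-103), 11, 127, 4, 0, 11, 16, (-3), (-2), 0, (-1), 2, 1, 1])))))) (.node (.node (.node (.node (.node (.leaf ([0, 0, 0, 0, 0, 0, 0, 0, 0, 0, 0, 0, 0, 0, 0, 1])) (.leaf ([736, (-348), 1074, 117, 52, 161, (-33), 10, 21, 40, (-1), (-2), (-1), 1, (-6), (-6), 2]))) (.leaf ([0, 0, 0, 0, 0, 0, 0, 0, 0, 0, 1]))) (.node (.leaf ([(-215), 104, (-298), 47, 96, (-46), 27, (-6), (-15), (-10), (-3), 0, 1, 1, 1, (-1), (-1)])) (.leaf ([(-104), 48, (-202), 19, (-58), (-42), (-14), 3, 0, (-1), 4, 2, 0, 0, (-3)])))) (.node (.node (.leaf ([379, (-171), 559, (-63), (-82), 70, (-33), 8, 19, 17, 0, 0, 0, (-1), (-1), 1, 1])) (.leaf ([]))) (.node (.leaf ([0, 0, 0, 0, 0, 0, 0, 0, 0, 0, 1])) (.leaf ([0, 0, 0, 0, 0, 0, 0, 0, 0, 0, 1]))))) (.node (.node (.node (.node (.leaf ([])) (.leaf ([(-617), 312, (-821), (-395), (-208), (-152), 43, (-23), (-13), (-70), 8, 6, 1, (-3), 14, 19, (-4)]))) (.leaf ([(-147), 60, (-215), (-3), 8, (-10), 4, 0, (-2), (-4), (-3), 0, 1, 0, 0, (-1)]))) (.node (.leaf ([(-1148), 529, (-1699), 4, 75, (-221), 45, (-13), (-39), (-40), (-1), 0,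 (-1), 4, 1, (-1), (-2)])) (.leaf ([(-286), 138, (-468), 95, 34, (-93), 10, (-4), (-13), (-16), 0, 2, 1, 1, (-2), (-1), (-1)])))) (.node (.node (.leaf ([0, 0, 0, 0, 0, 0, 0, 0, 0, 0, 0, 0, 0, 0, 1])) (.leaf ([990, (-457), 1509, (-73), (-49), 220, (-39), 12, 37, 40, (-4), (-2), 1, (-3), 2, 1, 2]))) (.node (.leaf ([0, 0, 0, 0, 0, 0, 0, 0, 0, 0, 1])) (.leaf ([(-104), 48, (-202), 19, (-58), (-42), (-14), 3, 0, (-1), 4, 2, 0, 0, (-3)])))))))) (.node (.node (.node (.node (.node (.node (.node (.leaf ([])) (.leaf ([627, (-298), 800, 182, (-76), 87, (-63), 18, 23, 43, 1, 3, 1, 0, (-12), (-6), 2]))) (.leaf ([]))) (.node (.leaf ([94, (-46), 184, (-13), 58, 44, 14, (-3), 0, 1, (-3), (-1), 0, 0, 3])) (.leaf ([])))) (.node (.node (.leaf ([])) (.leaf ([]))) (.node (.leaf ([])) (.leaf ([]))))) (.node (.node (.node (.node (.leaf ([])) (.leaf ([220, (-100), 428, (-50), 116, 86, 28, (-6), 0, 2, (-3), (-4), (-1), 0, 6]))) (.leaf ([(-104), 48, (-202), 19, (-58), (-42), (-14), 3, 0, (-1), 3, 3, 0, 0, (-3)]))) (.node (.leaf ([])) (.leaf ([(-1554), 667, (-1976), 193, 786, (-99),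 296, (-92), (-101), (-143), (-10), 4, 2, 13, (-1), (-10), (-8)])))) (.node (.node (.leaf ([])) (.leaf ([]))) (.node (.leaf ([])) (.leaf ([116, (-52), 226, (-31), 58, 44, 14, (-3), 0, 1, (-3), (-1), 0, 0, 3])))))) (.node (.node (.node (.node (.node (.leaf ([])) (.leaf ([104, (-49), 202, (-19), 58, 44, 14, (-3), 0, 1, (-3), (-1), 0, 0, 3]))) (.leaf ([(-104), 48, (-202), 19, (-58), (-42), (-14), 3, 0, (-1), 3, 3, 0, 0, (-3)]))) (.node (.leaf ([])) (.leaf ([])))) (.node (.node (.leaf ([])) (.leaf ([]))) (.node (.leaf ([])) (.leaf ([]))))) (.node (.node (.node (.node (.leaf ([])) (.leaf ([]))) (.leaf ([]))) (.node (.leaf ([])) (.leaf ([(-208), 97, (-404), 38, (-116), (-86), (-28), 6, 0, (-2), 3, 4, 0, 1, (-6)])))) (.node (.node (.leaf ([])) (.leaf ([]))) (.node (.leaf ([])) (.leaf ([3675, (-1534), 5132, (-865), (-1461), 316, (-514), 163, 196, 257, 21, (-7), (-1), (-24), (-3), 16, 13]))))))) (.node (.node (.node (.node (.node (.node (.leaf ([])) (.leaf ([]))) (.leaf ([]))) (.node (.leaf ([])) (.leaf ([])))) (.node (.node (.leaf ([])) (.leaf ([]))) (.node (.leaf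 ([104, (-49), 202, (-19), 58, 44, 14, (-3), 0, 1, (-3), (-1), 0, 0, 3])) (.leaf ([618, (-226), 544, (-437), (-1048), (-121), (-300), 90, 77, 121, 21, 1, (-3), (-15), (-2), 16, 9]))))) (.node (.node (.node (.node (.leaf ([])) (.leaf ([312, (-146), 606, (-57), 174, 130, 42, (-9), 0, 3, (-6), (-5), 0, (-1), 9]))) (.leaf ([510, (-230), 743, (-61), (-103), 87, (-40), 9, 21, 23, 3, 1, 0, (-2), (-5), 0, 2]))) (.node (.leaf ([])) (.leaf ([])))) (.node (.node (.leaf ([])) (.leaf ([]))) (.node (.leaf ([])) (.leaf ([1002, (-425), 1415, (-279), (-411), 117, (-157), 44, 65, 71, 2, (-3), 1, (-9), 4, 8, 4])))))) (.node (.node (.node (.node (.node (.leaf ([])) (.leaf ([]))) (.leaf ([]))) (.node (.leaf ([])) (.leaf ([])))) (.node (.node (.leaf ([])) (.leaf ([]))) (.node (.leaf ([])) (.leaf ([(-648), 285, (-885), 43, 199, (-66), 61, (-13), (-24), (-31), (-9), (-3), 0, 3, 9, 0, (-2)]))))) (.node (.node (.node (.node (.leaf ([])) (.leaf ([605, (-276), 978, (-11), 98, 148, 8, (-5), 13, 11, (-3), (-1), 0, 0, 3]))) (.leaf ([]))) (.node (.leaf ([])) (.leaf ([])))) (.node (.node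 (.leaf ([0, (-1), 0, 0, 0, 2, 0, 0, 0, 0, 1, 1, 0, 0, (-1)])) (.leaf ([]))) (.node (.leaf ([])) (.leaf ([(-1702), 781, (-2365), 257, 621, (-268), 202, (-56), (-110), (-72), (-4), 5, 0, 13, (-3), (-10), (-7)]))))))))

/-- data -/
def rank0 : Trie (ℕ) := .node (.node (.node (.node (.node (.node (.node (.node (.leaf 0) (.leaf 21)) (.leaf 0)) (.node (.leaf 32) (.leaf 65))) (.node (.node (.leaf 5) (.leaf 15)) (.node (.leaf 10) (.leaf 48)))) (.node (.node (.node (.node (.leaf 4) (.leaf 22)) (.leaf 0)) (.node (.leaf 0) (.leaf 19))) (.node (.node (.leaf 0) (.leaf 16)) (.node (.leaf 56) (.leaf 0))))) (.node (.node (.node (.node (.node (.leaf 0) (.leaf 51)) (.leaf 39)) (.node (.leaf 0) (.leaf 18))) (.node (.node (.leaf 6) (.leaf 0)) (.node (.leaf 67) (.leaf 73)))) (.node (.node (.node (.node (.leaf 0) (.leaf 71)) (.leaf 0)) (.node (.leaf 0) (.leaf 0))) (.node (.node (.leaf 25) (.leaf 29)) (.node (.leaf 0) (.leaf 61)))))) (.node (.node (.node (.node (.node (.node (.leaf 3) (.leaf 69)) (.leaf 57)) (.node (.leaf 8) (.leaf 0))) (.node (.node (.leaf 0) (.leaf 46)) (.node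 (.leaf 0) (.leaf 30)))) (.node (.node (.node (.node (.leaf 41) (.leaf 58)) (.leaf 14)) (.node (.leaf 9) (.leaf 43))) (.node (.node (.leaf 7) (.leaf 17)) (.node (.leaf 0) (.leaf 53))))) (.node (.node (.node (.node (.node (.leaf 24) (.leaf 68)) (.leaf 13)) (.node (.leaf 40) (.leaf 34))) (.node (.node (.leaf 33) (.leaf 0)) (.node (.leaf 11) (.leaf 20)))) (.node (.node (.node (.node (.leaf 0) (.leaf 72)) (.leaf 31)) (.node (.leaf 55) (.leaf 49))) (.node (.node (.leaf 23) (.leaf 44)) (.node (.leaf 12) (.leaf 35))))))) (.node (.node (.node (.node (.node (.node (.node (.leaf 0) (.leaf 59)) (.leaf 0)) (.node (.leaf 27) (.leaf 0))) (.node (.node (.leaf 0) (.leaf 0)) (.node (.leaf 0) (.leaf 0)))) (.node (.node (.node (.node (.leaf 0) (.leaf 52)) (.leaf 38)) (.node (.leaf 0) (.leaf 62))) (.node (.node (.leaf 0) (.leaf 0)) (.node (.leaf 0) (.leaf 47))))) (.node (.node (.node (.node (.node (.leaf 1) (.leaf 36)) (.leaf 37)) (.node (.leaf 0) (.leaf 0))) (.node (.node (.leaf 0) (.leaf 0)) (.node (.leaf 0) (.leaf 0)))) (.node (.node (.node (.node (.leaf 0) (.leaf 0)) (.leaf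 0)) (.node (.leaf 0) (.leaf 42))) (.node (.node (.leaf 0) (.leaf 0)) (.node (.leaf 0) (.leaf 63)))))) (.node (.node (.node (.node (.node (.node (.leaf 0) (.leaf 0)) (.leaf 0)) (.node (.leaf 2) (.leaf 0))) (.node (.node (.leaf 0) (.leaf 0)) (.node (.leaf 28) (.leaf 64)))) (.node (.node (.node (.node (.leaf 0) (.leaf 50)) (.leaf 45)) (.node (.leaf 0) (.leaf 0))) (.node (.node (.leaf 0) (.leaf 0)) (.node (.leaf 0) (.leaf 60))))) (.node (.node (.node (.node (.node (.leaf 0) (.leaf 0)) (.leaf 0)) (.node (.leaf 0) (.leaf 0))) (.node (.node (.leaf 0) (.leaf 0)) (.node (.leaf 0) (.leaf 54)))) (.node (.node (.node (.node (.leaf 0) (.leaf 70)) (.leaf 0)) (.node (.leaf 0) (.leaf 0))) (.node (.node (.leaf 26) (.leaf 0)) (.node (.leaf 0) (.leaf 66)))))))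

/-- data -/
def tree0 : Trie (ℕ × ℕ) := .node (.node (.node (.node (.node (.node (.node (.leaf (0, 0)) (.leaf (54, 0))) (.leaf (26, 1))) (.node (.leaf (11, 1)) (.leaf (40, 1)))) (.node (.node (.leaf (6, 0)) (.leaf (32, 0))) (.node (.leaf (20, 0)) (.leaf (46, 1))))) (.node (.node (.node (.node (.leaf (2, 0)) (.leaf (60, 0))) (.leaf (29, 1))) (.node (.leaf (14, 1)) (.leaf (43, 0)))) (.node (.node (.leaf (8, 1)) (.leaf (36, 0))) (.node (.leaf (22, 1)) (.leaf (49, 1)))))) (.node (.node (.node (.node (.node (.leaf (0, 1)) (.leaf (56, 1))) (.leaf (28, 1))) (.node (.leaf (12, 1)) (.leaf (42, 0)))) (.node (.node (.leaf (7, 0)) (.leaf (33, 1))) (.node (.leaf (21, 1)) (.leaf (48, 1))))) (.node (.node (.node (.node (.leaf (4, 1)) (.leaf (67, 1))) (.leaf (30, 1))) (.node (.leaf (18, 1)) (.leaf (44, 1)))) (.node (.node (.leaf (9, 1)) (.leaf (38, 1))) (.node (.leaf (24, 1)) (.leaf (51, 1))))))) (.node (.node (.node (.node (.node (.node (.leaf (0, 0)) (.leaf (55, 1))) (.leaf (27, 1))) (.node (.leaf (12, 0)) (.leaf (41, 1)))) (.node (.node (.leaf (6, 1)) (.leaf (32, 1)))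 (.node (.leaf (20, 1)) (.leaf (47, 1))))) (.node (.node (.node (.node (.leaf (3, 1)) (.leaf (65, 1))) (.leaf (30, 0))) (.node (.leaf (18, 0)) (.leaf (43, 1)))) (.node (.node (.leaf (9, 0)) (.leaf (38, 0))) (.node (.leaf (23, 1)) (.leaf (50, 1)))))) (.node (.node (.node (.node (.node (.leaf (1, 1)) (.leaf (58, 1))) (.leaf (29, 0))) (.node (.leaf (13, 1)) (.leaf (42, 1)))) (.node (.node (.leaf (7, 1)) (.leaf (35, 1))) (.node (.leaf (22, 0)) (.leaf (49, 0))))) (.node (.node (.node (.node (.leaf (5, 1)) (.leaf (70, 1))) (.leaf (31, 1))) (.node (.leaf (19, 1)) (.leaf (45, 1)))) (.node (.node (.leaf (10, 1)) (.leaf (39, 1))) (.node (.leaf (25, 0)) (.leaf (53, 1)))))))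

/-- data -/
def cert0 : Trie (ℕ × ℕ × ℕ) := .node (.node (.node (.node (.node (.node (.node (.leaf (0, 0, 1)) (.leaf (7, 32, 2))) (.leaf (8, 1, 14))) (.node (.leaf (2, 38, 1)) (.leaf (3, 36, 11)))) (.node (.node (.node (.leaf (2, 18, 1)) (.leaf (5, 32, 3))) (.leaf (5, 0, 3))) (.node (.leaf (2, 14, 0)) (.leaf (5, 30, 12))))) (.node (.node (.node (.node (.leaf (2, 6, 1)) (.leaf (3, 64, 11))) (.leaf (3, 22, 2))) (.node (.leaf (2, 54, 1)) (.leaf (4, 38, 10)))) (.node (.node (.leaf (2, 29, 1)) (.leaf (8, 0, 13))) (.node (.leaf (3, 20, 11)) (.leaf (6, 66, 40)))))) (.node (.node (.node (.node (.node (.leaf (2, 0, 1)) (.leaf (7, 35, 56))) (.leaf (2, 57, 1))) (.node (.leaf (2, 43, 1)) (.leaf (4, 5, 8)))) (.node (.node (.leaf (2, 22, 1)) (.leaf (5, 29, 3))) (.node (.leaf (3, 4, 10)) (.leaf (6, 49, 55))))) (.node (.node (.node (.node (.leaf (2, 9, 1)) (.leaf (5, 18, 6))) (.leaf (4, 2, 4))) (.node (.leaf (6, 0, 6)) (.leaf (5, 9, 3)))) (.node (.node (.leaf (2, 32, 1)) (.leaf (3, 21, 6))) (.node (.leaf (4, 0, 10)) (.leaf (7, 29, 3))))))) (.node (.node (.node (.node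 (.node (.node (.leaf (1, 0, 6)) (.leaf (7, 33, 3))) (.leaf (2, 46, 1))) (.node (.leaf (2, 42, 1)) (.leaf (3, 44, 6)))) (.node (.node (.leaf (2, 20, 1)) (.leaf (5, 2, 8))) (.node (.leaf (3, 2, 9)) (.leaf (6, 44, 64))))) (.node (.node (.node (.node (.leaf (2, 7, 1)) (.leaf (3, 65, 12))) (.leaf (3, 29, 1))) (.node (.leaf (2, 60, 1)) (.leaf (5, 6, 7)))) (.node (.node (.leaf (2, 30, 1)) (.leaf (3, 18, 11))) (.node (.leaf (3, 25, 11)) (.leaf (7, 25, 28)))))) (.node (.node (.node (.node (.node (.leaf (2, 2, 1)) (.leaf (3, 32, 11))) (.leaf (3, 8, 10))) (.node (.leaf (2, 49, 1)) (.leaf (4, 6, 7)))) (.node (.node (.leaf (2, 25, 1)) (.leaf (6, 16, 52))) (.node (.leaf (3, 10, 6)) (.leaf (6, 51, 61))))) (.node (.node (.node (.node (.leaf (2, 12, 1)) (.leaf (5, 23, 9))) (.leaf (4, 7, 6))) (.node (.leaf (7, 0, 2)) (.leaf (5, 25, 12)))) (.node (.node (.leaf (2, 36, 1)) (.leaf (3, 30, 3))) (.node (.leaf (5, 3, 9)) (.leaf (7, 31, 16)))))))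

/-- data -/
def pot0 : Trie (Vec) := .node (.node (.node (.node (.node (.node (.node (.leaf ([])) (.leaf ([4, 8]))) (.leaf ([3, 6]))) (.node (.leaf ([1, 5])) (.leaf ([4, 7])))) (.node (.node (.leaf ([2, 2])) (.leaf ([4, 6]))) (.node (.leaf ([2, 5])) (.leaf ([2, 9]))))) (.node (.node (.node (.node (.leaf ([1, 1])) (.leaf ([4, 9]))) (.leaf ([2, 7]))) (.node (.leaf ([1, 5])) (.leaf ([4, 7])))) (.node (.node (.leaf ([2, 3])) (.leaf ([3, 7]))) (.node (.leaf ([2, 6])) (.leaf ([3, 9])))))) (.node (.node (.node (.node (.node (.leaf ([0, 1])) (.leaf ([2, 10]))) (.leaf ([2, 7]))) (.node (.leaf ([2, 4])) (.leaf ([4, 7])))) (.node (.node (.leaf ([2, 3])) (.leaf ([3, 7]))) (.node (.leaf ([3, 5])) (.leaf ([4, 8]))))) (.node (.node (.node (.node (.leaf ([1, 2])) (.leaf ([4, 10]))) (.leaf ([2, 7]))) (.node (.leaf ([2, 5])) (.leaf ([3, 8])))) (.node (.node (.leaf ([1, 4])) (.leaf ([2, 8]))) (.node (.leaf ([2, 6])) (.leaf ([3, 9]))))))) (.node (.node (.node (.node (.node (.node (.leaf ([1])) (.leaf ([3, 9]))) (.leaf ([3, 6]))) (.node (.leaf ([3, 3])) (.leaf ([3, 8]))))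 (.node (.node (.leaf ([1, 3])) (.leaf ([3, 7]))) (.node (.leaf ([1, 6])) (.leaf ([2, 9]))))) (.node (.node (.node (.node (.leaf ([1, 2])) (.leaf ([3, 10]))) (.leaf ([3, 6]))) (.node (.leaf ([3, 4])) (.leaf ([3, 8])))) (.node (.node (.leaf ([2, 3])) (.leaf ([3, 7]))) (.node (.leaf ([2, 6])) (.leaf ([4, 8])))))) (.node (.node (.node (.node (.node (.leaf ([1, 1])) (.leaf ([4, 9]))) (.leaf ([3, 6]))) (.node (.leaf ([2, 4])) (.leaf ([3, 8])))) (.node (.node (.leaf ([1, 4])) (.leaf ([3, 7]))) (.node (.leaf ([3, 5])) (.leaf ([4, 8]))))) (.node (.node (.node (.node (.leaf ([1, 3])) (.leaf ([4, 11]))) (.leaf ([2, 7]))) (.node (.leaf ([2, 5])) (.leaf ([3, 8])))) (.node (.node (.leaf ([2, 4])) (.leaf ([2, 8]))) (.node (.leaf ([2, 6])) (.leaf ([3, 9])))))))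

/-- the table -/
def table0 : Table where
  size := 72
  ngen := 2
  next g x := next0.getK (2 * g + x)
  prev g x := prev0.getK (2 * g + x)
  lab g x := lab0.getK (2 * g + x)
  val g x := val0.getK (2 * g + x)
  rank g x := rank0.getK (2 * g + x)
  tree g := tree0.getK g
  cert j := cert0.getK j
  nded := 73
  rels := [⟨[(1, true), (1, true)], [(0, true)], []⟩,
    ⟨[(1, true), (0, true), (1, true), (0, true), (1, true), (0, true), (1, true), (0, false), (1, false), (1, false), (0, false), (1, false)], [(1, true)], []⟩,
    ⟨[(0, true), (0, true)], [], [0, 0, 0, 0, 0, 0, 0, 0, 0, 0, 1]⟩,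
    ⟨[(1, true), (1, true), (1, true), (0, true), (1, true), (1, true), (1, true), (0, true), (1, true), (1, true), (1, true), (0, false), (1, false), (1, false), (1, false), (0, false)], [], [0, 0, 0, 0, 0, 0, 0, 0, 0, 0, 0, 1]⟩,
    ⟨[(0, true), (1, true), (0, true), (1, false), (0, true), (1, true), (0, true), (1, false), (0, true), (1, true), (0, true), (1, false), (0, true), (1, true), (0, true), (1, false)], [], [0, 0, 0, 0, 0, 0, 0, 0, 0, 0, 0, 0, 1]⟩,
    ⟨[(0, true), (1, true), (1, true), (0, true), (1, false), (1, false), (0, true), (1, true), (1, true), (0, true), (1, false), (1, false), (0, true), (1, true), (1, true), (0, true), (1, false), (1, false)], [], [0, 0, 0, 0, 0, 0, 0, 0, 0, 0, 0, 0, 0, 1]⟩,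
    ⟨[(0, true), (1, true), (1, true), (1, true), (0, true), (1, true), (0, true), (1, false), (0, true), (1, false), (0, false), (1, false), (0, false), (1, false), (0, false), (1, false), (1, false), (1, false), (1, false), (0, true), (1, true), (0, true), (1, true), (0, true), (1, true), (0, false), (1, false), (1, false), (0, false), (1, true), (1, true), (0, true), (1, true), (1, true), (0, true), (1, false), (0, false), (1, false), (0, false), (1, true), (0, true), (1, false), (0, false), (1, false), (0, false), (1, false), (0, false), (1, false), (1, false), (0, true), (1, true), (1, true), (0, true), (1, false), (0, false), (1, false), (0, false), (1, true), (0, true), (1, false), (0, false), (1, false), (0, false), (1, false), (0, false), (1, true)], [], [0, 0, 0, 0, 0, 0, 0, 0, 0, 0, 0, 0, 0, 0, 1]⟩,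
    ⟨[(0, true), (1, true), (0, true), (1, false), (0, false), (1, false), (1, false), (1, false), (0, true), (1, true), (0, true), (1, true), (0, true), (1, true), (0, false), (1, false), (1, false), (0, false), (1, false), (1, false), (0, true), (1, true), (1, true), (0, true), (1, false), (0, false), (1, false), (0, false), (1, false), (0, false), (1, false), (1, false), (0, true), (1, true), (0, true), (1, true), (0, true), (1, true), (0, false), (1, false), (1, false), (0, false), (1, false), (1, false), (0, true), (1, true), (0, true), (1, true), (0, true), (1, true), (0, false), (1, false), (0, true), (1, true), (0, true), (1, true), (0, false), (1, false), (0, true), (1, true), (0, true), (1, true), (0, false), (1, false), (1, false), (0, false), (1, false)], [], [0, 0, 0, 0, 0, 0, 0, 0, 0, 0, 0, 0, 0, 0, 0, 1]⟩,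
    ⟨[(0, true), (1, true), (0, true), (1, true), (0, true), (1, true), (0, true), (1, true), (0, true), (1, true), (0, true), (1, true), (0, true), (1, true), (0, true), (1, true), (0, true), (1, true)], [], [0, 0, 0, 0, 0, 0, 0, 0, 0, 0, 0, 0, 0, 0, 0, 0, 1]⟩]
  pot g := pot0.getK g
  innerSize := 40320
  innerGen := 2

/-- the table with its checks -/
def level0 : CfsgLib.Sporadic.ChainLevel where
  table := table0
  gexp := [[1], [0, 1]]
  perm := [16862724237778078707964258567295844804670721636328286166996569902533266589712663223730990899092546229289718434387999533807148087647185587040702511842604829109919096834080050035996406727029704988233630665802196021646526144069017093993712120198272180896243868252963583954450943967117359049921620240039578665530110619962615903365990791691809114106945590998121896198577365659412337561656742818203006841733522802993937203793148494079557078354192717147332691045508962457361961109336327126323951251619089984842867176106104230508206472824327083725668205317948701228286651159792193931516644302783969849636974494130023139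5287850625431770468349273994725624850478663008661959245342553056310919837493933278569715932829858875438753664939438035864435373189487020984390587330249739811006002604060029742098300056039935756351024184010854831941342611544512765786926504491692539988442632961336240740031978969358594097355863696778487885996544495622665085609236407102980489533498200615340725188748307789347229216726198552215125233700153608963543413804884640928679094433960447965035643559605294045669284102186091240903366292939490697876656184357817296165072168456296215135030169233042969778691850220582153625159717366741640951095191226174752849914680439796530015512514641669789332783430794757060352474357460605788111081069891549316632694377088577369467015381635983196166917053524872192441689697409421155324949935674574158599830233561464614505789297093096060343989381871865904557866831089499896077123230806122384350079680161601339413401997372725897007550399900024919015835580620872278303371622298329039041919612863584456380539094262385982648679671489243520466657654282981648120254167235, 2572058866067052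8703449282605356959740702228785482146359764010679728474064883628810931279066448896869890267151495190578568813224934427167265442821348643296124076659325832026510602371705530496375608744422814908943412524455463114437422540941933729340466086101692617051688658076983213584115081078893454614666520643803011840190124586636243707831917741028281216451306939301314274682170639843782142805504935215626552800338596006622353982577238061793352213543557073539849866701726873432734345185945796550627404918212065758531303562977097360011028104704729779078362366817366948345093637895596155580188245310543399761967045593248127837083507258584203115574437520535065018432405293357800899548734667994276080850325060128370320410630305986488546628795002587891067928523732360791357317695316036134678476610749878677468129880984305635056918113297960522403086252780983365233961960348427345104745907361938861312668790427853112524690246509230876829738112093713108880702824442581736526345517931361284443827636189391784947653244026510518006569618276611743419533250539923113706550585659752708906128269475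4021279856846142090895862470845652801066015332646195970058181800398365722233580837905541743391715025000630777668047750435582124357587502717991615733920889746139079959974772851527277504533239721102688254032088189646375113369137763247375758982964207023556148957100116790844207395910390658931055279619151262925513867024015118575257605057267194412347699644396177863221004133971248873122967398000481381996677534634886081474252952819530731861416664298868797410516129422572285074746266505296348511002084388178017854746430658728339467557121370129374709100041337503409287243651698951176]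
  pinv := [1686272423777807870796425856729584480467072163632828616699656990253326658971266322373099089909254622928971843438799953380714808764718558704070251184260482910991909683408005003599640672702970498823363066580219602164652614406901709399371212019827218089624386825296358395445094396711735904992162024003957866553011061996261590336599079169180911410694559099812189619857736565941233756165674281820300684173352280299393720379314849407955707835419271714733269104550896245736196110933632712632395125161908998484286717610610423050820647282432708372566820531794870122828665115979219393151664430278396984963697449413002313952878506254317704683492739947256248504786630086619592453425530563109198374939332785697159328298588754387536649394380358644353731894870209843905873302497398110060026040600297420983000560399357563510241840108548319413426115445127657869265044916925399884426329613362407400319789693585940973558636967784878859965444956226650856092364071029804895334982006153407251887483077893472292167261985522151252337001536089635434138048846409286790944339604479650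35643559605294045669284102186091240903366292939490697876656184357817296165072168456296215135030169233042969778691850220582153625159717366741640951095191226174752849914680439796530015512514641669789332783430794757060352474357460605788111081069891549316632694377088577369467015381635983196166917053524872192441689697409421155324949935674574158599830233561464614505789297093096060343989381871865904557866831089499896077123230806122384350079680161601339413401997372725897007550399900024919015835580620872278303371622298329039041919612863584456380539094262385982648679671489243520466657654282981648120254167235, 257332991905694169489169319814482435042609256987361826732471863865665551594454296104628294344850356727312913250715428227208037910156005857030383046985743444594997465957282847148570646208708733864604401385559988307690595924595475252834408148675575692491977957491288231652119520502330100716260622429689631231679029760021075801446991645190940240989979267737778040160075551293376521965893719092298349768589064151094231264032094389361493536818325590623599400874623158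529820302432434869432864114857132708713665007577589786868919142817056729130259018467846266398604879506415751547736227577510101669143097574988613464709513007007426132965254249700886415203875351514009095502694317676119333069191066989681671847198089026498319156479375875154727127358894950607420246090233709489682718592419843763124253500372759484331159788969464966596044913269967566620821782439697116582475378698467245104704492156787171671451791202621267898824108360141113209873344007662865824093419746030113465440880669557902459817019009156106533450698337273188414172013590265365099364281554745152705935670540121321887405040409554243199015246654787658624737885018161683295008129360687289158268758446456795445721692512589693205446914634070592249799749347577405057309303148534295697258943571497912605124490670791642954921617319255537031753634826752429745611500839865309297839432371182306583430103102303675635658183429879967957941677581415910508660118945725438271457339965158668455486886369725986741725550953171982390482460374416518316605118193082215940037625189652405470875777261803613321491237184063218676451139877450239383530340903249049702321261937316468070549927359779011599718284908645388056925321224]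
  defs := [[(1, true), (1, true)], [(1, true), (0, true), (1, true), (0, true), (1, true), (0, true), (1, true), (0, false), (1, false), (1, false), (0, false), (1, false)]]
  eqs := [(4, 8, [0, 0, 0, 0, 0, 0, 0, 0, 0, 0, 8, 0, (-2)]), (8, 31, [10, (-2), 15, (-25), (-22), (-2), (-3), 2, 0, 4]), (2, 53, [10, 5, 22, (-28), (-9), (-14), 4, 0, (-8), 6, (-3), 0, (-2), 4, 0, (-2)]), (3, 11, [(-36), 12, (-6), 21, 102, 23, 22, (-5), (-4), (-5), (-3), (-2), 0, 0, 3]), (3, 1, [94, (-46), 184, (-13), 58, 44, 14, (-3), 0, 1, (-3), (-1), 0, 0, 3]), (4, 57, [7, 33, 15, (-193), (-144), (-55), (-39), 11, (-1), 27, 6, 2, (-1), 0, (-3), 2]), (8, 66, [(-97), 66, 5, 18, 299, (-3), 99, (-11), (-45), 10, (-13), 2, 4, 5, 0, (-8), (-3)]), (8, 70, [194, (-88), 330, (-66), (-6), 55, (-11), 8, 25, (-6), (-11), 0, 5, (-4), 14, 8, (-2)]), (5, 69, [40, (-9), 233, 167, 451, 39, 138, (-44), (-41), (-53), (-5), 1, 2, 6, 0, (-8), (-5)])]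
  pts := [0]

end CfsgLib.Sporadic.MultCoTwoPart
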