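import Mathlib
import Cfsg.Agent.Lib.Sporadic.ChainCertificate
import Cfsg.Agent.Lib.Schur.TrieFast

/-!
# Coset table 1 of a chain
-/

set_option autoImplicit false
set_option maxRecDepth 100000
set_option maxHeartbeats 0
set_option Elab.async false

noncomputable section

namespace CfsgLib.Sporadic.MultCoTwoPart

open CfsgLib.Schur.Cert

/-- data -/
def next1 : Trie (ℕ) := .node (.node (.node (.node (.node (.node (.node (.leaf 1) (.leaf 30)) (.leaf 25)) (.node (.leaf 13) (.leaf 24))) (.node (.node (.leaf 7) (.leaf 10)) (.node (.leaf 16) (.leaf 33)))) (.node (.node (.node (.node (.leaf 4) (.leaf 34)) (.leaf 14)) (.node (.leaf 17) (.leaf 29))) (.node (.node (.leaf 11) (.leaf 8)) (.node (.leaf 23) (.leaf 31))))) (.node (.node (.node (.node (.node (.leaf 3) (.leaf 21)) (.leaf 20)) (.node (.leaf 15) (.leaf 12))) (.node (.node (.leaf 9) (.leaf 28)) (.node (.leaf 22) (.leaf 27)))) (.node (.node (.node (.leaf 0) (.leaf 6)) (.node (.leaf 19) (.leaf 26))) (.node (.node (.leaf 2) (.leaf 18)) (.node (.leaf 5) (.leaf 32)))))) (.node (.node (.node (.node (.node (.node (.leaf 2) (.leaf 19)) (.leaf 22)) (.node (.leaf 14) (.leaf 17))) (.node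 (.node (.leaf 8) (.leaf 23)) (.node (.leaf 21) (.leaf 33)))) (.node (.node (.node (.node (.leaf 5) (.leaf 11)) (.leaf 27)) (.node (.leaf 18) (.leaf 32))) (.node (.node (.leaf 12) (.leaf 30)) (.node (.leaf 9) (.leaf 4))))) (.node (.node (.node (.node (.node (.leaf 3) (.leaf 34)) (.leaf 26)) (.node (.leaf 16) (.leaf 15))) (.node (.node (.leaf 10) (.leaf 29)) (.node (.leaf 1) (.leaf 13)))) (.node (.node (.node (.leaf 6) (.leaf 25)) (.node (.leaf 20) (.leaf 7))) (.node (.node (.leaf 0) (.leaf 31)) (.node (.leaf 24) (.leaf 28))))))

/-- data -/
def prev1 : Trie (ℕ) := .node (.node (.node (.node (.node (.node (.node (.leaf 3) (.leaf 31)) (.leaf 12)) (.node (.leaf 22) (.leaf 24))) (.node (.node (.leaf 2) (.leaf 17)) (.node (.leaf 25) (.leaf 21)))) (.node (.node (.node (.node (.leaf 7) (.leaf 34)) (.leaf 23)) (.node (.leaf 20) (.leaf 27))) (.node (.node (.leaf 19) (.leaf 13)) (.node (.leaf 18) (.leaf 32))))) (.node (.node (.node (.node (.node (.leaf 0) (.leaf 28)) (.leaf 10)) (.node (.leaf 5) (.leaf 16))) (.node (.node (.leaf 15) (.leaf 33)) (.node (.leaf 8) (.leaf 26)))) (.node (.node (.node (.leaf 1) (.leaf 11)) (.node (.leaf 6)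 (.leaf 29))) (.node (.node (.leaf 4) (.leaf 14)) (.node (.leaf 9) (.leaf 30)))))) (.node (.node (.node (.node (.node (.node (.leaf 7) (.leaf 26)) (.leaf 9)) (.node (.leaf 4) (.leaf 15))) (.node (.node (.leaf 30) (.leaf 11)) (.node (.leaf 6) (.leaf 31)))) (.node (.node (.node (.node (.leaf 0) (.leaf 33)) (.leaf 10)) (.node (.leaf 5) (.leaf 17))) (.node (.node (.leaf 3) (.leaf 16)) (.node (.leaf 8) (.leaf 22))))) (.node (.node (.node (.node (.node (.leaf 13) (.leaf 28)) (.leaf 24)) (.node (.leaf 14) (.leaf 19))) (.node (.node (.leaf 2) (.leaf 12)) (.node (.leaf 29) (.leaf 21)))) (.node (.node (.node (.leaf 1) (.leaf 32)) (.node (.leaf 34) (.leaf 18))) (.node (.node (.leaf 27) (.leaf 20)) (.node (.leaf 25) (.leaf 23))))))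

/-- data -/
def lab1 : Trie (Word) := .node (.node (.node (.node (.node (.node (.node (.leaf ([])) (.leaf ([(1, true), (0, false), (1, true), (1, true), (0, false), (1, true), (1, true), (0, false)]))) (.leaf ([]))) (.node (.leaf ([])) (.leaf ([(0, false), (0, false), (1, true), (0, false), (1, false), (0, true)])))) (.node (.node (.leaf ([])) (.leaf ([(0, false), (1, true), (1, true), (0, false), (1, true), (0, true), (0, true)]))) (.node (.leaf ([(0, true), (1, true), (0, false), (1, false), (0, true), (1, true), (0, true)])) (.leaf ([]))))) (.node (.node (.node (.node (.leaf ([])) (.leaf ([(1, false), (1, false), (0, false), (1, true), (1, true), (0, true), (0, true), (0, true)]))) (.leaf ([(1, true), (0, false), (1, true), (0, false), (1, false), (0, true), (1, true), (0, true)]))) (.node (.leaf ([])) (.leaf ([(1, true), (1, true), (0, true), (1, false), (0, false), (1, false), (0, true)])))) (.node (.node (.leaf ([])) (.leaf ([(1, true), (1, true), (1, true), (1, true)]))) (.node (.leaf ([])) (.leaf ([(1, false), (0, true), (1, true), (0, false), (0, false)])))))) (.node (.node (.node (.node (.node (.leaf ([])) (.leaf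 ([(1, true), (1, true), (1, true), (1, true)]))) (.leaf ([(0, false), (1, false), (1, false), (0, false), (1, false), (0, true), (0, true)]))) (.node (.leaf ([])) (.leaf ([(0, true), (1, true), (0, false), (1, false), (0, true), (1, true), (0, true)])))) (.node (.node (.leaf ([])) (.leaf ([]))) (.node (.leaf ([])) (.leaf ([(0, true), (1, true), (1, true), (0, true), (0, true), (0, true)]))))) (.node (.node (.node (.leaf ([(1, true), (1, true), (1, true), (1, true)])) (.leaf ([(1, true), (1, true), (1, true), (1, true)]))) (.node (.leaf ([])) (.leaf ([(0, true), (1, true), (0, true), (1, true), (0, false)])))) (.node (.node (.leaf ([(1, true), (1, true), (1, true), (1, true)])) (.leaf ([(0, false), (1, true), (0, true), (1, false), (0, true), (1, false), (0, false), (1, true)]))) (.node (.leaf ([(1, true), (1, true), (1, true), (1, true)])) (.leaf ([(1, false), (0, true), (1, true), (0, true), (1, false)]))))))) (.node (.node (.node (.node (.node (.node (.leaf ([])) (.leaf ([(1, false), (0, true), (1, true), (1, true), (0, true), (1, false), (0, true), (1, true), (0, true)]))) (.leaf ([(1, true), (1, true), (0, false), (1, true),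 (0, false), (1, true), (0, true), (1, true), (0, true)]))) (.node (.leaf ([])) (.leaf ([(1, false), (0, false), (0, false), (1, true), (0, true), (0, true), (0, true)])))) (.node (.node (.leaf ([])) (.leaf ([(0, false), (1, true), (0, false), (1, true), (0, true), (1, true)]))) (.node (.leaf ([])) (.leaf ([(1, false), (0, true), (1, false), (0, false), (0, false), (1, true)]))))) (.node (.node (.node (.node (.leaf ([])) (.leaf ([(1, true), (0, false), (1, true), (0, false), (1, true), (0, true), (0, true)]))) (.leaf ([]))) (.node (.leaf ([])) (.leaf ([])))) (.node (.node (.leaf ([])) (.leaf ([]))) (.node (.leaf ([(1, false), (0, false), (1, false), (1, false), (0, false)])) (.leaf ([(0, false), (0, false), (1, true), (0, true), (1, true), (0, true)])))))) (.node (.node (.node (.node (.node (.leaf ([(0, true)])) (.leaf ([]))) (.leaf ([]))) (.node (.leaf ([])) (.leaf ([(1, true), (0, false), (1, true), (0, true), (1, false)])))) (.node (.node (.leaf ([])) (.leaf ([]))) (.node (.leaf ([(1, true), (0, true), (1, false), (0, true), (0, true)])) (.leaf ([(0, true), (1, false), (0, true), (0, true), (0, true), (1, false)]))))) (.node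 (.node (.node (.leaf ([])) (.leaf ([(1, true), (0, true), (1, true), (0, true), (0, true)]))) (.node (.leaf ([])) (.leaf ([(1, true), (1, true), (1, true)])))) (.node (.node (.leaf ([(1, true)])) (.leaf ([]))) (.node (.leaf ([])) (.leaf ([(0, true), (0, true), (1, false), (0, true), (0, true)])))))))

/-- data -/
def val1 : Trie (Vec) := .node (.node (.node (.node (.node (.node (.node (.leaf ([])) (.leaf ([(-71), 35, (-122), (-19), (-40), (-25), (-11), 5, 1, 2]))) (.leaf ([]))) (.node (.leaf ([])) (.leaf ([(-133), 63, (-211), (-1), (-16), (-35), (-2), 2, (-3), (-2)])))) (.node (.node (.leaf ([])) (.leaf ([16, (-8), 38, (-19), 8, 13, 0, 0, 0, 5]))) (.node (.leaf ([(-23), 11, (-39), 4, (-5), (-9), 0, 0, (-1), (-1)])) (.leaf ([]))))) (.node (.node (.node (.node (.leaf ([])) (.leaf ([(-31), 10, (-55), 27, 8, (-3), 2, 0, 0, (-2)]))) (.leaf ([67, (-29), 98, 3, (-3), 7, (-1), 1, 1, 2]))) (.node (.leaf ([])) (.leaf ([(-22), 13, (-35), (-16), (-16), (-10), (-3), 1, (-1), 2])))) (.node (.node (.leaf ([])) (.leaf ([(-5), 2, (-7), (-1), 0, (-1)]))) (.node (.leaf ([])) (.leaf ([(-126), 57, (-199), 13, (-3), (-29), 2, 1, (-2), (-5)]))))))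 (.node (.node (.node (.node (.node (.leaf ([])) (.leaf ([(-7), 2, (-13), 5, 0, (-1)]))) (.leaf ([76, (-36), 102, 19, (-8), 10, (-3), 1, 4, (-2)]))) (.node (.leaf ([])) (.leaf ([17, (-9), 30, (-4), 3, 8, 0, 0, 1, 1])))) (.node (.node (.leaf ([])) (.leaf ([]))) (.node (.leaf ([])) (.leaf ([(-16), 4, (-28), 5, (-6), 0, (-1), 1, 1]))))) (.node (.node (.node (.leaf ([0, 0, 0, 0, 0, (-1)])) (.leaf ([(-7), 2, (-13), 5, 0, (-1)]))) (.node (.leaf ([])) (.leaf ([35, (-17), 57, 17, 22, 9, 4, (-2), 0, (-2)])))) (.node (.node (.leaf ([0, 0, 0, 0, 0, (-1)])) (.leaf ([69, (-31), 102, (-5), (-9), 12, (-1), (-1), 1, 2]))) (.node (.leaf ([0, 0, 0, 0, 0, (-1)])) (.leaf ([(-134), 59, (-206), 19, 12, (-23), 3, (-2), (-3), (-5)]))))))) (.node (.node (.node (.node (.node (.node (.leaf ([])) (.leaf ([(-76), 35, (-132), 19, (-16), (-28), 1, 1, (-2), (-6)]))) (.leaf ([(-19), 8, (-21), (-11), 3, 0, 2, 0, (-1)]))) (.node (.leaf ([])) (.leaf ([(-103), 46, (-160), 4, (-4), (-20), 2, (-1), (-3), (-3)])))) (.node (.node (.leaf ([])) (.leaf ([(-8), 1, (-2), (-14), 4, 9, 0, 1, 1, 2]))) (.node (.leaf ([])) (.leaf ([(-32), 14, (-49), 6, 4, (-6), 3, 0, (-1), (-2)])))))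 (.node (.node (.node (.node (.leaf ([])) (.leaf ([113, (-57), 164, 36, 17, 27, 0, 1, 4, 1]))) (.leaf ([]))) (.node (.leaf ([])) (.leaf ([])))) (.node (.node (.leaf ([])) (.leaf ([]))) (.node (.leaf ([51, (-24), 74, 5, 0, 12, (-3), 0, 3])) (.leaf ([(-174), 75, (-271), 38, 20, (-31), 7, (-2), (-4), (-9)])))))) (.node (.node (.node (.node (.node (.leaf ([])) (.leaf ([]))) (.leaf ([]))) (.node (.leaf ([])) (.leaf ([18, (-9), 29, (-3), 0, 6, 0, 0, 1])))) (.node (.node (.leaf ([])) (.leaf ([]))) (.node (.leaf ([0, 1, 0, 0, 0, (-2), (-1)])) (.leaf ([(-8), 2, (-11), 2, 0, 1, 1, 1]))))) (.node (.node (.node (.leaf ([])) (.leaf ([(-10), 3, (-17), 4, (-2), (-1), (-1)]))) (.node (.leaf ([])) (.leaf ([0, 0, 0, 0, 0, (-1), 0, 1])))) (.node (.node (.leaf ([])) (.leaf ([]))) (.node (.leaf ([])) (.leaf ([(-82), 38, (-124), 8, 8, (-17), 3, (-2), (-4), (-2)])))))))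

/-- data -/
def rank1 : Trie (ℕ) := .node (.node (.node (.node (.node (.node (.node (.leaf 0) (.leaf 36)) (.leaf 0)) (.node (.leaf 0) (.leaf 31))) (.node (.node (.leaf 0) (.leaf 25)) (.node (.leaf 21) (.leaf 0)))) (.node (.node (.node (.node (.leaf 0) (.leaf 24)) (.leaf 18)) (.node (.leaf 0) (.leaf 27))) (.node (.node (.leaf 0) (.leaf 9)) (.node (.leaf 0) (.leaf 33))))) (.node (.node (.node (.node (.node (.leaf 0) (.leaf 11)) (.leaf 28)) (.node (.leaf 0) (.leaf 15))) (.node (.node (.leaf 0) (.leaf 0)) (.node (.leaf 0) (.leaf 16)))) (.node (.node (.node (.leaf 6) (.leaf 10)) (.node (.leaf 0) (.leaf 29))) (.node (.node (.leaf 3) (.leaf 19)) (.node (.leaf 5) (.leaf 32)))))) (.node (.node (.node (.node (.node (.node (.leaf 0) (.leaf 26)) (.leaf 13)) (.node (.leaf 0) (.leaf 22))) (.node (.node (.leaf 0) (.leaf 17)) (.node (.leaf 0) (.leaf 20)))) (.node (.node (.node (.node (.leaf 0) (.leaf 35)) (.leaf 0)) (.node (.leaf 0) (.leaf 0))) (.node (.node (.leaf 0) (.leaf 0)) (.node (.leaf 23) (.leaf 34))))) (.node (.node (.node (.node (.node (.leaf 1) (.leaf 0)) (.leaf 0)) (.node (.leaf 0) (.leaf 14))) (.node (.node (.leaf 0) (.leaf 0))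 (.node (.leaf 7) (.leaf 8)))) (.node (.node (.node (.leaf 0) (.leaf 12)) (.node (.leaf 0) (.leaf 4))) (.node (.node (.leaf 2) (.leaf 0)) (.node (.leaf 0) (.leaf 30))))))

/-- data -/
def tree1 : Trie (ℕ × ℕ) := .node (.node (.node (.node (.node (.node (.leaf (0, 0)) (.leaf (26, 1))) (.leaf (9, 1))) (.node (.leaf (4, 1)) (.leaf (15, 1)))) (.node (.node (.leaf (2, 0)) (.leaf (11, 1))) (.node (.leaf (6, 1)) (.leaf (21, 0))))) (.node (.node (.node (.node (.leaf (0, 1)) (.leaf (33, 1))) (.leaf (10, 1))) (.node (.leaf (5, 1)) (.leaf (17, 1)))) (.node (.node (.leaf (3, 1)) (.leaf (13, 0))) (.node (.leaf (8, 1)) (.leaf (22, 1)))))) (.node (.node (.node (.node (.node (.leaf (0, 0)) (.leaf (28, 0))) (.leaf (10, 0))) (.node (.leaf (5, 0)) (.leaf (16, 0)))) (.node (.node (.leaf (2, 1)) (.leaf (12, 1))) (.node (.leaf (8, 0)) (.leaf (21, 1))))) (.node (.node (.node (.leaf (1, 0)) (.leaf (11, 0))) (.node (.leaf (6, 0)) (.leaf (18, 1)))) (.node (.node (.leaf (4, 0)) (.leaf (14, 0))) (.node (.leaf (9, 0)) (.leaf (23, 1))))))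

/-- data -/
def cert1 : Trie (ℕ × ℕ × ℕ) := .node (.node (.node (.node (.node (.node (.leaf (0, 0, 1)) (.leaf (3, 8, 13))) (.leaf (6, 3, 3))) (.node (.leaf (4, 8, 0)) (.leaf (6, 25, 6)))) (.node (.node (.leaf (4, 15, 9)) (.leaf (4, 25, 1))) (.node (.leaf (5, 0, 3)) (.leaf (2, 9, 7))))) (.node (.node (.node (.node (.leaf (2, 4, 11)) (.leaf (3, 13, 4))) (.leaf (2, 2, 4))) (.node (.leaf (4, 33, 9)) (.leaf (6, 28, 15)))) (.node (.node (.leaf (3, 7, 12)) (.leaf (6, 4, 9))) (.node (.leaf (6, 1, 6)) (.leaf (2, 29, 11)))))) (.node (.node (.node (.node (.node (.leaf (1, 0, 3)) (.leaf (3, 9, 6))) (.leaf (6, 13, 15))) (.node (.leaf (4, 19, 9)) (.leaf (6, 27, 7)))) (.node (.node (.leaf (4, 3, 9)) (.leaf (6, 0, 7))) (.node (.leaf (2, 0, 6)) (.leaf (2, 14, 2))))) (.node (.node (.node (.node (.leaf (4, 4, 8)) (.leaf (3, 14, 11))) (.leaf (3, 28, 0))) (.node (.leaf (3, 2, 4)) (.leaf (2, 3, 7)))) (.node (.node (.leaf (4, 0, 7)) (.leaf (6, 12, 4))) (.node (.leaf (6, 2, 6)) (.leaf (3, 5, 7))))))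

/-- data -/
def pot1 : Trie (Vec) := .node (.node (.node (.node (.node (.node (.leaf ([])) (.leaf ([5, 7]))) (.leaf ([3, 5]))) (.node (.leaf ([2, 4])) (.leaf ([3, 7])))) (.node (.node (.leaf ([1, 3])) (.leaf ([2, 8]))) (.node (.leaf ([2, 6])) (.leaf ([3, 9]))))) (.node (.node (.node (.node (.leaf ([1, 1])) (.leaf ([4, 12]))) (.leaf ([4, 4]))) (.node (.leaf ([3, 3])) (.leaf ([4, 6])))) (.node (.node (.leaf ([1, 5])) (.leaf ([2, 8]))) (.node (.leaf ([3, 5])) (.leaf ([3, 9])))))) (.node (.node (.node (.node (.node (.leaf ([0, 2])) (.leaf ([3, 11]))) (.leaf ([3, 5]))) (.node (.leaf ([2, 4])) (.leaf ([3, 7])))) (.node (.node (.leaf ([2, 2])) (.leaf ([3, 7]))) (.node (.leaf ([2, 6])) (.leaf ([4, 8]))))) (.node (.node (.node (.leaf ([0, 4])) (.leaf ([1, 9]))) (.node (.leaf ([1, 7])) (.leaf ([5, 5])))) (.node (.node (.leaf ([1, 5])) (.leaf ([3, 7]))) (.node (.leaf ([2, 6])) (.leaf ([4, 8]))))))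

/-- the table -/
def table1 : Table where
  size := 35
  ngen := 2
  next g x := next1.getK (2 * g + x)
  prev g x := prev1.getK (2 * g + x)
  lab g x := lab1.getK (2 * g + x)
  val g x := val1.getK (2 * g + x)
  rank g x := rank1.getK (2 * g + x)
  tree g := tree1.getK g
  cert j := cert1.getK j
  nded := 36
  rels := [⟨[(0, true), (1, true), (0, false), (0, false)], [(0, true)], []⟩,
    ⟨[(1, true), (0, true), (0, true), (1, true)], [(1, true)], []⟩,
    ⟨[(0, true), (1, true), (1, true), (0, true), (0, true), (1, true), (1, true), (0, true), (0, true), (1, true), (1, true), (0, false), (1, true), (1, true), (0, true)], [], [0, 0, 0, 0, 0, 1]⟩,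
    ⟨[(1, true), (0, true), (1, true), (0, true), (1, false), (0, true), (1, false), (0, true), (1, true), (0, false), (1, true), (0, false), (1, false), (0, false), (1, false), (0, true)], [], [0, 0, 0, 0, 0, 0, 1]⟩,
    ⟨[(0, false), (0, false), (1, true), (1, true), (1, true), (1, true), (1, true), (1, true), (1, true), (0, false)], [], [0, 0, 0, 0, 0, 0, 0, 1]⟩,
    ⟨[(0, true), (1, false), (0, true), (1, false), (0, true), (1, false), (0, true), (1, false), (0, true), (1, false), (0, true), (1, false)], [], [0, 0, 0, 0, 0, 0, 0, 0, 1]⟩,
    ⟨[(1, true), (0, true), (1, true), (1, true), (0, false), (1, false), (0, true), (1, false), (1, false), (1, false), (0, false), (1, false), (0, true), (1, false), (1, false), (0, true), (1, false), (0, true)], [], [0, 0, 0, 0, 0, 0, 0, 0, 0, 1]⟩]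
  pot g := pot1.getK g
  innerSize := 1152
  innerGen := 2

/-- the table with its checks -/
def level1 : CfsgLib.Sporadic.ChainLevel where
  table := table1
  gexp := [[0, 2], [1, 1]]
  perm := [26112154978148295834036860102878797697011158394386896345560082892715732548798476547824333489750351887756656978591116751246817191436600550707831270492369178005177477282618405091779379133551081171833956006157880921649881231203362212493623943354577422058135774811372955772191773079548685741074079843583523159309957972498726504938920025837484261018720083742525476904424465562648589154452772677648909015934610693763048615965109183925455717452573780127266404155785288498044079628011714105446014442971677298308614526177884623359117314069735424076744456129270004568536329567607243693876265247170447769949449862176228571157040572139063979319232269179875557321899107414350127473916538091327205848293737250220862030462597270957222575712234233687468375427150616534452310797558879480288537339689661258776743334055446378033949977828325762905622283852915060479026090636452643208429961874922378910684354703553533300382575592748767798337380879022557809701620558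7050037708189358345269838559048529506095660817451437857090010500021090807028105497364907893429629931361987814997968700192676729459619864496992994444551660562605559721445116451379883903706422295039392493038299906515082771535557548238851044937730794042665546471910897692538377555413393474002013252361081943799568705088751835236359820436835523130999843735606791120918404140669528120065668911291894210786694294357632584940363381719031494493843278950749549579563353407452184823612038442428268262923935760966450082219854943406773833534323188703594883721435319354425895488713984770311489022848260435055426531504855024649681596481943059025921327063736319045167895002404148267320470334214676320904063655325034925247949580546048, 2609740257942791421784520098328723601795924498033336214634253043105671165743827501780580888590411291172395478248124013529193577581757718885997886180279566857876547918755146517465122158034583803392873442107759576369070491686353382566100742345107922306339902587046821422444022845070037538946581160697883576244173682719880201557676942530440855503279301428977018666136798733481466818380058410094513157857153860232356217300439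93215619523410746540398331961268404724207527484144719770526163025597579361319929836736972119986413633659449762063161999570042285208853714810267501430891490485667830657445070157233107870249745315406690509255158224239163250317819697503557604066738721809325087506032884466867381424897246025903334799230629117318887081724132565026870732340681079633952481318342488522529385554349615358540393106556776491674660376311413750870292023769081147468637203091924310327135333612918705549926052992170007184144209605691642296427722618649129420398380124297373063633419375551521252672383153160407694640802810717278956447063831926593295270008371641124654960016623273959377000044065415080439287555994932792913019396546161718619573125697789461918487634132783760192622768410524530794731813717221003935129735660619686371990351378560506011657710772174618251380580158065645998905044475871193863290806718833419227607322671835136204972037076193487629925252299182856957561765519956513042964635294643970473868686738259052197804831925170762431264117523224404559568935689174823064327880179598944938837677582473996156705430981983550811719184918940188282727462306066361543407852893395189266831139312673451212301787166575673268819523382149967749381063989194006212267455360000]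
  pinv := [261118319615094405706123153212007892946687850959154981014838001228785836838310707370717401720594278586811957418839757037240612016659514707985079670300768430806501692128514608365964899761472762909297763176687907453961626223657527619961768627330704814412930539230168077100650776763539282452880542611222868379637355304552114803107836247589325790700565529755609289018375657853524509937629282860782229951294787393829118140511268631476998127095581095753334051806539500164747154511108850080030942187757876013153087954291889021211437698551409648830521163613106296227800781024772667243507582119783603572376395226634879439308610287038841975683380173321341494508772786559728987194849920936589736867448069263346852716376463722160276726355597498299182603206090688178802395074234061400295322812420027953668188657642564132193248108340967851083044668003662555620999166354659936999753066687444401260222628854152822904029511465367791980005277844578661402226030731233668139884792434898225639823872102419711186808619470098128457655843563282665595540706555235540573094183526403907923431577695618109262458500529713792339707580194108579820872314498183039874247700169860400112813765262694010648150092731333018848672522668381294589150780988185856793269673586738115699563785658159678487537870136333440735639097153522744338332888013507592865678661341592186200673889519320750073056494520156297937001913034430222184030058210352942105841315124528581417263880219763414788272025012281627705246928514252494693879309914059182626893885224568321680325310772450585390479492724482978981273829887757021515616030100639943468796128000324977483404702438695820864831776873118781507397212891557654386723840,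 261035979188724240799880567965153487783216007533139418335990749270729196900967385221142356316534261644062664794460690857658139343039168840962352805835316954730722425923858703837185834269322298157986015880529044452783604225248241427909623146961048593742859410974965668764548260116696205709780473433692855703147270581194714788923760777475974840269249009591772082150543844949697927688838377335466654776230960261137026141172316915499029424186268569182023521371435737052518134718935310509818873381012961796285281553962089987810572214374585198401554277450406779330251951895275376415552252472859864333081550299701273065319456792199704785388919475888678094587546952259410810570880954429739512748514968236829238534238510527921701461301370139430483484825915894958900845776187019861979516249486721929052562786004275118320053408362835147268429019697722513731183981249553369888387652708222375625883494648790415315750337417578345963869554273343756926681834546238828652749358568306086159666864259554113941374870880789352569631879975829855436315137751190431865343643319371849527530810777390717764529227786761271423091838584567756267734291457097076133636772371423704949060824893346602371344245828658918291509837606876458708672170001919278237600709425297833570850258894453992056708681338577741286458265105184300744895244975768910598651705858185590506312253323983859823043412659418174753288762241650042119312045014017373659451080022464164060040484662106247664963848770013043203816281561041130045518035825095849182239327282592540005489892053377787616111947448379793234614017398505091599833679860026941151539596310104208059033308142343930094113490821067515765339664955295332913320960]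
  defs := [[(0, true), (1, true), (0, false), (0, false)], [(1, true), (0, true), (0, true), (1, true)]]
  eqs := [(5, 1, [(-1), 0, 0, 0, 0, 0, 0, 0, (-1)]), (3, 4, [(-1), 1, (-3), 3, 0, (-2), (-3)]), (6, 23, [3, 1, 2, 9, 5, (-6), 2, (-1), (-3), 1]), (4, 28, [(-10), (-2), (-7), 23, 32, 14, 6, (-1), 0, (-1)]), (2, 25, [18, (-16), 11, 39, 1, 8, 1, 1, 4, (-5)])]
  pts := [1]

end CfsgLib.Sporadic.MultCoTwoPart
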