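import Mathlib
import Cfsg.Agent.Lib.Sporadic.ChainCertificate
import Cfsg.Agent.Lib.Schur.TrieFast

/-!
# Coset table 2 of a chain
-/

set_option autoImplicit false
set_option maxRecDepth 100000
set_option maxHeartbeats 0
set_option Elab.async false

noncomputable section

namespace CfsgLib.Sporadic.MultCoTwoPart

open CfsgLib.Schur.Cert

/-- data -/
def next2 : Trie (ℕ) := .node (.node (.node (.node (.node (.node (.node (.node (.node (.node (.node (.node (.leaf 1) (.leaf 1122)) (.leaf 743)) (.node (.leaf 424) (.leaf 978))) (.node (.node (.leaf 225) (.leaf 882)) (.node (.leaf 599) (.leaf 109)))) (.node (.node (.node (.node (.leaf 117) (.leaf 945)) (.leaf 812)) (.node (.leaf 511) (.leaf 667))) (.node (.node (.leaf 326) (.leaf 174)) (.node (.leaf 678) (.leaf 616))))) (.node (.node (.node (.node (.node (.leaf 61) (.leaf 1115)) (.leaf 779)) (.node (.leaf 172) (.leaf 719))) (.node (.node (.leaf 275) (.leaf 874)) (.node (.leaf 583) (.leaf 735)))) (.node (.node (.node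 (.node (.leaf 173) (.leaf 1054)) (.leaf 854)) (.node (.leaf 555) (.leaf 1049))) (.node (.node (.leaf 378) (.leaf 507)) (.node (.leaf 711) (.leaf 1107)))))) (.node (.node (.node (.node (.node (.node (.leaf 33) (.leaf 872)) (.leaf 759)) (.node (.leaf 447) (.leaf 745))) (.node (.node (.leaf 241) (.leaf 514)) (.node (.leaf 620) (.leaf 1013)))) (.node (.node (.node (.node (.leaf 139) (.leaf 202)) (.leaf 786)) (.node (.leaf 303) (.leaf 89))) (.node (.node (.leaf 345) (.leaf 864)) (.node (.leaf 570) (.leaf 895))))) (.node (.node (.node (.node (.node (.leaf 90) (.leaf 847)) (.leaf 798)) (.node (.leaf 425) (.leaf 714))) (.node (.node (.leaf 302) (.leaf 850)) (.node (.leaf 659) (.leaf 681)))) (.node (.node (.node (.node (.leaf 198) (.leaf 1150)) (.leaf 469)) (.node (.leaf 574) (.leaf 1028))) (.node (.node (.leaf 399) (.leaf 936)) (.node (.leaf 266) (.leaf 861))))))) (.node (.node (.node (.node (.node (.node (.node (.leaf 17) (.leaf 933)) (.leaf 752)) (.node (.leaf 436) (.leaf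 986))) (.node (.node (.leaf 238) (.leaf 383)) (.node (.leaf 323) (.leaf 1074)))) (.node (.node (.node (.node (.leaf 132) (.leaf 1138)) (.leaf 179)) (.node (.leaf 521) (.leaf 540))) (.node (.node (.leaf 338) (.leaf 766)) (.node (.leaf 689) (.leaf 821))))) (.node (.node (.node (.node (.node (.leaf 75) (.leaf 1135)) (.leaf 784)) (.node (.leaf 475) (.leaf 1009))) (.node (.node (.leaf 288) (.leaf 912)) (.node (.leaf 649) (.leaf 1046)))) (.node (.node (.node (.node (.leaf 188) (.leaf 670)) (.leaf 862)) (.node (.leaf 566) (.leaf 1057))) (.node (.node (.leaf 347) (.leaf 830)) (.node (.leaf 624) (.leaf 118)))))) (.node (.node (.node (.node (.node (.node (.leaf 39) (.leaf 1129)) (.leaf 768)) (.node (.leaf 54) (.leaf 997))) (.node (.node (.leaf 16) (.leaf 146)) (.node (.leaf 252) (.leaf 716)))) (.node (.node (.node (.node (.leaf 52) (.leaf 1146)) (.leaf 844)) (.node (.leaf 543) (.leaf 644))) (.node (.node (.leaf 365) (.leaf 385)) (.node (.leaf 76) (.leaf 451))))) (.node (.node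 (.node (.node (.node (.leaf 104) (.leaf 866)) (.leaf 807)) (.node (.leaf 373) (.leaf 328))) (.node (.node (.leaf 314) (.leaf 924)) (.node (.leaf 669) (.leaf 305)))) (.node (.node (.node (.node (.leaf 24) (.leaf 964)) (.leaf 370)) (.node (.leaf 588) (.leaf 565))) (.node (.node (.leaf 412) (.leaf 971)) (.node (.leaf 28) (.leaf 958)))))))) (.node (.node (.node (.node (.node (.node (.node (.node (.leaf 9) (.leaf 1114)) (.leaf 718)) (.node (.leaf 156) (.leaf 542))) (.node (.node (.leaf 4) (.leaf 886)) (.node (.leaf 200) (.leaf 1001)))) (.node (.node (.node (.node (.leaf 125) (.leaf 1128)) (.leaf 790)) (.node (.leaf 195) (.leaf 995))) (.node (.node (.leaf 331) (.leaf 937)) (.node (.leaf 685) (.leaf 698))))) (.node (.node (.node (.node (.node (.leaf 68) (.leaf 1133)) (.leaf 785)) (.node (.leaf 476) (.leaf 741))) (.node (.node (.leaf 282) (.leaf 910)) (.node (.leaf 304) (.leaf 1032)))) (.node (.node (.node (.node (.leaf 180) (.leaf 749)) (.leaf 858)) (.node (.leaf 287)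 (.leaf 1052))) (.node (.node (.leaf 377) (.leaf 942)) (.node (.leaf 717) (.leaf 443)))))) (.node (.node (.node (.node (.node (.node (.leaf 40) (.leaf 479)) (.leaf 762)) (.node (.leaf 452) (.leaf 311))) (.node (.node (.leaf 259) (.leaf 364)) (.node (.leaf 625) (.leaf 747)))) (.node (.node (.node (.node (.leaf 154) (.leaf 994)) (.leaf 840)) (.node (.leaf 101) (.leaf 615))) (.node (.node (.leaf 359) (.leaf 517)) (.node (.leaf 291) (.leaf 130))))) (.node (.node (.node (.node (.node (.leaf 97) (.leaf 904)) (.leaf 803)) (.node (.leaf 496) (.leaf 634))) (.node (.node (.leaf 105) (.leaf 922)) (.node (.leaf 664) (.leaf 1089)))) (.node (.node (.node (.node (.leaf 205) (.leaf 746)) (.leaf 870)) (.node (.leaf 18) (.leaf 197))) (.node (.node (.leaf 405) (.leaf 462)) (.node (.leaf 107) (.leaf 916))))))) (.node (.node (.node (.node (.node (.node (.node (.leaf 25) (.leaf 1118)) (.leaf 756)) (.node (.leaf 442) (.leaf 987))) (.node (.node (.leaf 245) (.leaf 153)) (.node (.leaf 531)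 (.leaf 631)))) (.node (.node (.node (.node (.leaf 140) (.leaf 212)) (.leaf 829)) (.node (.leaf 526) (.leaf 1036))) (.node (.node (.leaf 346) (.leaf 335)) (.node (.leaf 694) (.leaf 765))))) (.node (.node (.node (.node (.node (.leaf 83) (.leaf 1136)) (.leaf 792)) (.node (.leaf 47) (.leaf 1011))) (.node (.node (.leaf 295) (.leaf 876)) (.node (.leaf 652) (.leaf 1087)))) (.node (.node (.node (.node (.leaf 124) (.leaf 1050)) (.leaf 848)) (.node (.leaf 571) (.leaf 968))) (.node (.node (.leaf 392) (.leaf 487)) (.node (.leaf 725) (.leaf 437)))))) (.node (.node (.node (.node (.node (.node (.leaf 55) (.leaf 1112)) (.leaf 775)) (.node (.leaf 465) (.leaf 67))) (.node (.node (.leaf 265) (.leaf 903)) (.node (.leaf 590) (.leaf 990)))) (.node (.node (.node (.node (.leaf 167) (.leaf 1095)) (.leaf 467)) (.node (.leaf 548) (.leaf 232))) (.node (.node (.leaf 196) (.leaf 952)) (.node (.leaf 706) (.leaf 337))))) (.node (.node (.node (.node (.node (.leaf 111) (.leaf 1121)) (.leaf 761))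 (.node (.leaf 333) (.leaf 1023))) (.node (.node (.leaf 320) (.leaf 448)) (.node (.leaf 597) (.leaf 1077)))) (.node (.node (.node (.node (.leaf 219) (.leaf 943)) (.leaf 375)) (.node (.leaf 594) (.leaf 301))) (.node (.node (.leaf 411) (.leaf 975)) (.node (.leaf 623) (.leaf 160))))))))) (.node (.node (.node (.node (.node (.node (.node (.node (.node (.leaf 5) (.leaf 155)) (.leaf 658)) (.node (.leaf 427) (.leaf 980))) (.node (.node (.leaf 229) (.leaf 884)) (.node (.leaf 602) (.leaf 1035)))) (.node (.node (.node (.node (.leaf 121) (.leaf 940)) (.leaf 819)) (.node (.leaf 515) (.leaf 545))) (.node (.node (.leaf 329) (.leaf 50)) (.node (.leaf 682) (.leaf 549))))) (.node (.node (.node (.node (.node (.leaf 64) (.leaf 967)) (.leaf 781)) (.node (.leaf 473) (.leaf 727))) (.node (.node (.leaf 279) (.leaf 176)) (.node (.leaf 642) (.leaf 1027)))) (.node (.node (.node (.node (.leaf 166) (.leaf 1097)) (.leaf 852)) (.node (.leaf 559) (.leaf 604))) (.node (.node (.leaf 381) (.leaf 810))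 (.node (.leaf 715) (.leaf 817)))))) (.node (.node (.node (.node (.node (.node (.leaf 36) (.leaf 902)) (.leaf 147)) (.node (.leaf 384) (.leaf 729))) (.node (.node (.leaf 255) (.leaf 516)) (.node (.leaf 622) (.leaf 1020)))) (.node (.node (.node (.node (.leaf 150) (.leaf 605)) (.leaf 836)) (.node (.leaf 536) (.leaf 1006))) (.node (.node (.leaf 355) (.leaf 946)) (.node (.leaf 679) (.leaf 388))))) (.node (.node (.node (.node (.node (.leaf 94) (.leaf 961)) (.leaf 422)) (.node (.leaf 183) (.leaf 1017))) (.node (.node (.leaf 6) (.leaf 505)) (.node (.leaf 660) (.leaf 1042)))) (.node (.node (.node (.node (.leaf 201) (.leaf 627)) (.leaf 122)) (.node (.leaf 581) (.leaf 643))) (.node (.node (.leaf 401) (.leaf 822)) (.node (.leaf 730) (.leaf 460))))))) (.node (.node (.node (.node (.node (.node (.node (.leaf 21) (.leaf 913)) (.leaf 753)) (.node (.leaf 439) (.leaf 63))) (.node (.node (.leaf 242) (.leaf 890)) (.node (.leaf 613) (.leaf 612)))) (.node (.node (.node (.node (.leaf 136)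 (.leaf 316)) (.leaf 826)) (.node (.leaf 523) (.leaf 560))) (.node (.node (.leaf 342) (.leaf 363)) (.node (.leaf 551) (.leaf 938))))) (.node (.node (.node (.node (.node (.leaf 79) (.leaf 1130)) (.leaf 791)) (.node (.leaf 483) (.leaf 204))) (.node (.node (.leaf 292) (.leaf 914)) (.node (.leaf 283) (.leaf 239)))) (.node (.node (.node (.node (.leaf 8) (.leaf 1147)) (.leaf 780)) (.node (.leaf 567) (.leaf 1059))) (.node (.node (.leaf 389) (.leaf 887)) (.node (.leaf 723) (.leaf 799)))))) (.node (.node (.node (.node (.node (.node (.leaf 51) (.leaf 893)) (.leaf 772)) (.node (.leaf 461) (.leaf 1000))) (.node (.node (.leaf 206) (.leaf 354)) (.node (.leaf 633) (.leaf 989)))) (.node (.node (.node (.node (.leaf 163) (.leaf 663)) (.leaf 801)) (.node (.leaf 546) (.leaf 998))) (.node (.node (.leaf 367) (.leaf 944)) (.node (.leaf 705) (.leaf 1099))))) (.node (.node (.node (.node (.node (.leaf 108) (.leaf 1124)) (.leaf 809)) (.node (.leaf 504) (.leaf 973))) (.node (.node (.leaf 317)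 (.leaf 926)) (.node (.leaf 671) (.leaf 1091)))) (.node (.node (.node (.node (.leaf 216) (.leaf 897)) (.leaf 877)) (.node (.leaf 591) (.leaf 688))) (.node (.node (.leaf 415) (.leaf 693)) (.node (.leaf 319) (.leaf 1120)))))))) (.node (.node (.node (.node (.node (.node (.node (.node (.leaf 13) (.leaf 1105)) (.leaf 262)) (.node (.leaf 433) (.leaf 983))) (.node (.node (.leaf 78) (.leaf 391)) (.node (.leaf 606) (.leaf 1048)))) (.node (.node (.node (.node (.leaf 129) (.leaf 888)) (.leaf 793)) (.node (.leaf 159) (.leaf 222))) (.node (.node (.leaf 334) (.leaf 939)) (.node (.leaf 683) (.leaf 1070))))) (.node (.node (.node (.node (.node (.leaf 72) (.leaf 868)) (.leaf 787)) (.node (.leaf 423) (.leaf 285))) (.node (.node (.leaf 280) (.leaf 891)) (.node (.leaf 647) (.leaf 1051)))) (.node (.node (.node (.node (.leaf 184) (.leaf 1072)) (.leaf 771)) (.node (.leaf 558) (.leaf 249))) (.node (.node (.leaf 386) (.leaf 906)) (.node (.leaf 720) (.leaf 1110)))))) (.node (.node (.node (.node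 (.node (.node (.leaf 44) (.leaf 193)) (.leaf 48)) (.node (.leaf 455) (.leaf 582))) (.node (.node (.leaf 263) (.leaf 823)) (.node (.leaf 538) (.leaf 674)))) (.node (.node (.node (.node (.leaf 2) (.leaf 742)) (.leaf 842)) (.node (.leaf 539) (.leaf 1043))) (.node (.node (.leaf 362) (.leaf 948)) (.node (.leaf 596) (.leaf 846))))) (.node (.node (.node (.node (.node (.leaf 93) (.leaf 494)) (.leaf 806)) (.node (.leaf 499) (.leaf 289))) (.node (.node (.leaf 62) (.leaf 464)) (.node (.leaf 661) (.leaf 1084)))) (.node (.node (.node (.node (.leaf 209) (.leaf 1144)) (.leaf 824)) (.node (.leaf 226) (.leaf 610))) (.node (.node (.leaf 409) (.leaf 708)) (.node (.leaf 210) (.leaf 449))))))) (.node (.node (.node (.node (.node (.node (.node (.leaf 29) (.leaf 919)) (.leaf 418)) (.node (.leaf 445) (.leaf 552))) (.node (.node (.leaf 248) (.leaf 805)) (.node (.leaf 310) (.leaf 299)))) (.node (.node (.node (.node (.leaf 143) (.leaf 1145)) (.leaf 41)) (.node (.leaf 530) (.leaf 1037))) (.node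 (.node (.leaf 349) (.leaf 859)) (.node (.leaf 696) (.leaf 488))))) (.node (.node (.node (.node (.node (.leaf 86) (.leaf 1137)) (.leaf 361)) (.node (.leaf 453) (.leaf 996))) (.node (.node (.leaf 293) (.leaf 918)) (.node (.leaf 657) (.leaf 702)))) (.node (.node (.node (.node (.leaf 190) (.leaf 1064)) (.leaf 406)) (.node (.leaf 575) (.leaf 544))) (.node (.node (.leaf 396) (.leaf 966)) (.node (.leaf 276) (.leaf 1113)))))) (.node (.node (.node (.node (.node (.node (.leaf 45) (.leaf 929)) (.leaf 402)) (.node (.leaf 12) (.leaf 979))) (.node (.node (.leaf 91) (.leaf 905)) (.node (.leaf 638) (.leaf 1083)))) (.node (.node (.node (.node (.leaf 170) (.leaf 728)) (.leaf 851)) (.node (.leaf 271) (.leaf 618))) (.node (.node (.leaf 374) (.leaf 404)) (.node (.leaf 632) (.leaf 524))))) (.node (.node (.node (.node (.node (.leaf 114) (.leaf 928)) (.leaf 371)) (.node (.leaf 414) (.leaf 665))) (.node (.node (.leaf 313) (.leaf 930)) (.node (.leaf 208) (.leaf 993)))) (.node (.node (.node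 (.node (.leaf 215) (.leaf 1132)) (.leaf 387)) (.node (.leaf 307) (.leaf 1069))) (.node (.node (.leaf 421) (.leaf 641)) (.node (.leaf 739) (.leaf 857)))))))))) (.node (.node (.node (.node (.node (.node (.node (.node (.node (.node (.leaf 3) (.leaf 947)) (.leaf 100)) (.node (.leaf 112) (.leaf 977))) (.node (.node (.leaf 227) (.leaf 795)) (.node (.leaf 600) (.leaf 1062)))) (.node (.node (.node (.node (.leaf 119) (.leaf 1141)) (.leaf 796)) (.node (.leaf 513) (.leaf 322))) (.node (.node (.leaf 327) (.leaf 934)) (.node (.leaf 680) (.leaf 677))))) (.node (.node (.node (.node (.node (.leaf 22) (.leaf 873)) (.leaf 489)) (.node (.leaf 471) (.leaf 1005))) (.node (.node (.leaf 277) (.leaf 908)) (.node (.leaf 609) (.leaf 1055)))) (.node (.node (.node (.node (.leaf 175) (.leaf 1148)) (.leaf 855)) (.node (.leaf 557) (.leaf 690))) (.node (.node (.leaf 380) (.leaf 956)) (.node (.leaf 713) (.leaf 1108)))))) (.node (.node (.node (.node (.node (.node (.leaf 14) (.leaf 921)) (.leaf 760))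 (.node (.leaf 116) (.leaf 273))) (.node (.node (.leaf 253) (.leaf 434)) (.node (.leaf 20) (.leaf 707)))) (.node (.node (.node (.node (.leaf 148) (.leaf 700)) (.leaf 834)) (.node (.leaf 535) (.leaf 1039))) (.node (.node (.leaf 353) (.leaf 491)) (.node (.leaf 87) (.leaf 164))))) (.node (.node (.node (.node (.node (.leaf 92) (.leaf 950)) (.leaf 800)) (.node (.leaf 398) (.leaf 1016))) (.node (.node (.leaf 296) (.leaf 827)) (.node (.leaf 578) (.leaf 1090)))) (.node (.node (.node (.node (.leaf 199) (.leaf 1079)) (.leaf 869)) (.node (.leaf 579) (.leaf 744))) (.node (.node (.leaf 395) (.leaf 478)) (.node (.leaf 556) (.leaf 149))))))) (.node (.node (.node (.node (.node (.node (.node (.leaf 19) (.leaf 1126)) (.leaf 710)) (.node (.leaf 428) (.leaf 278))) (.node (.node (.leaf 240) (.leaf 773)) (.node (.leaf 611) (.leaf 1075)))) (.node (.node (.node (.node (.leaf 134) (.leaf 1143)) (.leaf 825)) (.node (.leaf 438) (.leaf 731))) (.node (.node (.leaf 340) (.leaf 931)) (.node (.leaf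 691) (.leaf 1098))))) (.node (.node (.node (.node (.node (.leaf 77) (.leaf 932)) (.leaf 34)) (.node (.leaf 431) (.leaf 1010))) (.node (.node (.leaf 290) (.leaf 837)) (.node (.leaf 651) (.leaf 1025)))) (.node (.node (.node (.node (.leaf 189) (.leaf 722)) (.leaf 863)) (.node (.leaf 562) (.leaf 1007))) (.node (.node (.leaf 137) (.leaf 962)) (.node (.leaf 589) (.leaf 839)))))) (.node (.node (.node (.node (.node (.node (.leaf 49) (.leaf 482)) (.leaf 770)) (.node (.leaf 341) (.leaf 999))) (.node (.node (.leaf 260) (.leaf 832)) (.node (.leaf 585) (.leaf 235)))) (.node (.node (.node (.node (.leaf 161) (.leaf 650)) (.leaf 845)) (.node (.leaf 213) (.leaf 751))) (.node (.node (.leaf 162) (.leaf 440)) (.node (.leaf 607) (.leaf 470))))) (.node (.node (.node (.node (.node (.leaf 106) (.leaf 811)) (.leaf 366)) (.node (.leaf 500) (.leaf 563))) (.node (.node (.leaf 110) (.leaf 925)) (.node (.leaf 234) (.leaf 1067)))) (.node (.node (.node (.node (.leaf 214) (.leaf 1103)) (.leaf 875))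 (.node (.leaf 231) (.leaf 598))) (.node (.node (.leaf 408) (.leaf 972)) (.node (.leaf 736) (.leaf 820)))))))) (.node (.node (.node (.node (.node (.node (.node (.node (.leaf 11) (.leaf 498)) (.leaf 748)) (.node (.leaf 432) (.leaf 298))) (.node (.node (.leaf 233) (.leaf 56)) (.node (.leaf 564) (.leaf 1019)))) (.node (.node (.node (.node (.leaf 127) (.leaf 1106)) (.leaf 522)) (.node (.leaf 518) (.leaf 1029))) (.node (.node (.leaf 332) (.leaf 843)) (.node (.leaf 686) (.leaf 1045))))) (.node (.node (.node (.node (.node (.leaf 70) (.leaf 1134)) (.leaf 782)) (.node (.leaf 177) (.leaf 1008))) (.node (.node (.leaf 284) (.leaf 911)) (.node (.leaf 258) (.leaf 1085)))) (.node (.node (.node (.node (.leaf 182) (.leaf 1066)) (.leaf 860)) (.node (.leaf 60) (.leaf 675))) (.node (.node (.leaf 339) (.leaf 959)) (.node (.leaf 272) (.leaf 181)))))) (.node (.node (.node (.node (.node (.node (.leaf 42) (.leaf 949)) (.leaf 764)) (.node (.leaf 400) (.leaf 673))) (.node (.node (.leaf 261)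 (.leaf 896)) (.node (.leaf 315) (.leaf 1078)))) (.node (.node (.node (.node (.leaf 144) (.leaf 1024)) (.leaf 835)) (.node (.leaf 534) (.leaf 1015))) (.node (.node (.leaf 350) (.leaf 454)) (.node (.leaf 701) (.leaf 426))))) (.node (.node (.node (.node (.node (.leaf 99) (.leaf 1140)) (.leaf 804)) (.node (.leaf 497) (.leaf 984))) (.node (.node (.leaf 309) (.leaf 920)) (.node (.leaf 666) (.leaf 1082)))) (.node (.node (.node (.node (.leaf 207) (.leaf 1149)) (.leaf 472)) (.node (.leaf 584) (.leaf 668))) (.node (.node (.leaf 407) (.leaf 74)) (.node (.leaf 733) (.leaf 1117))))))) (.node (.node (.node (.node (.node (.node (.node (.leaf 27) (.leaf 815)) (.leaf 754)) (.node (.leaf 444) (.leaf 738))) (.node (.node (.leaf 246) (.leaf 343)) (.node (.leaf 617) (.leaf 734)))) (.node (.node (.node (.node (.leaf 142) (.leaf 654)) (.leaf 831)) (.node (.leaf 528) (.leaf 692))) (.node (.node (.leaf 348) (.leaf 898)) (.node (.leaf 695) (.leaf 413))))) (.node (.node (.node (.node (.node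 (.leaf 71) (.leaf 1127)) (.leaf 794)) (.node (.leaf 420) (.leaf 626))) (.node (.node (.leaf 297) (.leaf 917)) (.node (.leaf 655) (.leaf 1088)))) (.node (.node (.node (.node (.leaf 194) (.leaf 1061)) (.leaf 865)) (.node (.leaf 573) (.leaf 1053))) (.node (.node (.leaf 394) (.leaf 965)) (.node (.leaf 533) (.leaf 1111)))))) (.node (.node (.node (.node (.node (.node (.leaf 57) (.leaf 818)) (.leaf 777)) (.node (.leaf 466) (.leaf 1004))) (.node (.node (.leaf 217) (.leaf 379)) (.node (.leaf 636) (.leaf 981)))) (.node (.node (.node (.node (.leaf 59) (.leaf 1014)) (.leaf 849)) (.node (.leaf 550) (.leaf 1047))) (.node (.node (.leaf 372) (.leaf 953)) (.node (.leaf 646) (.leaf 503))))) (.node (.node (.node (.node (.node (.leaf 37) (.leaf 883)) (.leaf 813)) (.node (.leaf 508) (.leaf 69))) (.node (.node (.leaf 321) (.leaf 763)) (.node (.leaf 308) (.leaf 1093)))) (.node (.node (.node (.node (.leaf 221) (.leaf 955)) (.leaf 880)) (.node (.leaf 595) (.leaf 1068))) (.node (.node (.leaf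 10) (.leaf 568)) (.node (.leaf 244) (.leaf 802))))))))) (.node (.node (.node (.node (.node (.node (.node (.node (.node (.leaf 7) (.leaf 1119)) (.leaf 224)) (.node (.leaf 429) (.leaf 982))) (.node (.node (.leaf 220) (.leaf 885)) (.node (.leaf 603) (.leaf 637)))) (.node (.node (.node (.node (.leaf 123) (.leaf 1139)) (.leaf 58)) (.node (.leaf 510) (.leaf 1026))) (.node (.node (.leaf 330) (.leaf 935)) (.node (.leaf 684) (.leaf 1063))))) (.node (.node (.node (.node (.node (.leaf 66) (.leaf 814)) (.leaf 783)) (.node (.leaf 352) (.leaf 267))) (.node (.node (.leaf 281) (.leaf 909)) (.node (.leaf 587) (.leaf 635)))) (.node (.node (.node (.node (.leaf 178) (.leaf 1092)) (.leaf 493)) (.node (.leaf 561) (.leaf 103))) (.node (.node (.leaf 32) (.leaf 135)) (.node (.leaf 256) (.leaf 128)))))) (.node (.node (.node (.node (.node (.node (.leaf 38) (.leaf 477)) (.leaf 757)) (.node (.leaf 450) (.leaf 84))) (.node (.node (.leaf 257) (.leaf 808)) (.node (.leaf 247) (.leaf 1040)))) (.node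 (.node (.node (.node (.leaf 152) (.leaf 1071)) (.leaf 838)) (.node (.leaf 537) (.leaf 1041))) (.node (.node (.leaf 357) (.leaf 113)) (.node (.leaf 699) (.leaf 889))))) (.node (.node (.node (.node (.node (.leaf 96) (.leaf 1123)) (.leaf 141)) (.node (.leaf 495) (.leaf 325))) (.node (.node (.leaf 306) (.leaf 157)) (.node (.leaf 662) (.leaf 527)))) (.node (.node (.node (.node (.leaf 203) (.leaf 1086)) (.leaf 871)) (.node (.leaf 576) (.leaf 1065))) (.node (.node (.leaf 403) (.leaf 191)) (.node (.leaf 732) (.leaf 368))))))) (.node (.node (.node (.node (.node (.node (.node (.leaf 23) (.leaf 512)) (.leaf 755)) (.node (.leaf 441) (.leaf 547))) (.node (.node (.leaf 85) (.leaf 892)) (.node (.leaf 80) (.leaf 1058)))) (.node (.node (.node (.node (.leaf 138) (.leaf 1021)) (.leaf 828)) (.node (.leaf 126) (.leaf 1034))) (.node (.node (.leaf 344) (.leaf 486)) (.node (.leaf 687) (.leaf 1100))))) (.node (.node (.node (.node (.node (.leaf 81) (.leaf 788)) (.leaf 356)) (.node (.leaf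 485) (.leaf 1012))) (.node (.node (.leaf 294) (.leaf 459)) (.node (.leaf 554) (.leaf 630)))) (.node (.node (.node (.node (.leaf 185) (.leaf 1018)) (.leaf 133)) (.node (.leaf 569) (.leaf 243))) (.node (.node (.leaf 390) (.leaf 923)) (.node (.leaf 724) (.leaf 841)))))) (.node (.node (.node (.node (.node (.node (.leaf 53) (.leaf 1116)) (.leaf 774)) (.node (.leaf 463) (.leaf 1002))) (.node (.node (.leaf 269) (.leaf 881)) (.node (.leaf 628) (.leaf 1081)))) (.node (.node (.node (.node (.leaf 165) (.leaf 1096)) (.leaf 187)) (.node (.leaf 237) (.leaf 656))) (.node (.node (.leaf 369) (.leaf 900)) (.node (.leaf 704) (.leaf 960))))) (.node (.node (.node (.node (.node (.leaf 98) (.leaf 1142)) (.leaf 430)) (.node (.leaf 506) (.leaf 1022))) (.node (.node (.leaf 318) (.leaf 927)) (.node (.leaf 672) (.leaf 726)))) (.node (.node (.node (.node (.leaf 218) (.leaf 963)) (.leaf 879)) (.node (.leaf 592) (.leaf 1030))) (.node (.node (.leaf 417) (.leaf 974)) (.node (.leaf 621) (.leaf 894))))))))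 (.node (.node (.node (.node (.node (.node (.node (.node (.leaf 15) (.leaf 1109)) (.leaf 750)) (.node (.leaf 435) (.leaf 985))) (.node (.node (.leaf 236) (.leaf 358)) (.node (.leaf 608) (.leaf 640)))) (.node (.node (.node (.node (.leaf 120) (.leaf 474)) (.leaf 419)) (.node (.leaf 520) (.leaf 1003))) (.node (.node (.leaf 336) (.leaf 168)) (.node (.leaf 653) (.leaf 268))))) (.node (.node (.node (.node (.node (.leaf 30) (.leaf 1125)) (.leaf 789)) (.node (.leaf 480) (.leaf 572))) (.node (.node (.leaf 286) (.leaf 360)) (.node (.leaf 648) (.leaf 709)))) (.node (.node (.node (.node (.leaf 186) (.leaf 1151)) (.leaf 856)) (.node (.leaf 529) (.leaf 1056))) (.node (.node (.leaf 382) (.leaf 484)) (.node (.leaf 721) (.leaf 951)))))) (.node (.node (.node (.node (.node (.node (.leaf 46) (.leaf 1101)) (.leaf 767)) (.node (.leaf 457) (.leaf 254))) (.node (.node (.leaf 264) (.leaf 899)) (.node (.leaf 629) (.leaf 1033)))) (.node (.node (.node (.node (.leaf 158) (.leaf 230)) (.leaf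 192)) (.node (.leaf 541) (.leaf 1044))) (.node (.node (.leaf 131) (.leaf 776)) (.node (.leaf 703) (.leaf 1104))))) (.node (.node (.node (.node (.node (.leaf 102) (.leaf 519)) (.leaf 35)) (.node (.leaf 501) (.leaf 82))) (.node (.node (.leaf 312) (.leaf 769)) (.node (.leaf 270) (.leaf 580)))) (.node (.node (.node (.node (.leaf 211) (.leaf 1031)) (.leaf 458)) (.node (.leaf 586) (.leaf 737))) (.node (.node (.leaf 410) (.leaf 969)) (.node (.leaf 601) (.leaf 169))))))) (.node (.node (.node (.node (.node (.node (.node (.leaf 31) (.leaf 957)) (.leaf 758)) (.node (.leaf 446) (.leaf 991))) (.node (.node (.leaf 250) (.leaf 43)) (.node (.leaf 619) (.leaf 1076)))) (.node (.node (.node (.node (.leaf 145) (.leaf 992)) (.leaf 833)) (.node (.leaf 532) (.leaf 1038))) (.node (.node (.leaf 351) (.leaf 502)) (.node (.leaf 697) (.leaf 393))))) (.node (.node (.node (.node (.node (.leaf 88) (.leaf 1102)) (.leaf 797)) (.node (.leaf 490) (.leaf 614))) (.node (.node (.leaf 300) (.leaf 492))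 (.node (.leaf 26) (.leaf 1073)))) (.node (.node (.node (.node (.leaf 65) (.leaf 1060)) (.leaf 867)) (.node (.leaf 577) (.leaf 639))) (.node (.node (.leaf 397) (.leaf 456)) (.node (.leaf 228) (.leaf 915)))))) (.node (.node (.node (.node (.node (.node (.leaf 0) (.leaf 1131)) (.leaf 778)) (.node (.leaf 468) (.leaf 712))) (.node (.node (.leaf 274) (.leaf 907)) (.node (.leaf 73) (.leaf 1080)))) (.node (.node (.node (.node (.leaf 171) (.leaf 740)) (.leaf 853)) (.node (.leaf 553) (.leaf 970))) (.node (.node (.leaf 376) (.leaf 954)) (.node (.leaf 251) (.leaf 878))))) (.node (.node (.node (.node (.node (.leaf 115) (.leaf 941)) (.leaf 816)) (.node (.leaf 509) (.leaf 593))) (.node (.node (.leaf 324) (.leaf 525)) (.node (.leaf 676) (.leaf 1094)))) (.node (.node (.node (.node (.leaf 223) (.leaf 901)) (.leaf 481)) (.node (.leaf 95) (.leaf 988))) (.node (.node (.leaf 151) (.leaf 976)) (.node (.leaf 645) (.leaf 416))))))))))) (.node (.node (.node (.node (.node (.node (.node (.node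 (.node (.node (.node (.leaf 2) (.leaf 380)) (.leaf 744)) (.node (.leaf 425) (.leaf 586))) (.node (.node (.leaf 226) (.leaf 834)) (.node (.leaf 201) (.leaf 253)))) (.node (.node (.node (.node (.leaf 118) (.leaf 1113)) (.leaf 789)) (.node (.leaf 512) (.leaf 1026))) (.node (.node (.leaf 68) (.leaf 933)) (.node (.leaf 679) (.leaf 1056))))) (.node (.node (.node (.node (.node (.leaf 62) (.leaf 860)) (.leaf 780)) (.node (.leaf 470) (.leaf 1006))) (.node (.node (.leaf 276) (.leaf 389)) (.node (.leaf 317) (.leaf 997)))) (.node (.node (.node (.node (.leaf 174) (.leaf 1009)) (.leaf 803)) (.node (.leaf 556) (.leaf 555))) (.node (.node (.leaf 379) (.leaf 955)) (.node (.leaf 712) (.leaf 882)))))) (.node (.node (.node (.node (.node (.node (.leaf 34) (.leaf 427)) (.leaf 53)) (.node (.leaf 49) (.leaf 982))) (.node (.node (.leaf 252) (.leaf 894)) (.node (.leaf 621) (.leaf 306)))) (.node (.node (.node (.node (.leaf 147) (.leaf 971)) (.leaf 13)) (.node (.leaf 534) (.leaf 257))) (.node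 (.node (.leaf 145) (.leaf 875)) (.node (.leaf 61) (.leaf 1101))))) (.node (.node (.node (.node (.node (.leaf 91) (.leaf 436)) (.leaf 799)) (.node (.leaf 492) (.leaf 1015))) (.node (.node (.leaf 303) (.leaf 919)) (.node (.leaf 329) (.leaf 1076)))) (.node (.node (.node (.node (.leaf 19) (.leaf 1093)) (.leaf 868)) (.node (.leaf 578) (.leaf 1063))) (.node (.node (.leaf 400) (.leaf 849)) (.node (.leaf 728) (.leaf 441))))))) (.node (.node (.node (.node (.node (.node (.node (.leaf 18) (.leaf 1125)) (.leaf 703)) (.node (.leaf 437) (.leaf 684))) (.node (.node (.leaf 239) (.leaf 888)) (.node (.leaf 610) (.leaf 528)))) (.node (.node (.node (.node (.leaf 133) (.leaf 760)) (.leaf 824)) (.node (.leaf 522) (.leaf 1032))) (.node (.node (.leaf 339) (.leaf 520)) (.node (.leaf 690) (.leaf 838))))) (.node (.node (.node (.node (.node (.leaf 76) (.leaf 871)) (.leaf 501)) (.node (.leaf 417) (.leaf 218))) (.node (.node (.leaf 289) (.leaf 346)) (.node (.leaf 650) (.leaf 294)))) (.node (.node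 (.node (.node (.leaf 173) (.leaf 686)) (.leaf 774)) (.node (.leaf 246) (.leaf 1058))) (.node (.node (.leaf 387) (.leaf 429)) (.node (.leaf 277) (.leaf 770)))))) (.node (.node (.node (.node (.node (.node (.leaf 48) (.leaf 143)) (.leaf 769)) (.node (.leaf 459) (.leaf 998))) (.node (.node (.leaf 266) (.leaf 461)) (.node (.leaf 631) (.leaf 1080)))) (.node (.node (.node (.node (.leaf 160) (.leaf 1049)) (.leaf 831)) (.node (.leaf 544) (.leaf 1036))) (.node (.node (.leaf 154) (.leaf 415)) (.node (.leaf 704) (.leaf 119))))) (.node (.node (.node (.node (.node (.leaf 105) (.leaf 948)) (.leaf 808)) (.node (.leaf 503) (.leaf 1019))) (.node (.node (.leaf 315) (.leaf 862)) (.node (.leaf 203) (.leaf 985)))) (.node (.node (.node (.node (.leaf 213) (.leaf 499)) (.leaf 874)) (.node (.leaf 589) (.leaf 579))) (.node (.node (.leaf 413) (.leaf 756)) (.node (.leaf 250) (.leaf 180)))))))) (.node (.node (.node (.node (.node (.node (.node (.node (.leaf 10) (.leaf 1124)) (.leaf 592)) (.node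 (.leaf 431) (.leaf 613))) (.node (.node (.leaf 232) (.leaf 9)) (.node (.leaf 604) (.leaf 588)))) (.node (.node (.node (.node (.leaf 126) (.leaf 1143)) (.leaf 432)) (.node (.leaf 517) (.leaf 1028))) (.node (.node (.leaf 0) (.leaf 938)) (.node (.leaf 599) (.leaf 711))))) (.node (.node (.node (.node (.node (.leaf 69) (.leaf 946)) (.leaf 424)) (.node (.leaf 477) (.leaf 1002))) (.node (.node (.leaf 283) (.leaf 853)) (.node (.leaf 645) (.leaf 648)))) (.node (.node (.node (.node (.leaf 181) (.leaf 595)) (.leaf 859)) (.node (.leaf 562) (.leaf 1053))) (.node (.node (.leaf 384) (.leaf 958)) (.node (.leaf 718) (.leaf 1109)))))) (.node (.node (.node (.node (.node (.node (.leaf 41) (.leaf 1128)) (.leaf 763)) (.node (.leaf 453) (.leaf 591))) (.node (.node (.leaf 260) (.leaf 450)) (.node (.leaf 626) (.leaf 755)))) (.node (.node (.node (.node (.leaf 155) (.leaf 1146)) (.leaf 759)) (.node (.leaf 538) (.leaf 1042))) (.node (.node (.leaf 360) (.leaf 833)) (.node (.leaf 700) (.leaf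 816))))) (.node (.node (.node (.node (.node (.leaf 98) (.leaf 468)) (.leaf 334)) (.node (.leaf 127) (.leaf 999))) (.node (.node (.leaf 308) (.leaf 390)) (.node (.leaf 665) (.leaf 975)))) (.node (.node (.node (.node (.leaf 206) (.leaf 1088)) (.leaf 132)) (.node (.leaf 583) (.leaf 292))) (.node (.node (.leaf 406) (.leaf 344)) (.node (.leaf 669) (.leaf 840))))))) (.node (.node (.node (.node (.node (.node (.node (.leaf 26) (.leaf 905)) (.leaf 685)) (.node (.leaf 443) (.leaf 988))) (.node (.node (.leaf 108) (.leaf 842)) (.node (.leaf 616) (.leaf 567)))) (.node (.node (.node (.node (.leaf 141) (.leaf 991)) (.leaf 830)) (.node (.leaf 527) (.leaf 1010))) (.node (.node (.leaf 347) (.leaf 175)) (.node (.leaf 557) (.leaf 523))))) (.node (.node (.node (.node (.node (.leaf 84) (.leaf 777)) (.leaf 793)) (.node (.leaf 487) (.leaf 106))) (.node (.node (.leaf 296) (.leaf 466)) (.node (.leaf 72) (.leaf 1012)))) (.node (.node (.node (.node (.leaf 193) (.leaf 1087)) (.leaf 864)) (.node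 (.leaf 572) (.leaf 671))) (.node (.node (.leaf 393) (.leaf 964)) (.node (.leaf 5) (.leaf 1112)))))) (.node (.node (.node (.node (.node (.node (.leaf 56) (.leaf 186)) (.leaf 776)) (.node (.leaf 129) (.leaf 1003))) (.node (.node (.leaf 271) (.leaf 397)) (.node (.leaf 635) (.leaf 723)))) (.node (.node (.node (.node (.leaf 168) (.leaf 537)) (.leaf 848)) (.node (.leaf 549) (.leaf 1046))) (.node (.node (.leaf 371) (.leaf 911)) (.node (.leaf 707) (.leaf 962))))) (.node (.node (.node (.node (.node (.leaf 112) (.leaf 903)) (.leaf 812)) (.node (.leaf 507) (.leaf 242))) (.node (.node (.leaf 236) (.leaf 928)) (.node (.leaf 625) (.leaf 1092)))) (.node (.node (.node (.node (.leaf 220) (.leaf 410)) (.leaf 819)) (.node (.leaf 269) (.leaf 1038))) (.node (.node (.leaf 419) (.leaf 969)) (.node (.leaf 740) (.leaf 787))))))))) (.node (.node (.node (.node (.node (.node (.node (.node (.node (.leaf 6) (.leaf 372)) (.leaf 746)) (.node (.leaf 428) (.leaf 981))) (.node (.node (.leaf 230)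 (.leaf 381)) (.node (.leaf 594) (.leaf 1072)))) (.node (.node (.node (.node (.leaf 122) (.leaf 858)) (.leaf 820)) (.node (.leaf 348) (.leaf 606))) (.node (.node (.leaf 320) (.leaf 863)) (.node (.leaf 683) (.leaf 1096))))) (.node (.node (.node (.node (.node (.leaf 65) (.leaf 409)) (.leaf 782)) (.node (.leaf 474) (.leaf 526))) (.node (.node (.leaf 280) (.leaf 854)) (.node (.leaf 643) (.leaf 974)))) (.node (.node (.node (.node (.leaf 177) (.leaf 1057)) (.leaf 412)) (.node (.leaf 560) (.leaf 1050))) (.node (.node (.leaf 382) (.leaf 957)) (.node (.leaf 716) (.leaf 953)))))) (.node (.node (.node (.node (.node (.node (.leaf 37) (.leaf 496)) (.leaf 761)) (.node (.leaf 449) (.leaf 994))) (.node (.node (.leaf 256) (.leaf 896)) (.node (.leaf 623) (.leaf 330)))) (.node (.node (.node (.node (.leaf 151) (.leaf 1037)) (.leaf 837)) (.node (.leaf 530) (.leaf 1040))) (.node (.node (.leaf 356) (.leaf 332)) (.node (.leaf 698) (.leaf 1102))))) (.node (.node (.node (.node (.node (.leaf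 95) (.leaf 1139)) (.leaf 801)) (.node (.leaf 494) (.leaf 655))) (.node (.node (.leaf 305) (.leaf 920)) (.node (.leaf 661) (.leaf 701)))) (.node (.node (.node (.node (.leaf 202) (.leaf 1017)) (.leaf 870)) (.node (.leaf 92) (.leaf 1064))) (.node (.node (.leaf 402) (.leaf 959)) (.node (.leaf 731) (.leaf 934))))))) (.node (.node (.node (.node (.node (.node (.node (.leaf 22) (.leaf 140)) (.leaf 754)) (.node (.leaf 440) (.leaf 976))) (.node (.node (.leaf 243) (.leaf 891)) (.node (.leaf 614) (.leaf 1039)))) (.node (.node (.node (.node (.leaf 137) (.leaf 1083)) (.leaf 827)) (.node (.leaf 524) (.leaf 1033))) (.node (.node (.leaf 343) (.leaf 941)) (.node (.leaf 692) (.leaf 1099))))) (.node (.node (.node (.node (.node (.leaf 80) (.leaf 1122)) (.leaf 399)) (.node (.leaf 484) (.leaf 1011))) (.node (.node (.leaf 293) (.leaf 915)) (.node (.leaf 653) (.leaf 1044)))) (.node (.node (.node (.node (.leaf 191) (.leaf 295)) (.leaf 111)) (.node (.leaf 568) (.leaf 275))) (.node (.node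 (.leaf 42) (.leaf 497)) (.node (.leaf 264) (.leaf 476)))))) (.node (.node (.node (.node (.node (.node (.leaf 52) (.leaf 483)) (.leaf 773)) (.node (.leaf 462) (.leaf 1001))) (.node (.node (.leaf 268) (.leaf 902)) (.node (.leaf 634) (.leaf 1022)))) (.node (.node (.node (.node (.leaf 164) (.leaf 1075)) (.leaf 809)) (.node (.leaf 229) (.leaf 1043))) (.node (.node (.leaf 368) (.leaf 950)) (.node (.leaf 66) (.leaf 36))))) (.node (.node (.node (.node (.node (.leaf 109) (.leaf 1141)) (.leaf 810)) (.node (.leaf 505) (.leaf 1021))) (.node (.node (.leaf 288) (.leaf 374)) (.node (.leaf 657) (.leaf 561)))) (.node (.node (.node (.node (.leaf 217) (.leaf 775)) (.leaf 878)) (.node (.leaf 569) (.leaf 1066))) (.node (.node (.leaf 416) (.leaf 233)) (.node (.leaf 738) (.leaf 40)))))))) (.node (.node (.node (.node (.node (.node (.node (.node (.leaf 14) (.leaf 794)) (.leaf 749)) (.node (.leaf 434) (.leaf 984))) (.node (.node (.leaf 235) (.leaf 887)) (.node (.leaf 607) (.leaf 1073))))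 (.node (.node (.node (.node (.leaf 130) (.leaf 394)) (.leaf 822)) (.node (.leaf 519) (.leaf 617))) (.node (.node (.leaf 335) (.leaf 804)) (.node (.leaf 297) (.leaf 584))))) (.node (.node (.node (.node (.node (.leaf 73) (.leaf 378)) (.leaf 788)) (.node (.leaf 479) (.leaf 987))) (.node (.node (.leaf 15) (.leaf 910)) (.node (.leaf 83) (.leaf 691)))) (.node (.node (.node (.node (.leaf 185) (.leaf 1150)) (.leaf 861)) (.node (.leaf 564) (.leaf 1055))) (.node (.node (.leaf 171) (.leaf 961)) (.node (.leaf 651) (.leaf 865)))))) (.node (.node (.node (.node (.node (.node (.leaf 45) (.leaf 1100)) (.leaf 766)) (.node (.leaf 456) (.leaf 995))) (.node (.node (.leaf 248) (.leaf 898)) (.node (.leaf 628) (.leaf 1079)))) (.node (.node (.node (.node (.leaf 157) (.leaf 1147)) (.leaf 336)) (.node (.leaf 540) (.leaf 600))) (.node (.node (.leaf 363) (.leaf 845)) (.node (.leaf 702) (.leaf 405))))) (.node (.node (.node (.node (.node (.leaf 101) (.leaf 767)) (.leaf 800)) (.node (.leaf 500)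 (.leaf 17))) (.node (.node (.leaf 311) (.leaf 851)) (.node (.leaf 667) (.leaf 1069)))) (.node (.node (.node (.node (.leaf 210) (.leaf 1052)) (.leaf 170)) (.node (.leaf 585) (.leaf 706))) (.node (.node (.leaf 396) (.leaf 88)) (.node (.leaf 539) (.leaf 908))))))) (.node (.node (.node (.node (.node (.node (.node (.leaf 30) (.leaf 1127)) (.leaf 757)) (.node (.leaf 446) (.leaf 990))) (.node (.node (.leaf 249) (.leaf 893)) (.node (.leaf 618) (.leaf 64)))) (.node (.node (.node (.node (.leaf 144) (.leaf 1000)) (.leaf 832)) (.node (.leaf 531) (.leaf 694))) (.node (.node (.leaf 350) (.leaf 892)) (.node (.leaf 571) (.leaf 885))))) (.node (.node (.node (.node (.node (.leaf 87) (.leaf 914)) (.leaf 796)) (.node (.leaf 489) (.leaf 245))) (.node (.node (.leaf 299) (.leaf 884)) (.node (.leaf 29) (.leaf 261)))) (.node (.node (.node (.node (.leaf 196) (.leaf 689)) (.leaf 866)) (.node (.leaf 576) (.leaf 1061))) (.node (.node (.leaf 7) (.leaf 758)) (.node (.leaf 726) (.leaf 927))))))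 (.node (.node (.node (.node (.node (.node (.leaf 59) (.leaf 825)) (.leaf 165)) (.node (.leaf 407) (.leaf 21))) (.node (.node (.leaf 273) (.leaf 906)) (.node (.leaf 639) (.leaf 1081)))) (.node (.node (.node (.node (.leaf 134) (.leaf 279)) (.leaf 852)) (.node (.leaf 552) (.leaf 752))) (.node (.node (.leaf 375) (.leaf 33)) (.node (.leaf 709) (.leaf 1106))))) (.node (.node (.node (.node (.node (.leaf 11) (.leaf 1135)) (.leaf 815)) (.node (.leaf 114) (.leaf 1024))) (.node (.node (.leaf 323) (.leaf 931)) (.node (.leaf 675) (.leaf 1095)))) (.node (.node (.node (.node (.leaf 99) (.leaf 355)) (.leaf 455)) (.node (.leaf 597) (.leaf 263))) (.node (.node (.leaf 422) (.leaf 664)) (.node (.leaf 713) (.leaf 1121)))))))))) (.node (.node (.node (.node (.node (.node (.node (.node (.node (.node (.leaf 4) (.leaf 1123)) (.leaf 745)) (.node (.leaf 426) (.leaf 979))) (.node (.node (.leaf 228) (.leaf 883)) (.node (.leaf 601) (.leaf 1071)))) (.node (.node (.node (.node (.leaf 120) (.leaf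 1137)) (.leaf 818)) (.node (.leaf 514) (.leaf 1027))) (.node (.node (.leaf 328) (.leaf 515)) (.node (.leaf 681) (.leaf 321))))) (.node (.node (.node (.node (.node (.leaf 63) (.leaf 1132)) (.leaf 513)) (.node (.leaf 472) (.leaf 678))) (.node (.node (.leaf 278) (.leaf 909)) (.node (.leaf 641) (.leaf 1084)))) (.node (.node (.node (.node (.leaf 176) (.leaf 1091)) (.leaf 856)) (.node (.leaf 558) (.leaf 732))) (.node (.node (.leaf 367) (.leaf 188)) (.node (.leaf 714) (.leaf 829)))))) (.node (.node (.node (.node (.node (.node (.leaf 35) (.leaf 445)) (.leaf 136)) (.node (.leaf 448) (.leaf 993))) (.node (.node (.leaf 254) (.leaf 895)) (.node (.leaf 573) (.leaf 312)))) (.node (.node (.node (.node (.leaf 149) (.leaf 1068)) (.leaf 835)) (.node (.leaf 324) (.leaf 535))) (.node (.node (.leaf 354) (.leaf 945)) (.node (.leaf 603) (.leaf 918))))) (.node (.node (.node (.node (.node (.leaf 93) (.leaf 783)) (.leaf 386)) (.node (.leaf 493) (.leaf 721))) (.node (.node (.leaf 304) (.leaf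 917)) (.node (.leaf 198) (.leaf 705)))) (.node (.node (.node (.node (.leaf 200) (.leaf 1151)) (.leaf 785)) (.node (.leaf 580) (.leaf 1023))) (.node (.node (.leaf 31) (.leaf 401)) (.node (.leaf 729) (.leaf 1115))))))) (.node (.node (.node (.node (.node (.node (.node (.leaf 20) (.leaf 51)) (.leaf 274)) (.node (.leaf 438) (.leaf 566))) (.node (.node (.leaf 241) (.leaf 889)) (.node (.leaf 612) (.leaf 94)))) (.node (.node (.node (.node (.leaf 135) (.leaf 150)) (.leaf 342)) (.node (.leaf 471) (.leaf 986))) (.node (.node (.leaf 341) (.leaf 772)) (.node (.leaf 532) (.leaf 792))))) (.node (.node (.node (.node (.node (.leaf 78) (.leaf 867)) (.leaf 790)) (.node (.leaf 482) (.leaf 978))) (.node (.node (.leaf 291) (.leaf 913)) (.node (.leaf 652) (.leaf 1078)))) (.node (.node (.node (.node (.leaf 190) (.leaf 1145)) (.leaf 357)) (.node (.leaf 238) (.leaf 753))) (.node (.node (.leaf 388) (.leaf 152)) (.node (.leaf 722) (.leaf 954)))))) (.node (.node (.node (.node (.node (.node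 (.leaf 50) (.leaf 1129)) (.leaf 771)) (.node (.leaf 460) (.leaf 647))) (.node (.node (.leaf 267) (.leaf 901)) (.node (.leaf 632) (.leaf 980)))) (.node (.node (.node (.node (.leaf 162) (.leaf 1047)) (.leaf 846)) (.node (.leaf 545) (.leaf 1045))) (.node (.node (.leaf 366) (.leaf 511)) (.node (.leaf 23) (.leaf 806))))) (.node (.node (.node (.node (.node (.leaf 107) (.leaf 1108)) (.leaf 508)) (.node (.leaf 46) (.leaf 1020))) (.node (.node (.leaf 316) (.leaf 490)) (.node (.leaf 670) (.leaf 543)))) (.node (.node (.node (.node (.leaf 215) (.leaf 930)) (.leaf 876)) (.node (.leaf 590) (.leaf 662))) (.node (.node (.leaf 414) (.leaf 973)) (.node (.leaf 737) (.leaf 1119)))))))) (.node (.node (.node (.node (.node (.node (.node (.node (.leaf 12) (.leaf 922)) (.leaf 282)) (.node (.leaf 403) (.leaf 733))) (.node (.node (.leaf 234) (.leaf 148)) (.node (.leaf 605) (.leaf 649)))) (.node (.node (.node (.node (.leaf 128) (.leaf 1140)) (.leaf 821)) (.node (.leaf 121) (.leaf 1030))) (.node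 (.node (.leaf 333) (.leaf 855)) (.node (.leaf 687) (.leaf 1097))))) (.node (.node (.node (.node (.node (.leaf 71) (.leaf 1120)) (.leaf 786)) (.node (.leaf 478) (.leaf 696))) (.node (.node (.leaf 285) (.leaf 123)) (.node (.leaf 646) (.leaf 219)))) (.node (.node (.node (.node (.leaf 183) (.leaf 748)) (.leaf 55)) (.node (.leaf 563) (.leaf 1054))) (.node (.node (.leaf 385) (.leaf 960)) (.node (.leaf 719) (.leaf 485)))))) (.node (.node (.node (.node (.node (.node (.leaf 43) (.leaf 807)) (.leaf 765)) (.node (.leaf 454) (.leaf 290))) (.node (.node (.leaf 262) (.leaf 877)) (.node (.leaf 627) (.leaf 717)))) (.node (.node (.node (.node (.leaf 156) (.leaf 608)) (.leaf 841)) (.node (.leaf 221) (.leaf 620))) (.node (.node (.leaf 361) (.leaf 947)) (.node (.leaf 96) (.leaf 797))))) (.node (.node (.node (.node (.node (.leaf 100) (.leaf 764)) (.leaf 805)) (.node (.leaf 498) (.leaf 1018))) (.node (.node (.leaf 310) (.leaf 473)) (.node (.leaf 536) (.leaf 77)))) (.node (.node (.node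 (.node (.leaf 208) (.leaf 541)) (.leaf 872)) (.node (.leaf 284) (.leaf 1004))) (.node (.node (.leaf 408) (.leaf 968)) (.node (.leaf 734) (.leaf 1118))))))) (.node (.node (.node (.node (.node (.node (.node (.leaf 28) (.leaf 778)) (.leaf 259)) (.node (.leaf 435) (.leaf 989))) (.node (.node (.leaf 247) (.leaf 762)) (.node (.leaf 302) (.leaf 682)))) (.node (.node (.node (.node (.leaf 125) (.leaf 546)) (.leaf 44)) (.node (.leaf 529) (.leaf 326))) (.node (.node (.leaf 340) (.leaf 943)) (.node (.leaf 227) (.leaf 463))))) (.node (.node (.node (.node (.node (.leaf 85) (.leaf 935)) (.leaf 795)) (.node (.leaf 488) (.leaf 1013))) (.node (.node (.leaf 298) (.leaf 442)) (.node (.leaf 656) (.leaf 1065)))) (.node (.node (.node (.node (.leaf 195) (.leaf 1029)) (.leaf 433)) (.node (.leaf 574) (.leaf 972))) (.node (.node (.leaf 395) (.leaf 338)) (.node (.leaf 102) (.leaf 1107)))))) (.node (.node (.node (.node (.node (.node (.leaf 58) (.leaf 1131)) (.leaf 768)) (.node (.leaf 467) (.leaf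 602))) (.node (.node (.leaf 272) (.leaf 904)) (.node (.leaf 637) (.leaf 1082)))) (.node (.node (.node (.node (.leaf 169) (.leaf 1149)) (.leaf 850)) (.node (.leaf 551) (.leaf 327))) (.node (.node (.leaf 373) (.leaf 465)) (.node (.leaf 708) (.leaf 365))))) (.node (.node (.node (.node (.node (.leaf 113) (.leaf 1142)) (.leaf 814)) (.node (.leaf 392) (.leaf 550))) (.node (.node (.leaf 322) (.leaf 929)) (.node (.leaf 674) (.leaf 1094)))) (.node (.node (.node (.node (.leaf 222) (.leaf 1133)) (.leaf 881)) (.node (.leaf 596) (.leaf 672))) (.node (.node (.leaf 420) (.leaf 240)) (.node (.leaf 741) (.leaf 836))))))))) (.node (.node (.node (.node (.node (.node (.node (.node (.node (.leaf 8) (.leaf 926)) (.leaf 747)) (.node (.leaf 430) (.leaf 214))) (.node (.node (.leaf 231) (.leaf 886)) (.node (.leaf 75) (.leaf 1059)))) (.node (.node (.node (.node (.leaf 124) (.leaf 1117)) (.leaf 480)) (.node (.leaf 516) (.leaf 1016))) (.node (.node (.leaf 331) (.leaf 936)) (.node (.leaf 629)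 (.leaf 575))))) (.node (.node (.node (.node (.node (.leaf 67) (.leaf 890)) (.leaf 784)) (.node (.leaf 475) (.leaf 1007))) (.node (.node (.leaf 3) (.leaf 376)) (.node (.leaf 644) (.leaf 1085)))) (.node (.node (.node (.node (.leaf 179) (.leaf 1041)) (.leaf 857)) (.node (.leaf 548) (.leaf 1051))) (.node (.node (.leaf 383) (.leaf 178)) (.node (.leaf 638) (.leaf 353)))))) (.node (.node (.node (.node (.node (.node (.leaf 39) (.leaf 880)) (.leaf 351)) (.node (.leaf 451) (.leaf 633))) (.node (.node (.leaf 258) (.leaf 897)) (.node (.leaf 624) (.leaf 216)))) (.node (.node (.node (.node (.leaf 153) (.leaf 255)) (.leaf 839)) (.node (.leaf 90) (.leaf 680))) (.node (.node (.leaf 358) (.leaf 937)) (.node (.leaf 318) (.leaf 1103))))) (.node (.node (.node (.node (.node (.leaf 79) (.leaf 791)) (.leaf 802)) (.node (.leaf 57) (.leaf 611))) (.node (.node (.leaf 307) (.leaf 921)) (.node (.leaf 663) (.leaf 695)))) (.node (.node (.node (.node (.leaf 204) (.leaf 225)) (.leaf 115)) (.node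 (.leaf 582) (.leaf 25))) (.node (.node (.leaf 404) (.leaf 967)) (.node (.leaf 642) (.leaf 1116))))))) (.node (.node (.node (.node (.node (.node (.node (.leaf 24) (.leaf 966)) (.leaf 81)) (.node (.leaf 117) (.leaf 659))) (.node (.node (.leaf 244) (.leaf 167)) (.node (.leaf 615) (.leaf 750)))) (.node (.node (.node (.node (.leaf 139) (.leaf 1144)) (.leaf 495)) (.node (.leaf 525) (.leaf 1035))) (.node (.node (.leaf 345) (.leaf 942)) (.node (.leaf 693) (.leaf 952))))) (.node (.node (.node (.node (.node (.leaf 82) (.leaf 1126)) (.leaf 457)) (.node (.leaf 486) (.leaf 199))) (.node (.node (.leaf 281) (.leaf 916)) (.node (.leaf 654) (.leaf 730)))) (.node (.node (.node (.node (.leaf 192) (.leaf 715)) (.leaf 518)) (.node (.leaf 570) (.leaf 1060))) (.node (.node (.leaf 391) (.leaf 963)) (.node (.leaf 725) (.leaf 1111)))))) (.node (.node (.node (.node (.node (.node (.leaf 54) (.leaf 1130)) (.leaf 158)) (.node (.leaf 464) (.leaf 70))) (.node (.node (.leaf 270) (.leaf 798)) (.node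 (.leaf 581) (.leaf 97)))) (.node (.node (.node (.node (.leaf 166) (.leaf 1148)) (.leaf 847)) (.node (.leaf 547) (.leaf 314))) (.node (.node (.leaf 370) (.leaf 951)) (.node (.leaf 86) (.leaf 1098))))) (.node (.node (.node (.node (.node (.leaf 110) (.leaf 1104)) (.leaf 811)) (.node (.leaf 38) (.leaf 699))) (.node (.node (.leaf 319) (.leaf 925)) (.node (.leaf 673) (.leaf 636)))) (.node (.node (.node (.node (.leaf 207) (.leaf 1136)) (.leaf 504)) (.node (.leaf 593) (.leaf 1067))) (.node (.node (.leaf 418) (.leaf 676)) (.node (.leaf 739) (.leaf 452)))))))) (.node (.node (.node (.node (.node (.node (.node (.node (.leaf 16) (.leaf 826)) (.leaf 751)) (.node (.leaf 194) (.leaf 724))) (.node (.node (.leaf 237) (.leaf 447)) (.node (.leaf 609) (.leaf 720)))) (.node (.node (.node (.node (.leaf 131) (.leaf 879)) (.leaf 823)) (.node (.leaf 506) (.leaf 1031))) (.node (.node (.leaf 337) (.leaf 940)) (.node (.leaf 688) (.leaf 300))))) (.node (.node (.node (.node (.node (.leaf 74)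 (.leaf 956)) (.leaf 138)) (.node (.leaf 481) (.leaf 736))) (.node (.node (.leaf 287) (.leaf 182)) (.node (.leaf 209) (.leaf 1086)))) (.node (.node (.node (.node (.leaf 187) (.leaf 104)) (.leaf 184)) (.node (.leaf 565) (.leaf 666))) (.node (.node (.leaf 163) (.leaf 939)) (.node (.leaf 660) (.leaf 362)))))) (.node (.node (.node (.node (.node (.node (.leaf 47) (.leaf 1110)) (.leaf 359)) (.node (.leaf 458) (.leaf 996))) (.node (.node (.leaf 265) (.leaf 900)) (.node (.leaf 630) (.leaf 622)))) (.node (.node (.node (.node (.leaf 159) (.leaf 553)) (.leaf 843)) (.node (.leaf 542) (.leaf 286))) (.node (.node (.leaf 364) (.leaf 949)) (.node (.leaf 577) (.leaf 1105))))) (.node (.node (.node (.node (.node (.leaf 103) (.leaf 924)) (.leaf 781)) (.node (.leaf 502) (.leaf 223))) (.node (.node (.leaf 313) (.leaf 923)) (.node (.leaf 668) (.leaf 1074)))) (.node (.node (.node (.node (.leaf 212) (.leaf 1090)) (.leaf 873)) (.node (.leaf 587) (.leaf 1008))) (.node (.node (.leaf 411) (.leaf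 970)) (.node (.leaf 735) (.leaf 844))))))) (.node (.node (.node (.node (.node (.node (.node (.leaf 32) (.leaf 421)) (.leaf 439)) (.node (.leaf 1) (.leaf 992))) (.node (.node (.leaf 251) (.leaf 369)) (.node (.leaf 211) (.leaf 1077)))) (.node (.node (.node (.node (.leaf 146) (.leaf 697)) (.leaf 444)) (.node (.leaf 533) (.leaf 205))) (.node (.node (.leaf 352) (.leaf 944)) (.node (.leaf 619) (.leaf 161))))) (.node (.node (.node (.node (.node (.leaf 89) (.leaf 1138)) (.leaf 779)) (.node (.leaf 491) (.leaf 1014))) (.node (.node (.leaf 301) (.leaf 907)) (.node (.leaf 658) (.leaf 1089)))) (.node (.node (.node (.node (.leaf 197) (.leaf 743)) (.leaf 142)) (.node (.leaf 309) (.leaf 1062))) (.node (.node (.leaf 398) (.leaf 912)) (.node (.leaf 727) (.leaf 1114)))))) (.node (.node (.node (.node (.node (.node (.leaf 60) (.leaf 349)) (.leaf 189)) (.node (.leaf 469) (.leaf 1005))) (.node (.node (.leaf 27) (.leaf 869)) (.node (.leaf 640) (.leaf 983)))) (.node (.node (.node (.node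 (.leaf 172) (.leaf 559)) (.leaf 813)) (.node (.leaf 554) (.leaf 1048))) (.node (.node (.leaf 377) (.leaf 521)) (.node (.leaf 710) (.leaf 509))))) (.node (.node (.node (.node (.node (.leaf 116) (.leaf 899)) (.leaf 817)) (.node (.leaf 510) (.leaf 1025))) (.node (.node (.leaf 325) (.leaf 932)) (.node (.leaf 677) (.leaf 1034)))) (.node (.node (.node (.node (.leaf 224) (.leaf 1134)) (.leaf 828)) (.node (.leaf 598) (.leaf 1070))) (.node (.node (.leaf 423) (.leaf 977)) (.node (.leaf 742) (.leaf 965)))))))))))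

/-- data -/
def prev2 : Trie (ℕ) := .node (.node (.node (.node (.node (.node (.node (.node (.node (.node (.node (.node (.leaf 31) (.leaf 1109)) (.leaf 1035)) (.node (.leaf 483) (.leaf 536))) (.node (.node (.leaf 995) (.leaf 903)) (.node (.leaf 274) (.leaf 661)))) (.node (.node (.node (.node (.leaf 34) (.leaf 941)) (.leaf 371)) (.node (.leaf 188) (.leaf 665))) (.node (.node (.leaf 599) (.leaf 475)) (.node (.leaf 700) (.leaf 987))))) (.node (.node (.node (.node (.node (.leaf 227) (.leaf 871)) (.leaf 878)) (.node (.leaf 168) (.leaf 561))) (.node (.node (.leaf 1020) (.leaf 443)) (.node (.leaf 1023) (.leaf 1086)))) (.node (.node (.node (.node (.leaf 51) (.leaf 1018)) (.leaf 391)) (.node (.leaf 291) (.leaf 720))) (.node (.node (.leaf 515) (.leaf 505)) (.node (.leaf 295) (.leaf 1103)))))) (.node (.node (.node (.node (.node (.node (.leaf 152) (.leaf 915)) (.leaf 333)) (.node (.leaf 485) (.leaf 552))) (.node (.node (.leaf 85) (.leaf 859)) (.node (.leaf 277) (.leaf 680))))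 (.node (.node (.node (.node (.leaf 395) (.leaf 983)) (.leaf 379)) (.node (.leaf 199) (.leaf 620))) (.node (.node (.leaf 446) (.leaf 486)) (.node (.leaf 694) (.leaf 767))))) (.node (.node (.node (.node (.node (.leaf 534) (.leaf 1126)) (.leaf 842)) (.node (.leaf 420) (.leaf 575))) (.node (.node (.leaf 674) (.leaf 890)) (.node (.leaf 261) (.leaf 730)))) (.node (.node (.node (.node (.leaf 257) (.leaf 1068)) (.leaf 488)) (.node (.leaf 1011) (.leaf 637))) (.node (.node (.leaf 137) (.leaf 520)) (.node (.leaf 308) (.leaf 805))))))) (.node (.node (.node (.node (.node (.node (.node (.leaf 106) (.leaf 932)) (.leaf 327)) (.node (.leaf 151) (.leaf 727))) (.node (.node (.leaf 74) (.leaf 423)) (.node (.leaf 236) (.leaf 1076)))) (.node (.node (.node (.node (.leaf 38) (.leaf 1115)) (.leaf 373)) (.node (.leaf 824) (.leaf 596))) (.node (.node (.leaf 388) (.leaf 799)) (.node (.leaf 751) (.leaf 876))))) (.node (.node (.node (.node (.node (.leaf 20) (.leaf 1134)) (.leaf 782)) (.node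 (.leaf 177) (.leaf 659))) (.node (.node (.leaf 711) (.leaf 449)) (.node (.leaf 256) (.leaf 752)))) (.node (.node (.node (.node (.leaf 56) (.leaf 1092)) (.leaf 960)) (.node (.leaf 679) (.leaf 1040))) (.node (.node (.leaf 860) (.leaf 881)) (.node (.leaf 974) (.leaf 794)))))) (.node (.node (.node (.node (.node (.node (.leaf 120) (.leaf 902)) (.leaf 338)) (.node (.leaf 166) (.leaf 556))) (.node (.node (.leaf 83) (.leaf 436)) (.node (.leaf 249) (.leaf 693)))) (.node (.node (.node (.node (.leaf 47) (.leaf 1052)) (.leaf 385)) (.node (.leaf 203) (.leaf 615))) (.node (.node (.leaf 122) (.leaf 1118)) (.node (.leaf 629) (.leaf 821))))) (.node (.node (.node (.node (.node (.leaf 645) (.leaf 927)) (.leaf 765)) (.node (.leaf 183) (.leaf 630))) (.node (.node (.leaf 102) (.leaf 462)) (.node (.leaf 729) (.leaf 732)))) (.node (.node (.node (.node (.leaf 71) (.leaf 1142)) (.leaf 478)) (.node (.leaf 223) (.leaf 1094))) (.node (.node (.leaf 142) (.leaf 529)) (.node (.leaf 314) (.leaf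 817)))))))) (.node (.node (.node (.node (.node (.node (.node (.node (.leaf 132) (.leaf 880)) (.leaf 658)) (.node (.leaf 153) (.leaf 538))) (.node (.node (.leaf 72) (.leaf 856)) (.node (.leaf 978) (.leaf 731)))) (.node (.node (.node (.node (.leaf 36) (.leaf 1123)) (.leaf 951)) (.node (.leaf 191) (.leaf 594))) (.node (.node (.leaf 220) (.leaf 758)) (.node (.leaf 276) (.leaf 1144))))) (.node (.node (.node (.node (.node (.leaf 18) (.leaf 1135)) (.leaf 348)) (.node (.leaf 170) (.leaf 565))) (.node (.node (.leaf 977) (.leaf 447)) (.node (.leaf 301) (.leaf 1065)))) (.node (.node (.node (.node (.leaf 513) (.leaf 1082)) (.leaf 906)) (.node (.leaf 555) (.leaf 1062))) (.node (.node (.leaf 495) (.leaf 1119)) (.node (.leaf 743) (.leaf 814)))))) (.node (.node (.node (.node (.node (.node (.leaf 401) (.leaf 855)) (.leaf 335)) (.node (.leaf 494) (.leaf 1067))) (.node (.node (.leaf 81) (.leaf 434)) (.node (.leaf 734) (.leaf 1012)))) (.node (.node (.node (.node (.leaf 787) (.leaf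 993)) (.leaf 470)) (.node (.leaf 201) (.leaf 610))) (.node (.node (.leaf 1100) (.leaf 491)) (.node (.leaf 287) (.leaf 770))))) (.node (.node (.node (.node (.node (.leaf 88) (.leaf 911)) (.leaf 389)) (.node (.leaf 445) (.leaf 1017))) (.node (.node (.leaf 100) (.leaf 845)) (.node (.leaf 264) (.leaf 726)))) (.node (.node (.node (.node (.leaf 273) (.leaf 1077)) (.leaf 411)) (.node (.leaf 221) (.leaf 642))) (.node (.node (.leaf 509) (.leaf 524)) (.node (.leaf 313) (.leaf 811))))))) (.node (.node (.node (.node (.node (.node (.node (.leaf 286) (.leaf 844)) (.leaf 990)) (.node (.leaf 967) (.leaf 618))) (.node (.node (.leaf 76) (.leaf 428)) (.node (.leaf 238) (.leaf 673)))) (.node (.node (.node (.node (.leaf 472) (.leaf 971)) (.leaf 376)) (.node (.leaf 197) (.leaf 600))) (.node (.node (.leaf 810) (.leaf 920)) (.node (.leaf 1010) (.leaf 761))))) (.node (.node (.node (.node (.node (.leaf 22) (.leaf 893)) (.leaf 497)) (.node (.leaf 175) (.leaf 576))) (.node (.node (.leaf 288)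 (.leaf 451)) (.node (.leaf 265) (.leaf 1090)))) (.node (.node (.node (.node (.leaf 58) (.leaf 1150)) (.leaf 400)) (.node (.leaf 660) (.leaf 684))) (.node (.node (.leaf 135) (.leaf 517)) (.node (.leaf 687) (.leaf 797)))))) (.node (.node (.node (.node (.node (.node (.leaf 504) (.leaf 868)) (.leaf 840)) (.node (.leaf 165) (.leaf 577))) (.node (.node (.leaf 260) (.leaf 885)) (.node (.leaf 248) (.leaf 696)))) (.node (.node (.node (.node (.leaf 49) (.leaf 1051)) (.leaf 866)) (.node (.leaf 205) (.leaf 613))) (.node (.node (.leaf 131) (.leaf 499)) (.node (.leaf 292) (.leaf 895))))) (.node (.node (.node (.node (.node (.leaf 357) (.leaf 950)) (.leaf 807)) (.node (.leaf 1098) (.leaf 587))) (.node (.node (.leaf 104) (.leaf 1105)) (.node (.leaf 269) (.leaf 737)))) (.node (.node (.node (.node (.leaf 108) (.leaf 1121)) (.leaf 413)) (.node (.leaf 225) (.leaf 651))) (.node (.node (.leaf 408) (.leaf 533)) (.node (.leaf 317) (.leaf 914))))))))) (.node (.node (.node (.node (.node (.node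 (.node (.node (.node (.leaf 86) (.leaf 835)) (.leaf 656)) (.node (.leaf 421) (.leaf 537))) (.node (.node (.leaf 980) (.leaf 418)) (.node (.leaf 230) (.leaf 717)))) (.node (.node (.node (.node (.leaf 35) (.leaf 945)) (.leaf 433)) (.node (.leaf 833) (.leaf 593))) (.node (.node (.leaf 109) (.leaf 476)) (.node (.leaf 275) (.leaf 745))))) (.node (.node (.node (.node (.node (.leaf 553) (.leaf 907)) (.leaf 346)) (.node (.leaf 169) (.leaf 1021))) (.node (.node (.leaf 217) (.leaf 918)) (.node (.leaf 526) (.leaf 702)))) (.node (.node (.node (.node (.leaf 59) (.leaf 1024)) (.leaf 886)) (.node (.leaf 666) (.leaf 1080))) (.node (.node (.leaf 374) (.leaf 781)) (.node (.leaf 1049) (.leaf 1108)))))) (.node (.node (.node (.node (.node (.node (.leaf 372) (.leaf 946)) (.leaf 334)) (.node (.leaf 159) (.leaf 592))) (.node (.node (.leaf 664) (.leaf 514)) (.node (.leaf 542) (.leaf 682)))) (.node (.node (.node (.node (.leaf 823) (.leaf 1093)) (.leaf 380)) (.node (.leaf 200) (.leaf 688)))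 (.node (.node (.leaf 502) (.leaf 1129)) (.node (.leaf 285) (.leaf 768))))) (.node (.node (.node (.node (.node (.leaf 706) (.leaf 904)) (.leaf 361)) (.node (.leaf 179) (.leaf 1053))) (.node (.node (.leaf 99) (.leaf 865)) (.node (.leaf 657) (.leaf 722)))) (.node (.node (.node (.node (.leaf 62) (.leaf 1096)) (.leaf 813)) (.node (.leaf 632) (.leaf 640))) (.node (.node (.leaf 138) (.leaf 525)) (.node (.leaf 1029) (.leaf 809))))))) (.node (.node (.node (.node (.node (.node (.node (.leaf 253) (.leaf 843)) (.leaf 581)) (.node (.leaf 496) (.leaf 543))) (.node (.node (.leaf 75) (.leaf 1113)) (.node (.leaf 237) (.leaf 742)))) (.node (.node (.node (.node (.leaf 757) (.leaf 969)) (.leaf 375)) (.node (.leaf 195) (.leaf 598))) (.node (.node (.leaf 1104) (.leaf 816)) (.node (.leaf 631) (.leaf 863))))) (.node (.node (.node (.node (.node (.leaf 21) (.leaf 1125)) (.leaf 427)) (.node (.leaf 773) (.leaf 738))) (.node (.node (.leaf 94) (.leaf 450)) (.node (.leaf 981) (.leaf 970)))) (.node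 (.node (.node (.node (.leaf 57) (.leaf 1066)) (.leaf 862)) (.node (.leaf 214) (.leaf 672))) (.node (.node (.leaf 441) (.leaf 1140)) (.node (.leaf 303) (.leaf 795)))))) (.node (.node (.node (.node (.node (.node (.leaf 431) (.leaf 1132)) (.leaf 406)) (.node (.leaf 164) (.leaf 557))) (.node (.node (.leaf 84) (.leaf 437)) (.node (.leaf 247) (.leaf 692)))) (.node (.node (.node (.node (.leaf 48) (.leaf 1028)) (.leaf 386)) (.node (.leaf 204) (.leaf 612))) (.node (.node (.leaf 123) (.leaf 498)) (.node (.leaf 1095) (.leaf 776))))) (.node (.node (.node (.node (.node (.leaf 579) (.leaf 949)) (.leaf 464)) (.node (.leaf 184) (.leaf 586))) (.node (.node (.leaf 103) (.leaf 964)) (.node (.leaf 268) (.leaf 735)))) (.node (.node (.node (.node (.leaf 626) (.leaf 1112)) (.leaf 820)) (.node (.leaf 224) (.leaf 650))) (.node (.node (.leaf 143) (.leaf 532)) (.node (.leaf 315) (.leaf 1131)))))))) (.node (.node (.node (.node (.node (.node (.node (.node (.leaf 178) (.leaf 891)) (.leaf 325))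 (.node (.leaf 518) (.leaf 539))) (.node (.node (.leaf 73) (.leaf 477)) (.node (.leaf 235) (.leaf 1042)))) (.node (.node (.node (.node (.leaf 37) (.leaf 959)) (.leaf 790)) (.node (.leaf 192) (.leaf 595))) (.node (.node (.leaf 112) (.leaf 521)) (.node (.leaf 725) (.leaf 750))))) (.node (.node (.node (.node (.node (.leaf 19) (.leaf 897)) (.leaf 349)) (.node (.leaf 171) (.leaf 566))) (.node (.node (.leaf 98) (.leaf 448)) (.node (.leaf 562) (.leaf 705)))) (.node (.node (.node (.node (.leaf 55) (.leaf 1033)) (.leaf 815)) (.node (.leaf 647) (.leaf 628))) (.node (.node (.leaf 1111) (.leaf 1110)) (.node (.leaf 715) (.leaf 858)))))) (.node (.node (.node (.node (.node (.node (.leaf 33) (.leaf 936)) (.leaf 341)) (.node (.leaf 777) (.leaf 580))) (.node (.node (.leaf 82) (.leaf 435)) (.node (.leaf 622) (.leaf 686)))) (.node (.node (.node (.node (.leaf 46) (.leaf 998)) (.leaf 889)) (.node (.leaf 202) (.leaf 608))) (.node (.node (.leaf 121) (.leaf 955)) (.node (.leaf 985) (.leaf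 771))))) (.node (.node (.node (.node (.node (.leaf 280) (.leaf 917)) (.leaf 360)) (.node (.leaf 398) (.leaf 754))) (.node (.node (.leaf 101) (.leaf 460)) (.node (.leaf 329) (.leaf 1073)))) (.node (.node (.node (.node (.leaf 1000) (.leaf 1083)) (.leaf 939)) (.node (.leaf 222) (.leaf 644))) (.node (.node (.leaf 141) (.leaf 527)) (.node (.leaf 719) (.leaf 1117))))))) (.node (.node (.node (.node (.node (.node (.node (.leaf 17) (.leaf 847)) (.leaf 332)) (.node (.leaf 439) (.leaf 549))) (.node (.node (.leaf 77) (.leaf 1101)) (.node (.leaf 305) (.leaf 676)))) (.node (.node (.node (.node (.leaf 134) (.leaf 1071)) (.leaf 412)) (.node (.leaf 198) (.leaf 982))) (.node (.node (.leaf 154) (.leaf 516)) (.node (.leaf 756) (.leaf 763))))) (.node (.node (.node (.node (.node (.leaf 23) (.leaf 966)) (.leaf 358)) (.node (.leaf 176) (.leaf 1059))) (.node (.node (.leaf 704) (.leaf 453)) (.node (.leaf 571) (.leaf 740)))) (.node (.node (.node (.node (.leaf 185) (.leaf 1061)) (.leaf 402))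 (.node (.leaf 569) (.leaf 991))) (.node (.node (.leaf 136) (.leaf 519)) (.node (.leaf 1078) (.leaf 850)))))) (.node (.node (.node (.node (.node (.node (.leaf 39) (.leaf 1120)) (.leaf 772)) (.node (.leaf 167) (.leaf 560))) (.node (.node (.leaf 87) (.leaf 1128)) (.node (.leaf 318) (.leaf 698)))) (.node (.node (.node (.node (.leaf 50) (.leaf 1036)) (.leaf 390)) (.node (.leaf 213) (.leaf 616))) (.node (.node (.leaf 838) (.leaf 909)) (.node (.leaf 753) (.leaf 924))))) (.node (.node (.node (.node (.node (.leaf 182) (.leaf 1139)) (.leaf 368)) (.node (.leaf 187) (.leaf 744))) (.node (.node (.leaf 110) (.leaf 942)) (.node (.leaf 271) (.leaf 1016)))) (.node (.node (.node (.node (.leaf 331) (.leaf 1136)) (.leaf 414)) (.node (.leaf 231) (.leaf 1019))) (.node (.node (.leaf 791) (.leaf 712)) (.node (.leaf 323) (.leaf 827)))))))))) (.node (.node (.node (.node (.node (.node (.node (.node (.node (.node (.leaf 0) (.leaf 937)) (.leaf 321)) (.node (.leaf 147) (.leaf 695))) (.node (.node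 (.leaf 70) (.leaf 766)) (.node (.leaf 728) (.leaf 1146)))) (.node (.node (.node (.node (.leaf 111) (.leaf 948)) (.leaf 367)) (.node (.leaf 189) (.leaf 591))) (.node (.node (.leaf 1046) (.leaf 474)) (.node (.leaf 1014) (.leaf 1074))))) (.node (.node (.node (.node (.node (.leaf 16) (.leaf 872)) (.leaf 834)) (.node (.leaf 822) (.leaf 602))) (.node (.node (.leaf 89) (.leaf 789)) (.node (.leaf 251) (.leaf 1054)))) (.node (.node (.node (.node (.leaf 52) (.leaf 1084)) (.leaf 417)) (.node (.leaf 209) (.leaf 621))) (.node (.node (.leaf 128) (.leaf 887)) (.node (.leaf 639) (.leaf 958)))))) (.node (.node (.node (.node (.node (.node (.leaf 8) (.leaf 851)) (.leaf 359)) (.node (.leaf 785) (.leaf 548))) (.node (.node (.leaf 79) (.leaf 430)) (.node (.leaf 242) (.leaf 1034)))) (.node (.node (.node (.node (.leaf 43) (.leaf 1030)) (.leaf 831)) (.node (.leaf 988) (.leaf 605))) (.node (.node (.leaf 118) (.leaf 487)) (.node (.leaf 284) (.leaf 769))))) (.node (.node (.node (.node (.node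 (.leaf 25) (.leaf 943)) (.leaf 355)) (.node (.leaf 952) (.leaf 994))) (.node (.node (.leaf 293) (.leaf 456)) (.node (.leaf 262) (.leaf 1088)))) (.node (.node (.node (.node (.leaf 723) (.leaf 1070)) (.leaf 404)) (.node (.leaf 219) (.leaf 667))) (.node (.node (.leaf 144) (.leaf 522)) (.node (.leaf 309) (.leaf 808))))))) (.node (.node (.node (.node (.node (.node (.node (.leaf 4) (.leaf 919)) (.leaf 328)) (.node (.leaf 156) (.leaf 541))) (.node (.node (.leaf 233) (.leaf 424)) (.node (.leaf 975) (.leaf 670)))) (.node (.node (.node (.node (.leaf 415) (.leaf 1122)) (.leaf 409)) (.node (.leaf 194) (.leaf 1003))) (.node (.node (.leaf 114) (.leaf 481)) (.node (.leaf 279) (.leaf 759))))) (.node (.node (.node (.node (.node (.leaf 590) (.leaf 883)) (.leaf 351)) (.node (.leaf 173) (.leaf 570))) (.node (.node (.leaf 1015) (.leaf 944)) (.node (.leaf 304) (.leaf 708)))) (.node (.node (.node (.node (.leaf 180) (.leaf 1048)) (.leaf 397)) (.node (.leaf 558) (.leaf 1057))) (.node (.node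 (.leaf 133) (.leaf 784)) (.node (.leaf 545) (.leaf 900)))))) (.node (.node (.node (.node (.node (.node (.leaf 12) (.leaf 864)) (.leaf 339)) (.node (.leaf 163) (.leaf 582))) (.node (.node (.leaf 652) (.leaf 830)) (.node (.leaf 246) (.leaf 1041)))) (.node (.node (.node (.node (.leaf 848) (.leaf 1006)) (.leaf 503)) (.node (.leaf 208) (.leaf 1022))) (.node (.node (.leaf 157) (.leaf 786)) (.node (.leaf 290) (.leaf 775))))) (.node (.node (.node (.node (.node (.leaf 29) (.leaf 923)) (.leaf 363)) (.node (.leaf 190) (.leaf 585))) (.node (.node (.leaf 107) (.leaf 463)) (.node (.leaf 267) (.leaf 733)))) (.node (.node (.node (.node (.leaf 66) (.leaf 1102)) (.leaf 410)) (.node (.leaf 228) (.leaf 979))) (.node (.node (.leaf 870) (.leaf 572)) (.node (.leaf 690) (.leaf 818)))))))) (.node (.node (.node (.node (.node (.node (.node (.node (.leaf 2) (.leaf 837)) (.leaf 724)) (.node (.leaf 149) (.leaf 649))) (.node (.node (.leaf 619) (.leaf 511)) (.node (.leaf 234) (.leaf 1151)))) (.node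 (.node (.node (.node (.leaf 829) (.leaf 957)) (.leaf 370)) (.node (.leaf 819) (.leaf 681))) (.node (.node (.leaf 884) (.leaf 935)) (.node (.leaf 302) (.leaf 749))))) (.node (.node (.node (.node (.node (.leaf 61) (.leaf 1133)) (.leaf 962)) (.node (.leaf 174) (.leaf 654))) (.node (.node (.leaf 91) (.leaf 961)) (.node (.leaf 254) (.leaf 1032)))) (.node (.node (.node (.node (.leaf 340) (.leaf 1063)) (.leaf 394)) (.node (.leaf 211) (.leaf 625))) (.node (.node (.leaf 130) (.leaf 804)) (.node (.leaf 299) (.leaf 792)))))) (.node (.node (.node (.node (.node (.node (.leaf 10) (.leaf 965)) (.leaf 493)) (.node (.leaf 161) (.leaf 551))) (.node (.node (.leaf 1009) (.leaf 438)) (.node (.leaf 244) (.leaf 685)))) (.node (.node (.node (.node (.leaf 139) (.leaf 1031)) (.leaf 444)) (.node (.leaf 281) (.leaf 607))) (.node (.node (.leaf 345) (.leaf 492)) (.node (.leaf 624) (.leaf 925))))) (.node (.node (.node (.node (.node (.leaf 27) (.leaf 956)) (.leaf 888)) (.node (.leaf 181) (.leaf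 968))) (.node (.node (.leaf 997) (.leaf 762)) (.node (.leaf 1004) (.leaf 1045)))) (.node (.node (.node (.node (.leaf 64) (.leaf 1089)) (.leaf 407)) (.node (.leaf 312) (.leaf 643))) (.node (.node (.leaf 140) (.leaf 531)) (.node (.leaf 311) (.leaf 912))))))) (.node (.node (.node (.node (.node (.node (.node (.leaf 6) (.leaf 846)) (.leaf 703)) (.node (.leaf 155) (.leaf 546))) (.node (.node (.leaf 563) (.leaf 455)) (.node (.leaf 239) (.leaf 675)))) (.node (.node (.node (.node (.leaf 41) (.leaf 1047)) (.leaf 489)) (.node (.leaf 316) (.leaf 601))) (.node (.node (.leaf 116) (.leaf 484)) (.node (.leaf 282) (.leaf 826))))) (.node (.node (.node (.node (.node (.leaf 30) (.leaf 894)) (.leaf 353)) (.node (.leaf 892) (.leaf 573))) (.node (.node (.leaf 96) (.leaf 452)) (.node (.leaf 259) (.leaf 1087)))) (.node (.node (.node (.node (.leaf 896) (.leaf 1060)) (.leaf 507)) (.node (.leaf 216) (.leaf 634))) (.node (.node (.leaf 347) (.leaf 1124)) (.node (.leaf 611) (.leaf 801)))))) (.node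 (.node (.node (.node (.node (.node (.leaf 14) (.leaf 877)) (.leaf 343)) (.node (.leaf 806) (.leaf 559))) (.node (.node (.leaf 691) (.leaf 440)) (.node (.leaf 973) (.leaf 697)))) (.node (.node (.node (.node (.leaf 54) (.leaf 1013)) (.leaf 1106)) (.node (.leaf 206) (.leaf 1008))) (.node (.node (.leaf 125) (.leaf 501)) (.node (.leaf 1043) (.leaf 922))))) (.node (.node (.node (.node (.node (.leaf 32) (.leaf 933)) (.leaf 365)) (.node (.leaf 186) (.leaf 588))) (.node (.node (.leaf 105) (.leaf 469)) (.node (.leaf 270) (.leaf 1039)))) (.node (.node (.node (.node (.leaf 68) (.leaf 1141)) (.leaf 899)) (.node (.leaf 226) (.leaf 1050))) (.node (.node (.leaf 145) (.leaf 972)) (.node (.leaf 319) (.leaf 1099))))))))) (.node (.node (.node (.node (.node (.node (.node (.node (.node (.leaf 1) (.leaf 930)) (.leaf 322)) (.node (.leaf 148) (.leaf 614))) (.node (.node (.leaf 215) (.leaf 882)) (.node (.leaf 638) (.leaf 663)))) (.node (.node (.node (.node (.leaf 796) (.leaf 954)) (.leaf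 369)) (.node (.leaf 392) (.leaf 597))) (.node (.node (.leaf 324) (.leaf 913)) (.node (.leaf 984) (.leaf 1147))))) (.node (.node (.node (.node (.node (.leaf 567) (.leaf 874)) (.leaf 779)) (.node (.leaf 468) (.leaf 564))) (.node (.node (.leaf 90) (.leaf 869)) (.node (.leaf 583) (.leaf 713)))) (.node (.node (.node (.node (.leaf 53) (.leaf 1075)) (.leaf 393)) (.node (.leaf 210) (.leaf 623))) (.node (.node (.leaf 129) (.leaf 510)) (.node (.leaf 298) (.leaf 836)))))) (.node (.node (.node (.node (.node (.node (.leaf 9) (.leaf 854)) (.leaf 396)) (.node (.leaf 160) (.leaf 550))) (.node (.node (.leaf 530) (.leaf 432)) (.node (.leaf 243) (.leaf 1007)))) (.node (.node (.node (.node (.leaf 44) (.leaf 992)) (.leaf 381)) (.node (.leaf 229) (.leaf 606))) (.node (.node (.leaf 119) (.leaf 490)) (.node (.leaf 604) (.leaf 798))))) (.node (.node (.node (.node (.node (.leaf 26) (.leaf 905)) (.leaf 825)) (.node (.leaf 382) (.leaf 578))) (.node (.node (.leaf 584) (.leaf 457)) (.node (.leaf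 263) (.leaf 1025)))) (.node (.node (.node (.node (.leaf 63) (.leaf 1091)) (.leaf 1138)) (.node (.leaf 574) (.leaf 1085))) (.node (.node (.leaf 875) (.leaf 523)) (.node (.leaf 310) (.leaf 812))))))) (.node (.node (.node (.node (.node (.node (.node (.leaf 5) (.leaf 898)) (.leaf 330)) (.node (.leaf 803) (.leaf 544))) (.node (.node (.leaf 80) (.leaf 425)) (.node (.leaf 241) (.leaf 671)))) (.node (.node (.node (.node (.leaf 40) (.leaf 986)) (.leaf 419)) (.node (.leaf 196) (.leaf 709))) (.node (.node (.leaf 115) (.leaf 482)) (.node (.leaf 683) (.leaf 760))))) (.node (.node (.node (.node (.node (.leaf 655) (.leaf 953)) (.leaf 352)) (.node (.leaf 910) (.leaf 1081))) (.node (.node (.leaf 95) (.leaf 454)) (.node (.leaf 258) (.leaf 710)))) (.node (.node (.node (.node (.leaf 500) (.leaf 1055)) (.leaf 399)) (.node (.leaf 714) (.leaf 633))) (.node (.node (.leaf 921) (.leaf 916)) (.node (.leaf 721) (.leaf 839)))))) (.node (.node (.node (.node (.node (.node (.leaf 13) (.leaf 934))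 (.leaf 342)) (.node (.leaf 426) (.leaf 641))) (.node (.node (.leaf 1026) (.leaf 832)) (.node (.leaf 252) (.leaf 747)))) (.node (.node (.node (.node (.leaf 158) (.leaf 1056)) (.leaf 387)) (.node (.leaf 232) (.leaf 718))) (.node (.node (.leaf 124) (.leaf 841)) (.node (.leaf 296) (.leaf 780))))) (.node (.node (.node (.node (.node (.leaf 93) (.leaf 926)) (.leaf 364)) (.node (.leaf 405) (.leaf 689))) (.node (.node (.leaf 603) (.leaf 467)) (.node (.leaf 996) (.leaf 1149)))) (.node (.node (.node (.node (.leaf 67) (.leaf 1130)) (.leaf 931)) (.node (.leaf 669) (.leaf 678))) (.node (.node (.leaf 479) (.leaf 701)) (.node (.leaf 736) (.leaf 901)))))))) (.node (.node (.node (.node (.node (.node (.node (.node (.leaf 3) (.leaf 1143)) (.leaf 1079)) (.node (.leaf 150) (.leaf 540))) (.node (.node (.leaf 739) (.leaf 422)) (.node (.leaf 646) (.leaf 668)))) (.node (.node (.node (.node (.leaf 45) (.leaf 1116)) (.leaf 416)) (.node (.leaf 193) (.leaf 1001))) (.node (.node (.leaf 113) (.leaf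 480)) (.node (.leaf 278) (.leaf 1058))))) (.node (.node (.node (.node (.node (.leaf 24) (.leaf 963)) (.leaf 458)) (.node (.leaf 172) (.leaf 568))) (.node (.node (.leaf 92) (.leaf 466)) (.node (.leaf 294) (.leaf 707)))) (.node (.node (.node (.node (.leaf 867) (.leaf 1069)) (.leaf 852)) (.node (.leaf 212) (.leaf 627))) (.node (.node (.leaf 377) (.leaf 512)) (.node (.leaf 748) (.leaf 793)))))) (.node (.node (.node (.node (.node (.node (.leaf 11) (.leaf 861)) (.leaf 337)) (.node (.leaf 162) (.leaf 554))) (.node (.node (.leaf 255) (.leaf 1114)) (.node (.leaf 245) (.leaf 1038)))) (.node (.node (.node (.node (.leaf 465) (.leaf 1005)) (.leaf 384)) (.node (.leaf 653) (.leaf 609))) (.node (.node (.leaf 126) (.leaf 802)) (.node (.leaf 289) (.leaf 774))))) (.node (.node (.node (.node (.node (.leaf 28) (.leaf 1137)) (.leaf 362)) (.node (.leaf 788) (.leaf 662))) (.node (.node (.leaf 306) (.leaf 461)) (.node (.leaf 266) (.leaf 999)))) (.node (.node (.node (.node (.leaf 65) (.leaf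 1097)) (.leaf 908)) (.node (.leaf 636) (.leaf 746))) (.node (.node (.leaf 403) (.leaf 528)) (.node (.leaf 989) (.leaf 853))))))) (.node (.node (.node (.node (.node (.node (.node (.leaf 7) (.leaf 849)) (.leaf 947)) (.node (.leaf 350) (.leaf 547))) (.node (.node (.leaf 78) (.leaf 429)) (.node (.leaf 240) (.leaf 677)))) (.node (.node (.node (.node (.leaf 42) (.leaf 1145)) (.leaf 378)) (.node (.leaf 716) (.leaf 1072))) (.node (.node (.leaf 117) (.leaf 800)) (.node (.leaf 283) (.leaf 764))))) (.node (.node (.node (.node (.node (.leaf 300) (.leaf 1107)) (.leaf 354)) (.node (.leaf 336) (.leaf 1037))) (.node (.node (.leaf 97) (.leaf 459)) (.node (.leaf 297) (.leaf 1148)))) (.node (.node (.node (.node (.leaf 60) (.leaf 1064)) (.leaf 508)) (.node (.leaf 218) (.leaf 635))) (.node (.node (.leaf 938) (.leaf 857)) (.node (.leaf 307) (.leaf 873)))))) (.node (.node (.node (.node (.node (.node (.leaf 15) (.leaf 929)) (.leaf 344)) (.node (.leaf 356) (.leaf 1002))) (.node (.node (.leaf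 326) (.leaf 442)) (.node (.leaf 250) (.leaf 699)))) (.node (.node (.node (.node (.leaf 383) (.leaf 1027)) (.leaf 473)) (.node (.leaf 207) (.leaf 617))) (.node (.node (.leaf 127) (.leaf 928)) (.node (.leaf 1044) (.leaf 783))))) (.node (.node (.node (.node (.node (.leaf 778) (.leaf 940)) (.leaf 366)) (.node (.leaf 506) (.leaf 589))) (.node (.node (.leaf 755) (.leaf 471)) (.node (.leaf 272) (.leaf 741)))) (.node (.node (.node (.node (.leaf 69) (.leaf 1127)) (.leaf 879)) (.node (.leaf 648) (.leaf 976))) (.node (.node (.leaf 146) (.leaf 535)) (.node (.leaf 320) (.leaf 828))))))))))) (.node (.node (.node (.node (.node (.node (.node (.node (.node (.node (.node (.leaf 196) (.leaf 830)) (.leaf 320)) (.node (.leaf 146) (.leaf 541))) (.node (.node (.leaf 69) (.leaf 415)) (.node (.leaf 228) (.leaf 658)))) (.node (.node (.node (.node (.leaf 910) (.leaf 1140)) (.leaf 366)) (.node (.leaf 194) (.leaf 590))) (.node (.node (.leaf 107) (.leaf 472)) (.node (.leaf 273) (.leaf 741)))))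 (.node (.node (.node (.node (.node (.leaf 15) (.leaf 960)) (.leaf 344)) (.node (.leaf 186) (.leaf 566))) (.node (.node (.leaf 88) (.leaf 893)) (.node (.leaf 250) (.leaf 700)))) (.node (.node (.node (.node (.leaf 469) (.leaf 1061)) (.leaf 1109)) (.node (.leaf 207) (.leaf 620))) (.node (.node (.leaf 127) (.leaf 807)) (.node (.leaf 579) (.leaf 783)))))) (.node (.node (.node (.node (.node (.node (.leaf 7) (.leaf 850)) (.leaf 904)) (.node (.leaf 157) (.leaf 547))) (.node (.node (.leaf 78) (.leaf 429)) (.node (.leaf 240) (.leaf 751)))) (.node (.node (.node (.node (.leaf 42) (.leaf 1083)) (.leaf 516)) (.node (.leaf 598) (.leaf 604))) (.node (.node (.leaf 117) (.leaf 903)) (.node (.leaf 283) (.leaf 778))))) (.node (.node (.node (.node (.node (.leaf 24) (.leaf 898)) (.leaf 354)) (.node (.leaf 177) (.leaf 980))) (.node (.node (.leaf 97) (.leaf 455)) (.node (.leaf 580) (.leaf 719)))) (.node (.node (.node (.node (.leaf 60) (.leaf 1147)) (.leaf 403)) (.node (.leaf 218) (.leaf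 1043))) (.node (.node (.leaf 765) (.leaf 862)) (.node (.leaf 1042) (.leaf 887))))))) (.node (.node (.node (.node (.node (.node (.node (.leaf 3) (.leaf 840)) (.leaf 712)) (.node (.leaf 490) (.leaf 540))) (.node (.node (.leaf 529) (.leaf 932)) (.node (.leaf 317) (.leaf 669)))) (.node (.node (.node (.node (.leaf 428) (.leaf 962)) (.leaf 966)) (.node (.leaf 193) (.leaf 1012))) (.node (.node (.leaf 113) (.leaf 480)) (.node (.leaf 278) (.leaf 757))))) (.node (.node (.node (.node (.node (.leaf 1018) (.leaf 882)) (.leaf 350)) (.node (.leaf 172) (.leaf 568))) (.node (.node (.leaf 92) (.leaf 851)) (.node (.leaf 548) (.leaf 707)))) (.node (.node (.node (.node (.leaf 1127) (.leaf 1044)) (.leaf 396)) (.node (.leaf 212) (.leaf 629))) (.node (.node (.leaf 132) (.leaf 512)) (.node (.leaf 301) (.leaf 1102)))))) (.node (.node (.node (.node (.node (.node (.leaf 11) (.leaf 863)) (.leaf 437)) (.node (.leaf 162) (.leaf 969))) (.node (.node (.leaf 745) (.leaf 766)) (.node (.leaf 245)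 (.leaf 690)))) (.node (.node (.node (.node (.leaf 758) (.leaf 1004)) (.leaf 854)) (.node (.leaf 756) (.leaf 609))) (.node (.node (.leaf 915) (.leaf 496)) (.node (.leaf 289) (.leaf 774))))) (.node (.node (.node (.node (.node (.leaf 28) (.leaf 920)) (.leaf 362)) (.node (.leaf 913) (.leaf 584))) (.node (.node (.leaf 615) (.leaf 805)) (.node (.leaf 266) (.leaf 971)))) (.node (.node (.node (.node (.leaf 65) (.leaf 1099)) (.leaf 409)) (.node (.leaf 675) (.leaf 648))) (.node (.node (.leaf 150) (.leaf 1096)) (.node (.leaf 635) (.leaf 835)))))))) (.node (.node (.node (.node (.node (.node (.node (.node (.leaf 1) (.leaf 836)) (.leaf 323)) (.node (.leaf 148) (.leaf 713))) (.node (.node (.leaf 628) (.leaf 419)) (.node (.leaf 233) (.leaf 663)))) (.node (.node (.node (.node (.leaf 192) (.leaf 956)) (.leaf 369)) (.node (.leaf 337) (.leaf 1021))) (.node (.node (.leaf 110) (.leaf 477)) (.node (.leaf 1019) (.leaf 748))))) (.node (.node (.node (.node (.node (.leaf 986) (.leaf 875))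 (.leaf 355)) (.node (.leaf 884) (.leaf 710))) (.node (.node (.leaf 90) (.leaf 763)) (.node (.leaf 253) (.leaf 703)))) (.node (.node (.node (.node (.leaf 53) (.leaf 1028)) (.leaf 393)) (.node (.leaf 210) (.leaf 624))) (.node (.node (.leaf 129) (.leaf 508)) (.node (.leaf 298) (.leaf 791)))))) (.node (.node (.node (.node (.node (.node (.leaf 9) (.leaf 938)) (.leaf 457)) (.node (.leaf 160) (.leaf 550))) (.node (.node (.leaf 645) (.leaf 487)) (.node (.leaf 243) (.leaf 683)))) (.node (.node (.node (.node (.leaf 44) (.leaf 1081)) (.leaf 381)) (.node (.leaf 205) (.leaf 606))) (.node (.node (.leaf 119) (.leaf 775)) (.node (.leaf 1076) (.leaf 921))))) (.node (.node (.node (.node (.node (.leaf 26) (.leaf 944)) (.leaf 358)) (.node (.leaf 180) (.leaf 578))) (.node (.node (.leaf 1016) (.leaf 458)) (.node (.leaf 1072) (.leaf 1080)))) (.node (.node (.node (.node (.leaf 63) (.leaf 1093)) (.leaf 406)) (.node (.leaf 1026) (.leaf 686))) (.node (.node (.leaf 139) (.leaf 760)) (.node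 (.leaf 310) (.leaf 940))))))) (.node (.node (.node (.node (.node (.node (.node (.leaf 5) (.leaf 856)) (.leaf 330)) (.node (.leaf 154) (.leaf 544))) (.node (.node (.leaf 1034) (.leaf 425)) (.node (.leaf 246) (.leaf 1014)))) (.node (.node (.node (.node (.leaf 40) (.leaf 1046)) (.leaf 900)) (.node (.leaf 722) (.leaf 1015))) (.node (.node (.leaf 115) (.leaf 482)) (.node (.leaf 281) (.leaf 877))))) (.node (.node (.node (.node (.node (.leaf 589) (.leaf 1105)) (.leaf 352)) (.node (.leaf 967) (.leaf 572))) (.node (.node (.leaf 95) (.leaf 776)) (.node (.leaf 258) (.leaf 711)))) (.node (.node (.node (.node (.leaf 140) (.leaf 1057)) (.leaf 853)) (.node (.leaf 215) (.leaf 633))) (.node (.node (.leaf 188) (.leaf 1125)) (.node (.leaf 304) (.leaf 885)))))) (.node (.node (.node (.node (.node (.node (.leaf 13) (.leaf 1142)) (.leaf 342)) (.node (.leaf 373) (.leaf 558))) (.node (.node (.leaf 85) (.leaf 439)) (.node (.leaf 610) (.leaf 1079)))) (.node (.node (.node (.node (.leaf 370)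 (.leaf 1011)) (.leaf 388)) (.node (.leaf 322) (.leaf 1056))) (.node (.node (.leaf 124) (.leaf 865)) (.node (.leaf 1002) (.leaf 780))))) (.node (.node (.node (.node (.node (.leaf 31) (.leaf 929)) (.leaf 364)) (.node (.leaf 185) (.leaf 639))) (.node (.node (.leaf 737) (.leaf 468)) (.node (.leaf 591) (.leaf 1063)))) (.node (.node (.node (.node (.leaf 67) (.leaf 1115)) (.leaf 955)) (.node (.leaf 1024) (.leaf 718))) (.node (.node (.leaf 144) (.leaf 1077)) (.node (.leaf 569) (.leaf 825))))))))) (.node (.node (.node (.node (.node (.node (.node (.node (.node (.leaf 0) (.leaf 832)) (.leaf 321)) (.node (.leaf 147) (.leaf 1000))) (.node (.node (.leaf 70) (.leaf 499)) (.node (.leaf 561) (.leaf 662)))) (.node (.node (.node (.node (.leaf 474) (.leaf 1143)) (.leaf 368)) (.node (.leaf 189) (.leaf 640))) (.node (.node (.leaf 263) (.leaf 886)) (.node (.leaf 660) (.leaf 988))))) (.node (.node (.node (.node (.node (.leaf 16) (.leaf 872)) (.leaf 1101)) (.node (.leaf 789) (.leaf 563)))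 (.node (.node (.leaf 89) (.leaf 445)) (.node (.leaf 251) (.leaf 1145)))) (.node (.node (.node (.node (.leaf 52) (.leaf 1066)) (.leaf 392)) (.node (.leaf 209) (.leaf 622))) (.node (.node (.leaf 128) (.leaf 506)) (.node (.leaf 297) (.leaf 786)))))) (.node (.node (.node (.node (.node (.node (.leaf 8) (.leaf 852)) (.leaf 338)) (.node (.leaf 521) (.leaf 549))) (.node (.node (.leaf 79) (.leaf 431)) (.node (.leaf 242) (.leaf 1070)))) (.node (.node (.node (.node (.leaf 43) (.leaf 990)) (.leaf 386)) (.node (.leaf 749) (.leaf 605))) (.node (.node (.leaf 118) (.leaf 489)) (.node (.leaf 684) (.leaf 809))))) (.node (.node (.node (.node (.node (.leaf 25) (.leaf 951)) (.leaf 356)) (.node (.leaf 912) (.leaf 577))) (.node (.node (.leaf 739) (.leaf 456)) (.node (.leaf 262) (.leaf 1060)))) (.node (.node (.node (.node (.leaf 318) (.leaf 1071)) (.leaf 404)) (.node (.leaf 219) (.leaf 992))) (.node (.node (.leaf 828) (.leaf 522)) (.node (.leaf 309) (.leaf 844))))))) (.node (.node (.node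 (.node (.node (.node (.node (.leaf 4) (.leaf 959)) (.leaf 328)) (.node (.leaf 152) (.leaf 1037))) (.node (.node (.leaf 551) (.leaf 424)) (.node (.leaf 1094) (.leaf 670)))) (.node (.node (.node (.node (.leaf 39) (.leaf 987)) (.leaf 768)) (.node (.leaf 914) (.leaf 652))) (.node (.node (.leaf 114) (.leaf 481)) (.node (.leaf 279) (.leaf 759))))) (.node (.node (.node (.node (.node (.leaf 234) (.leaf 890)) (.leaf 351)) (.node (.leaf 173) (.leaf 570))) (.node (.node (.leaf 630) (.leaf 909)) (.node (.leaf 257) (.leaf 708)))) (.node (.node (.node (.node (.leaf 812) (.leaf 1051)) (.leaf 398)) (.node (.leaf 999) (.leaf 632))) (.node (.node (.leaf 133) (.leaf 514)) (.node (.leaf 697) (.leaf 804)))))) (.node (.node (.node (.node (.node (.node (.leaf 12) (.leaf 866)) (.leaf 340)) (.node (.leaf 517) (.leaf 1030))) (.node (.node (.leaf 216) (.leaf 871)) (.node (.leaf 1148) (.leaf 1029)))) (.node (.node (.node (.node (.leaf 339) (.leaf 1007)) (.leaf 797)) (.node (.leaf 680) (.leaf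 1090))) (.node (.node (.leaf 808) (.leaf 939)) (.node (.leaf 290) (.leaf 841))))) (.node (.node (.node (.node (.node (.leaf 29) (.leaf 925)) (.leaf 363)) (.node (.leaf 859) (.leaf 1031))) (.node (.node (.leaf 1052) (.leaf 466)) (.node (.leaf 685) (.leaf 1001)))) (.node (.node (.node (.node (.leaf 66) (.leaf 1108)) (.leaf 410)) (.node (.leaf 1062) (.leaf 1059))) (.node (.node (.leaf 504) (.leaf 653)) (.node (.leaf 327) (.leaf 821)))))))) (.node (.node (.node (.node (.node (.node (.node (.node (.leaf 2) (.leaf 837)) (.leaf 619)) (.node (.leaf 149) (.leaf 616))) (.node (.node (.leaf 94) (.leaf 421)) (.node (.leaf 692) (.leaf 666)))) (.node (.node (.node (.node (.leaf 795) (.leaf 957)) (.leaf 371)) (.node (.leaf 845) (.leaf 968))) (.node (.node (.leaf 433) (.leaf 479)) (.node (.leaf 277) (.leaf 1035))))) (.node (.node (.node (.node (.node (.leaf 315) (.leaf 879)) (.leaf 829)) (.node (.leaf 936) (.leaf 985))) (.node (.node (.leaf 91) (.leaf 801)) (.node (.leaf 254) (.leaf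 1010)))) (.node (.node (.node (.node (.leaf 493) (.leaf 1067)) (.leaf 394)) (.node (.leaf 211) (.leaf 626))) (.node (.node (.leaf 130) (.leaf 511)) (.node (.leaf 299) (.leaf 792)))))) (.node (.node (.node (.node (.node (.node (.leaf 10) (.leaf 860)) (.leaf 336)) (.node (.leaf 161) (.leaf 553))) (.node (.node (.leaf 1097) (.leaf 889)) (.node (.leaf 244) (.leaf 977)))) (.node (.node (.node (.node (.leaf 475) (.leaf 1047)) (.leaf 383)) (.node (.leaf 585) (.leaf 674))) (.node (.node (.leaf 771) (.leaf 494)) (.node (.leaf 288) (.leaf 784))))) (.node (.node (.node (.node (.node (.leaf 27) (.leaf 937)) (.leaf 777)) (.node (.leaf 181) (.leaf 582))) (.node (.node (.leaf 679) (.leaf 846)) (.node (.leaf 265) (.leaf 730)))) (.node (.node (.node (.node (.leaf 64) (.leaf 1085)) (.leaf 407)) (.node (.leaf 698) (.leaf 643))) (.node (.node (.leaf 360) (.leaf 750)) (.node (.leaf 311) (.leaf 815))))))) (.node (.node (.node (.node (.node (.node (.node (.leaf 6) (.leaf 892)) (.leaf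 802)) (.node (.leaf 155) (.leaf 546))) (.node (.node (.leaf 623) (.leaf 427)) (.node (.leaf 239) (.leaf 678)))) (.node (.node (.node (.node (.leaf 41) (.leaf 978)) (.leaf 377)) (.node (.leaf 564) (.leaf 601))) (.node (.node (.leaf 116) (.leaf 484)) (.node (.leaf 282) (.leaf 930))))) (.node (.node (.node (.node (.node (.leaf 313) (.leaf 895)) (.leaf 353)) (.node (.leaf 397) (.leaf 573))) (.node (.node (.leaf 96) (.leaf 1128)) (.node (.leaf 259) (.leaf 715)))) (.node (.node (.node (.node (.leaf 59) (.leaf 1151)) (.leaf 919)) (.node (.leaf 217) (.leaf 634))) (.node (.node (.leaf 361) (.leaf 907)) (.node (.leaf 306) (.leaf 800)))))) (.node (.node (.node (.node (.node (.node (.leaf 14) (.leaf 869)) (.leaf 343)) (.node (.leaf 855) (.leaf 667))) (.node (.node (.leaf 539) (.leaf 441)) (.node (.leaf 249) (.leaf 1027)))) (.node (.node (.node (.node (.leaf 905) (.leaf 1013)) (.leaf 834)) (.node (.leaf 206) (.leaf 696))) (.node (.node (.leaf 125) (.leaf 501)) (.node (.leaf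 293) (.leaf 782))))) (.node (.node (.node (.node (.node (.leaf 32) (.leaf 935)) (.leaf 365)) (.node (.leaf 467) (.leaf 588))) (.node (.node (.leaf 105) (.leaf 470)) (.node (.leaf 270) (.leaf 740)))) (.node (.node (.node (.node (.leaf 68) (.leaf 1126)) (.leaf 483)) (.node (.leaf 226) (.leaf 656))) (.node (.node (.leaf 145) (.leaf 534)) (.node (.leaf 319) (.leaf 922)))))))))) (.node (.node (.node (.node (.node (.node (.node (.node (.node (.node (.leaf 271) (.leaf 831)) (.leaf 545)) (.node (.leaf 848) (.leaf 536))) (.node (.node (.leaf 284) (.leaf 417)) (.node (.leaf 229) (.leaf 659)))) (.node (.node (.node (.node (.leaf 34) (.leaf 943)) (.leaf 471)) (.node (.leaf 961) (.leaf 724))) (.node (.node (.leaf 108) (.leaf 945)) (.node (.leaf 274) (.leaf 742))))) (.node (.node (.node (.node (.node (.leaf 734) (.leaf 1122)) (.leaf 345)) (.node (.leaf 168) (.leaf 562))) (.node (.node (.leaf 975) (.leaf 443)) (.node (.leaf 296) (.leaf 701)))) (.node (.node (.node (.node (.leaf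 923) (.leaf 1022)) (.leaf 391)) (.node (.leaf 995) (.leaf 998))) (.node (.node (.leaf 1139) (.leaf 505)) (.node (.leaf 295) (.leaf 785)))))) (.node (.node (.node (.node (.node (.node (.leaf 822) (.leaf 1123)) (.leaf 333)) (.node (.leaf 158) (.leaf 625))) (.node (.node (.leaf 208) (.leaf 442)) (.node (.leaf 753) (.leaf 681)))) (.node (.node (.node (.node (.leaf 523) (.leaf 983)) (.leaf 379)) (.node (.leaf 199) (.leaf 752))) (.node (.node (.leaf 423) (.leaf 817)) (.node (.leaf 733) (.leaf 767))))) (.node (.node (.node (.node (.node (.leaf 272) (.leaf 902)) (.leaf 954)) (.node (.leaf 178) (.leaf 575))) (.node (.node (.leaf 98) (.leaf 1134)) (.node (.leaf 621) (.leaf 721)))) (.node (.node (.node (.node (.leaf 61) (.leaf 1089)) (.leaf 444)) (.node (.leaf 655) (.leaf 637))) (.node (.node (.leaf 137) (.leaf 873)) (.node (.leaf 746) (.leaf 1120))))))) (.node (.node (.node (.node (.node (.node (.node (.leaf 644) (.leaf 842)) (.leaf 735)) (.node (.leaf 151) (.leaf 1068)))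 (.node (.node (.leaf 74) (.leaf 901)) (.node (.leaf 236) (.leaf 1036)))) (.node (.node (.node (.node (.leaf 38) (.leaf 965)) (.leaf 374)) (.node (.leaf 432) (.leaf 597))) (.node (.node (.leaf 384) (.leaf 510)) (.node (.leaf 555) (.leaf 764))))) (.node (.node (.node (.node (.node (.leaf 20) (.leaf 941)) (.leaf 1111)) (.node (.leaf 454) (.leaf 602))) (.node (.node (.leaf 93) (.leaf 449)) (.node (.leaf 256) (.leaf 723)))) (.node (.node (.node (.node (.leaf 56) (.leaf 1049)) (.leaf 838)) (.node (.leaf 213) (.leaf 631))) (.node (.node (.leaf 762) (.leaf 513)) (.node (.leaf 302) (.leaf 794)))))) (.node (.node (.node (.node (.node (.node (.leaf 883) (.leaf 1112)) (.leaf 1116)) (.node (.leaf 171) (.leaf 556))) (.node (.node (.leaf 83) (.leaf 436)) (.node (.leaf 1058) (.leaf 691)))) (.node (.node (.node (.node (.leaf 47) (.leaf 1088)) (.leaf 385)) (.node (.leaf 203) (.leaf 611))) (.node (.node (.leaf 122) (.leaf 497)) (.node (.leaf 693) (.leaf 952))))) (.node (.node (.node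 (.node (.node (.leaf 307) (.leaf 926)) (.leaf 378)) (.node (.leaf 183) (.leaf 1054))) (.node (.node (.leaf 102) (.leaf 1103)) (.node (.leaf 1008) (.leaf 994)))) (.node (.node (.node (.node (.leaf 325) (.leaf 1129)) (.leaf 787)) (.node (.leaf 223) (.leaf 649))) (.node (.node (.leaf 142) (.leaf 530)) (.node (.leaf 314) (.leaf 1138)))))))) (.node (.node (.node (.node (.node (.node (.node (.node (.leaf 492) (.leaf 1133)) (.leaf 324)) (.node (.leaf 942) (.leaf 538))) (.node (.node (.leaf 72) (.leaf 420)) (.node (.leaf 672) (.leaf 665)))) (.node (.node (.node (.node (.leaf 36) (.leaf 1136)) (.leaf 411)) (.node (.leaf 191) (.leaf 594))) (.node (.node (.leaf 111) (.leaf 478)) (.node (.leaf 276) (.leaf 1023))))) (.node (.node (.node (.node (.node (.leaf 18) (.leaf 878)) (.leaf 348)) (.node (.leaf 170) (.leaf 565))) (.node (.node (.leaf 542) (.leaf 447)) (.node (.leaf 1039) (.leaf 704)))) (.node (.node (.node (.node (.leaf 54) (.leaf 1032)) (.leaf 772)) (.node (.leaf 617)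 (.leaf 671))) (.node (.node (.leaf 346) (.leaf 509)) (.node (.leaf 997) (.leaf 928)))))) (.node (.node (.node (.node (.node (.node (.leaf 798) (.leaf 857)) (.leaf 335)) (.node (.leaf 488) (.leaf 576))) (.node (.node (.leaf 81) (.leaf 434)) (.node (.leaf 982) (.leaf 689)))) (.node (.node (.node (.node (.leaf 45) (.leaf 996)) (.leaf 382)) (.node (.leaf 201) (.leaf 676))) (.node (.node (.leaf 120) (.leaf 491)) (.node (.leaf 287) (.leaf 770))))) (.node (.node (.node (.node (.node (.leaf 528) (.leaf 911)) (.leaf 359)) (.node (.leaf 367) (.leaf 581))) (.node (.node (.leaf 100) (.leaf 459)) (.node (.leaf 264) (.leaf 727)))) (.node (.node (.node (.node (.leaf 267) (.leaf 1082)) (.leaf 451)) (.node (.leaf 221) (.leaf 974))) (.node (.node (.leaf 814) (.leaf 526)) (.node (.leaf 552) (.leaf 813))))))) (.node (.node (.node (.node (.node (.node (.node (.leaf 592) (.leaf 1106)) (.leaf 331)) (.node (.leaf 380) (.leaf 567))) (.node (.node (.leaf 76) (.leaf 426)) (.node (.leaf 668)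 (.leaf 673)))) (.node (.node (.node (.node (.leaf 949) (.leaf 976)) (.leaf 376)) (.node (.leaf 197) (.leaf 726))) (.node (.node (.leaf 847) (.leaf 917)) (.node (.leaf 664) (.leaf 761))))) (.node (.node (.node (.node (.node (.leaf 22) (.leaf 950)) (.leaf 460)) (.node (.leaf 175) (.leaf 607))) (.node (.node (.leaf 104) (.leaf 524)) (.node (.leaf 744) (.leaf 714)))) (.node (.node (.node (.node (.leaf 58) (.leaf 1149)) (.leaf 400)) (.node (.leaf 989) (.leaf 661))) (.node (.node (.leaf 135) (.leaf 518)) (.node (.leaf 305) (.leaf 799)))))) (.node (.node (.node (.node (.node (.node (.leaf 430) (.leaf 868)) (.leaf 1141)) (.node (.leaf 165) (.leaf 981))) (.node (.node (.leaf 86) (.leaf 500)) (.node (.leaf 248) (.leaf 699)))) (.node (.node (.node (.node (.leaf 49) (.leaf 1091)) (.leaf 389)) (.node (.leaf 1055) (.leaf 614))) (.node (.node (.leaf 341) (.leaf 773)) (.node (.leaf 292) (.leaf 781))))) (.node (.node (.node (.node (.node (.leaf 464) (.leaf 931)) (.leaf 401)) (.node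 (.leaf 416) (.leaf 993))) (.node (.node (.leaf 543) (.leaf 946)) (.node (.leaf 1041) (.leaf 738)))) (.node (.node (.node (.node (.leaf 77) (.leaf 1117)) (.leaf 413)) (.node (.leaf 642) (.leaf 654))) (.node (.node (.leaf 896) (.leaf 533)) (.node (.leaf 991) (.leaf 826))))))))) (.node (.node (.node (.node (.node (.node (.node (.node (.node (.leaf 163) (.leaf 833)) (.leaf 705)) (.node (.leaf 525) (.leaf 537))) (.node (.node (.leaf 71) (.leaf 418)) (.node (.leaf 232) (.leaf 1087)))) (.node (.node (.node (.node (.leaf 35) (.leaf 1121)) (.leaf 888)) (.node (.leaf 190) (.leaf 593))) (.node (.node (.leaf 109) (.leaf 476)) (.node (.leaf 275) (.leaf 747))))) (.node (.node (.node (.node (.node (.leaf 17) (.leaf 899)) (.leaf 347)) (.node (.leaf 169) (.leaf 608))) (.node (.node (.leaf 231) (.leaf 446)) (.node (.leaf 252) (.leaf 702)))) (.node (.node (.node (.node (.leaf 126) (.leaf 1025)) (.leaf 819)) (.node (.leaf 1150) (.leaf 1065))) (.node (.node (.leaf 461) (.leaf 507))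 (.node (.leaf 1050) (.leaf 790)))))) (.node (.node (.node (.node (.node (.node (.leaf 112) (.leaf 858)) (.leaf 334)) (.node (.leaf 874) (.leaf 1020))) (.node (.node (.leaf 80) (.leaf 779)) (.node (.leaf 261) (.leaf 682)))) (.node (.node (.node (.node (.leaf 422) (.leaf 1005)) (.leaf 1124)) (.node (.leaf 200) (.leaf 694))) (.node (.node (.leaf 399) (.leaf 924)) (.node (.leaf 285) (.leaf 769))))) (.node (.node (.node (.node (.node (.leaf 1033) (.leaf 1114)) (.leaf 357)) (.node (.leaf 179) (.leaf 636))) (.node (.node (.leaf 99) (.leaf 934)) (.node (.leaf 269) (.leaf 725)))) (.node (.node (.node (.node (.leaf 627) (.leaf 1074)) (.leaf 405)) (.node (.leaf 220) (.leaf 641))) (.node (.node (.leaf 138) (.leaf 916)) (.node (.leaf 1144) (.leaf 810))))))) (.node (.node (.node (.node (.node (.node (.node (.leaf 62) (.leaf 843)) (.leaf 972)) (.node (.leaf 153) (.leaf 559))) (.node (.node (.leaf 75) (.leaf 486)) (.node (.leaf 237) (.leaf 687)))) (.node (.node (.node (.node (.leaf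 387) (.leaf 970)) (.leaf 375)) (.node (.leaf 195) (.leaf 599))) (.node (.node (.leaf 440) (.leaf 1131)) (.node (.leaf 280) (.leaf 1104))))) (.node (.node (.node (.node (.node (.leaf 21) (.leaf 891)) (.leaf 864)) (.node (.leaf 174) (.leaf 571))) (.node (.node (.leaf 230) (.leaf 450)) (.node (.leaf 1040) (.leaf 743)))) (.node (.node (.node (.node (.leaf 57) (.leaf 1053)) (.leaf 463)) (.node (.leaf 214) (.leaf 720))) (.node (.node (.leaf 134) (.leaf 515)) (.node (.leaf 303) (.leaf 796)))))) (.node (.node (.node (.node (.node (.node (.leaf 159) (.leaf 867)) (.leaf 502)) (.node (.leaf 164) (.leaf 557))) (.node (.node (.leaf 84) (.leaf 438)) (.node (.leaf 247) (.leaf 695)))) (.node (.node (.node (.node (.leaf 48) (.leaf 1009)) (.leaf 465)) (.node (.leaf 204) (.leaf 612))) (.node (.node (.leaf 933) (.leaf 498)) (.node (.leaf 291) (.leaf 806))))) (.node (.node (.node (.node (.node (.leaf 30) (.leaf 1098)) (.leaf 462)) (.node (.leaf 184) (.leaf 586))) (.node (.node (.leaf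 103) (.leaf 827)) (.node (.leaf 268) (.leaf 736)))) (.node (.node (.node (.node (.leaf 677) (.leaf 1110)) (.leaf 412)) (.node (.leaf 224) (.leaf 650))) (.node (.node (.leaf 143) (.leaf 532)) (.node (.leaf 316) (.leaf 824)))))))) (.node (.node (.node (.node (.node (.node (.node (.node (.leaf 238) (.leaf 839)) (.leaf 326)) (.node (.leaf 894) (.leaf 1146))) (.node (.node (.leaf 73) (.leaf 793)) (.node (.leaf 235) (.leaf 1084)))) (.node (.node (.node (.node (.leaf 37) (.leaf 958)) (.leaf 372)) (.node (.leaf 861) (.leaf 595))) (.node (.node (.leaf 811) (.leaf 964)) (.node (.leaf 638) (.leaf 755))))) (.node (.node (.node (.node (.node (.leaf 19) (.leaf 880)) (.leaf 349)) (.node (.leaf 1130) (.leaf 1045))) (.node (.node (.leaf 651) (.leaf 448)) (.node (.leaf 255) (.leaf 1069)))) (.node (.node (.node (.node (.leaf 55) (.leaf 1038)) (.leaf 395)) (.node (.leaf 535) (.leaf 1064))) (.node (.node (.leaf 131) (.leaf 1135)) (.node (.leaf 300) (.leaf 820)))))) (.node (.node (.node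 (.node (.node (.node (.leaf 473) (.leaf 1113)) (.leaf 849)) (.node (.leaf 1118) (.leaf 1075))) (.node (.node (.leaf 82) (.leaf 435)) (.node (.leaf 286) (.leaf 688)))) (.node (.node (.node (.node (.leaf 46) (.leaf 1003)) (.leaf 452)) (.node (.leaf 202) (.leaf 709))) (.node (.node (.leaf 121) (.leaf 495)) (.node (.leaf 329) (.leaf 927))))) (.node (.node (.node (.node (.node (.leaf 613) (.leaf 918)) (.leaf 908)) (.node (.leaf 182) (.leaf 583))) (.node (.node (.leaf 101) (.leaf 947)) (.node (.leaf 527) (.leaf 731)))) (.node (.node (.node (.node (.leaf 984) (.leaf 1092)) (.leaf 408)) (.node (.leaf 222) (.leaf 646))) (.node (.node (.leaf 141) (.leaf 596)) (.node (.leaf 312) (.leaf 816))))))) (.node (.node (.node (.node (.node (.node (.node (.leaf 166) (.leaf 906)) (.leaf 332)) (.node (.leaf 156) (.leaf 1073))) (.node (.node (.leaf 1048) (.leaf 818)) (.node (.leaf 554) (.leaf 732)))) (.node (.node (.node (.node (.leaf 51) (.leaf 979)) (.leaf 788)) (.node (.leaf 198) (.leaf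 603))) (.node (.node (.leaf 123) (.leaf 485)) (.node (.leaf 973) (.leaf 948))))) (.node (.node (.node (.node (.node (.leaf 23) (.leaf 897)) (.leaf 1119)) (.node (.leaf 176) (.leaf 574))) (.node (.node (.leaf 716) (.leaf 453)) (.node (.leaf 260) (.leaf 717)))) (.node (.node (.node (.node (.leaf 618) (.leaf 1086)) (.leaf 402)) (.node (.leaf 225) (.leaf 1095))) (.node (.node (.leaf 136) (.leaf 519)) (.node (.leaf 587) (.leaf 803)))))) (.node (.node (.node (.node (.node (.node (.leaf 241) (.leaf 870)) (.leaf 953)) (.node (.leaf 167) (.leaf 560))) (.node (.node (.leaf 87) (.leaf 876)) (.node (.leaf 728) (.leaf 1006)))) (.node (.node (.node (.node (.leaf 50) (.leaf 1017)) (.leaf 390)) (.node (.leaf 531) (.leaf 706))) (.node (.node (.leaf 823) (.leaf 503)) (.node (.leaf 294) (.leaf 1100))))) (.node (.node (.node (.node (.node (.leaf 33) (.leaf 1132)) (.leaf 963)) (.node (.leaf 187) (.leaf 600))) (.node (.node (.leaf 106) (.leaf 520)) (.node (.leaf 647) (.leaf 754)))) (.node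 (.node (.node (.node (.leaf 308) (.leaf 1137)) (.leaf 414)) (.node (.leaf 227) (.leaf 657))) (.node (.node (.leaf 1107) (.leaf 1078)) (.node (.leaf 729) (.leaf 881)))))))))))

/-- data -/
def lab2 : Trie (Word) := .node (.node (.node (.node (.node (.node (.node (.node (.node (.node (.node (.node (.leaf ([])) (.leaf ([]))) (.leaf ([]))) (.node (.leaf ([])) (.leaf ([])))) (.node (.node (.leaf ([])) (.leaf ([]))) (.node (.leaf ([])) (.leaf ([]))))) (.node (.node (.node (.node (.leaf ([])) (.leaf ([]))) (.leaf ([]))) (.node (.leaf ([])) (.leaf ([])))) (.node (.node (.leaf ([])) (.leaf ([]))) (.node (.leaf ([])) (.leaf ([])))))) (.node (.node (.node (.node (.node (.leaf ([])) (.leaf ([]))) (.leaf ([]))) (.node (.leaf ([])) (.leaf ([])))) (.node (.node (.leaf ([])) (.leaf ([]))) (.node (.leaf ([])) (.leaf ([]))))) (.node (.node (.node (.node (.leaf ([])) (.leaf ([]))) (.leaf ([]))) (.node (.leaf ([])) (.leaf ([])))) (.node (.node (.leaf ([])) (.leaf ([]))) (.node (.leaf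 ([])) (.leaf ([]))))))) (.node (.node (.node (.node (.node (.node (.leaf ([])) (.leaf ([]))) (.leaf ([]))) (.node (.leaf ([])) (.leaf ([])))) (.node (.node (.leaf ([])) (.leaf ([]))) (.node (.leaf ([])) (.leaf ([]))))) (.node (.node (.node (.node (.leaf ([])) (.leaf ([]))) (.leaf ([]))) (.node (.leaf ([])) (.leaf ([])))) (.node (.node (.leaf ([])) (.leaf ([]))) (.node (.leaf ([])) (.leaf ([])))))) (.node (.node (.node (.node (.node (.leaf ([])) (.leaf ([]))) (.leaf ([]))) (.node (.leaf ([])) (.leaf ([])))) (.node (.node (.leaf ([])) (.leaf ([]))) (.node (.leaf ([])) (.leaf ([]))))) (.node (.node (.node (.node (.leaf ([])) (.leaf ([]))) (.leaf ([]))) (.node (.leaf ([])) (.leaf ([])))) (.node (.node (.leaf ([])) (.leaf ([]))) (.node (.leaf ([])) (.leaf ([])))))))) (.node (.node (.node (.node (.node (.node (.node (.leaf ([])) (.leaf ([]))) (.leaf ([]))) (.node (.leaf ([])) (.leaf ([])))) (.node (.node (.leaf ([])) (.leaf ([]))) (.node (.leaf ([])) (.leaf ([]))))) (.node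 (.node (.node (.node (.leaf ([])) (.leaf ([]))) (.leaf ([]))) (.node (.leaf ([])) (.leaf ([])))) (.node (.node (.leaf ([])) (.leaf ([]))) (.node (.leaf ([])) (.leaf ([])))))) (.node (.node (.node (.node (.node (.leaf ([])) (.leaf ([]))) (.leaf ([]))) (.node (.leaf ([])) (.leaf ([])))) (.node (.node (.leaf ([])) (.leaf ([]))) (.node (.leaf ([])) (.leaf ([]))))) (.node (.node (.node (.node (.leaf ([])) (.leaf ([]))) (.leaf ([]))) (.node (.leaf ([])) (.leaf ([])))) (.node (.node (.leaf ([])) (.leaf ([]))) (.node (.leaf ([])) (.leaf ([]))))))) (.node (.node (.node (.node (.node (.node (.leaf ([])) (.leaf ([]))) (.leaf ([]))) (.node (.leaf ([])) (.leaf ([])))) (.node (.node (.leaf ([])) (.leaf ([]))) (.node (.leaf ([])) (.leaf ([]))))) (.node (.node (.node (.node (.leaf ([])) (.leaf ([]))) (.leaf ([]))) (.node (.leaf ([])) (.leaf ([])))) (.node (.node (.leaf ([])) (.leaf ([]))) (.node (.leaf ([])) (.leaf ([])))))) (.node (.node (.node (.node (.node (.leaf ([])) (.leaf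 ([]))) (.leaf ([]))) (.node (.leaf ([])) (.leaf ([])))) (.node (.node (.leaf ([])) (.leaf ([]))) (.node (.leaf ([])) (.leaf ([]))))) (.node (.node (.node (.node (.leaf ([])) (.leaf ([]))) (.leaf ([]))) (.node (.leaf ([])) (.leaf ([])))) (.node (.node (.leaf ([])) (.leaf ([]))) (.node (.leaf ([])) (.leaf ([]))))))))) (.node (.node (.node (.node (.node (.node (.node (.node (.leaf ([])) (.leaf ([]))) (.leaf ([]))) (.node (.leaf ([])) (.leaf ([])))) (.node (.node (.leaf ([])) (.leaf ([]))) (.node (.leaf ([])) (.leaf ([]))))) (.node (.node (.node (.node (.leaf ([])) (.leaf ([]))) (.leaf ([]))) (.node (.leaf ([])) (.leaf ([])))) (.node (.node (.leaf ([])) (.leaf ([]))) (.node (.leaf ([])) (.leaf ([])))))) (.node (.node (.node (.node (.node (.leaf ([])) (.leaf ([]))) (.leaf ([]))) (.node (.leaf ([])) (.leaf ([])))) (.node (.node (.leaf ([])) (.leaf ([]))) (.node (.leaf ([])) (.leaf ([]))))) (.node (.node (.node (.node (.leaf ([])) (.leaf ([]))) (.leaf ([]))) (.node (.leaf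 ([])) (.leaf ([])))) (.node (.node (.leaf ([])) (.leaf ([]))) (.node (.leaf ([])) (.leaf ([]))))))) (.node (.node (.node (.node (.node (.node (.leaf ([])) (.leaf ([]))) (.leaf ([]))) (.node (.leaf ([])) (.leaf ([])))) (.node (.node (.leaf ([])) (.leaf ([]))) (.node (.leaf ([])) (.leaf ([]))))) (.node (.node (.node (.node (.leaf ([])) (.leaf ([]))) (.leaf ([]))) (.node (.leaf ([])) (.leaf ([])))) (.node (.node (.leaf ([])) (.leaf ([]))) (.node (.leaf ([])) (.leaf ([])))))) (.node (.node (.node (.node (.node (.leaf ([])) (.leaf ([]))) (.leaf ([]))) (.node (.leaf ([])) (.leaf ([])))) (.node (.node (.leaf ([])) (.leaf ([]))) (.node (.leaf ([])) (.leaf ([]))))) (.node (.node (.node (.node (.leaf ([])) (.leaf ([]))) (.leaf ([]))) (.node (.leaf ([])) (.leaf ([])))) (.node (.node (.leaf ([])) (.leaf ([]))) (.node (.leaf ([])) (.leaf ([])))))))) (.node (.node (.node (.node (.node (.node (.node (.leaf ([])) (.leaf ([]))) (.leaf ([]))) (.node (.leaf ([])) (.leaf ([])))) (.node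 (.node (.leaf ([])) (.leaf ([]))) (.node (.leaf ([])) (.leaf ([]))))) (.node (.node (.node (.node (.leaf ([])) (.leaf ([]))) (.leaf ([]))) (.node (.leaf ([])) (.leaf ([])))) (.node (.node (.leaf ([])) (.leaf ([]))) (.node (.leaf ([])) (.leaf ([])))))) (.node (.node (.node (.node (.node (.leaf ([])) (.leaf ([]))) (.leaf ([]))) (.node (.leaf ([])) (.leaf ([])))) (.node (.node (.leaf ([])) (.leaf ([]))) (.node (.leaf ([])) (.leaf ([]))))) (.node (.node (.node (.node (.leaf ([])) (.leaf ([]))) (.leaf ([]))) (.node (.leaf ([])) (.leaf ([])))) (.node (.node (.leaf ([])) (.leaf ([]))) (.node (.leaf ([])) (.leaf ([]))))))) (.node (.node (.node (.node (.node (.node (.leaf ([])) (.leaf ([]))) (.leaf ([]))) (.node (.leaf ([])) (.leaf ([])))) (.node (.node (.leaf ([])) (.leaf ([]))) (.node (.leaf ([])) (.leaf ([]))))) (.node (.node (.node (.node (.leaf ([])) (.leaf ([]))) (.leaf ([]))) (.node (.leaf ([])) (.leaf ([])))) (.node (.node (.leaf ([])) (.leaf ([]))) (.node (.leaf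 ([])) (.leaf ([])))))) (.node (.node (.node (.node (.node (.leaf ([])) (.leaf ([]))) (.leaf ([]))) (.node (.leaf ([])) (.leaf ([])))) (.node (.node (.leaf ([])) (.leaf ([]))) (.node (.leaf ([])) (.leaf ([]))))) (.node (.node (.node (.node (.leaf ([])) (.leaf ([]))) (.leaf ([]))) (.node (.leaf ([])) (.leaf ([])))) (.node (.node (.leaf ([])) (.leaf ([]))) (.node (.leaf ([])) (.leaf ([])))))))))) (.node (.node (.node (.node (.node (.node (.node (.node (.node (.leaf ([])) (.leaf ([]))) (.leaf ([]))) (.node (.leaf ([])) (.leaf ([])))) (.node (.node (.leaf ([])) (.leaf ([]))) (.node (.leaf ([])) (.leaf ([]))))) (.node (.node (.node (.node (.leaf ([])) (.leaf ([]))) (.leaf ([]))) (.node (.leaf ([])) (.leaf ([])))) (.node (.node (.leaf ([])) (.leaf ([]))) (.node (.leaf ([])) (.leaf ([])))))) (.node (.node (.node (.node (.node (.leaf ([])) (.leaf ([]))) (.leaf ([]))) (.node (.leaf ([])) (.leaf ([])))) (.node (.node (.leaf ([])) (.leaf ([]))) (.node (.leaf ([])) (.leaf ([])))))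 (.node (.node (.node (.node (.leaf ([])) (.leaf ([]))) (.leaf ([]))) (.node (.leaf ([])) (.leaf ([])))) (.node (.node (.leaf ([])) (.leaf ([]))) (.node (.leaf ([])) (.leaf ([]))))))) (.node (.node (.node (.node (.node (.node (.leaf ([])) (.leaf ([]))) (.leaf ([]))) (.node (.leaf ([])) (.leaf ([])))) (.node (.node (.leaf ([])) (.leaf ([]))) (.node (.leaf ([])) (.leaf ([]))))) (.node (.node (.node (.node (.leaf ([])) (.leaf ([]))) (.leaf ([]))) (.node (.leaf ([])) (.leaf ([])))) (.node (.node (.leaf ([])) (.leaf ([]))) (.node (.leaf ([])) (.leaf ([])))))) (.node (.node (.node (.node (.node (.leaf ([])) (.leaf ([]))) (.leaf ([]))) (.node (.leaf ([])) (.leaf ([])))) (.node (.node (.leaf ([])) (.leaf ([]))) (.node (.leaf ([])) (.leaf ([]))))) (.node (.node (.node (.node (.leaf ([])) (.leaf ([]))) (.leaf ([]))) (.node (.leaf ([])) (.leaf ([])))) (.node (.node (.leaf ([])) (.leaf ([]))) (.node (.leaf ([])) (.leaf ([])))))))) (.node (.node (.node (.node (.node (.node (.node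 (.leaf ([])) (.leaf ([]))) (.leaf ([]))) (.node (.leaf ([])) (.leaf ([])))) (.node (.node (.leaf ([])) (.leaf ([]))) (.node (.leaf ([])) (.leaf ([]))))) (.node (.node (.node (.node (.leaf ([])) (.leaf ([]))) (.leaf ([]))) (.node (.leaf ([])) (.leaf ([])))) (.node (.node (.leaf ([])) (.leaf ([]))) (.node (.leaf ([])) (.leaf ([])))))) (.node (.node (.node (.node (.node (.leaf ([])) (.leaf ([]))) (.leaf ([]))) (.node (.leaf ([])) (.leaf ([])))) (.node (.node (.leaf ([])) (.leaf ([]))) (.node (.leaf ([])) (.leaf ([]))))) (.node (.node (.node (.node (.leaf ([])) (.leaf ([]))) (.leaf ([]))) (.node (.leaf ([])) (.leaf ([])))) (.node (.node (.leaf ([])) (.leaf ([]))) (.node (.leaf ([])) (.leaf ([]))))))) (.node (.node (.node (.node (.node (.node (.leaf ([])) (.leaf ([]))) (.leaf ([]))) (.node (.leaf ([])) (.leaf ([])))) (.node (.node (.leaf ([])) (.leaf ([]))) (.node (.leaf ([])) (.leaf ([]))))) (.node (.node (.node (.node (.leaf ([])) (.leaf ([]))) (.leaf ([]))) (.node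 (.leaf ([])) (.leaf ([])))) (.node (.node (.leaf ([])) (.leaf ([]))) (.node (.leaf ([])) (.leaf ([])))))) (.node (.node (.node (.node (.node (.leaf ([])) (.leaf ([]))) (.leaf ([]))) (.node (.leaf ([])) (.leaf ([])))) (.node (.node (.leaf ([])) (.leaf ([]))) (.node (.leaf ([])) (.leaf ([]))))) (.node (.node (.node (.node (.leaf ([])) (.leaf ([]))) (.leaf ([]))) (.node (.leaf ([])) (.leaf ([])))) (.node (.node (.leaf ([])) (.leaf ([]))) (.node (.leaf ([])) (.leaf ([]))))))))) (.node (.node (.node (.node (.node (.node (.node (.node (.leaf ([])) (.leaf ([]))) (.leaf ([]))) (.node (.leaf ([])) (.leaf ([])))) (.node (.node (.leaf ([])) (.leaf ([]))) (.node (.leaf ([])) (.leaf ([]))))) (.node (.node (.node (.node (.leaf ([])) (.leaf ([]))) (.leaf ([]))) (.node (.leaf ([])) (.leaf ([])))) (.node (.node (.leaf ([])) (.leaf ([]))) (.node (.leaf ([])) (.leaf ([])))))) (.node (.node (.node (.node (.node (.leaf ([])) (.leaf ([]))) (.leaf ([]))) (.node (.leaf ([])) (.leaf ([]))))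 (.node (.node (.leaf ([])) (.leaf ([]))) (.node (.leaf ([])) (.leaf ([]))))) (.node (.node (.node (.node (.leaf ([])) (.leaf ([]))) (.leaf ([]))) (.node (.leaf ([])) (.leaf ([])))) (.node (.node (.leaf ([])) (.leaf ([]))) (.node (.leaf ([])) (.leaf ([]))))))) (.node (.node (.node (.node (.node (.node (.leaf ([])) (.leaf ([]))) (.leaf ([]))) (.node (.leaf ([])) (.leaf ([])))) (.node (.node (.leaf ([])) (.leaf ([]))) (.node (.leaf ([])) (.leaf ([]))))) (.node (.node (.node (.node (.leaf ([])) (.leaf ([]))) (.leaf ([]))) (.node (.leaf ([])) (.leaf ([])))) (.node (.node (.leaf ([])) (.leaf ([]))) (.node (.leaf ([])) (.leaf ([])))))) (.node (.node (.node (.node (.node (.leaf ([])) (.leaf ([]))) (.leaf ([]))) (.node (.leaf ([])) (.leaf ([])))) (.node (.node (.leaf ([])) (.leaf ([]))) (.node (.leaf ([])) (.leaf ([]))))) (.node (.node (.node (.node (.leaf ([])) (.leaf ([]))) (.leaf ([]))) (.node (.leaf ([])) (.leaf ([])))) (.node (.node (.leaf ([])) (.leaf ([]))) (.node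 (.leaf ([])) (.leaf ([])))))))) (.node (.node (.node (.node (.node (.node (.node (.leaf ([])) (.leaf ([]))) (.leaf ([]))) (.node (.leaf ([])) (.leaf ([])))) (.node (.node (.leaf ([])) (.leaf ([]))) (.node (.leaf ([])) (.leaf ([]))))) (.node (.node (.node (.node (.leaf ([])) (.leaf ([]))) (.leaf ([]))) (.node (.leaf ([])) (.leaf ([])))) (.node (.node (.leaf ([])) (.leaf ([]))) (.node (.leaf ([])) (.leaf ([])))))) (.node (.node (.node (.node (.node (.leaf ([])) (.leaf ([]))) (.leaf ([]))) (.node (.leaf ([])) (.leaf ([])))) (.node (.node (.leaf ([])) (.leaf ([]))) (.node (.leaf ([])) (.leaf ([]))))) (.node (.node (.node (.node (.leaf ([])) (.leaf ([]))) (.leaf ([]))) (.node (.leaf ([])) (.leaf ([])))) (.node (.node (.leaf ([])) (.leaf ([]))) (.node (.leaf ([])) (.leaf ([]))))))) (.node (.node (.node (.node (.node (.node (.leaf ([])) (.leaf ([]))) (.leaf ([]))) (.node (.leaf ([])) (.leaf ([])))) (.node (.node (.leaf ([])) (.leaf ([]))) (.node (.leaf ([])) (.leaf ([])))))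 (.node (.node (.node (.node (.leaf ([])) (.leaf ([]))) (.leaf ([]))) (.node (.leaf ([])) (.leaf ([])))) (.node (.node (.leaf ([])) (.leaf ([]))) (.node (.leaf ([])) (.leaf ([])))))) (.node (.node (.node (.node (.node (.leaf ([])) (.leaf ([]))) (.leaf ([]))) (.node (.leaf ([])) (.leaf ([])))) (.node (.node (.leaf ([])) (.leaf ([]))) (.node (.leaf ([])) (.leaf ([]))))) (.node (.node (.node (.node (.leaf ([])) (.leaf ([]))) (.leaf ([]))) (.node (.leaf ([])) (.leaf ([])))) (.node (.node (.leaf ([])) (.leaf ([]))) (.node (.leaf ([])) (.leaf ([]))))))))))) (.node (.node (.node (.node (.node (.node (.node (.node (.node (.node (.leaf ([])) (.leaf ([]))) (.leaf ([]))) (.node (.leaf ([])) (.leaf ([])))) (.node (.node (.leaf ([])) (.leaf ([]))) (.node (.leaf ([])) (.leaf ([]))))) (.node (.node (.node (.node (.leaf ([])) (.leaf ([]))) (.leaf ([]))) (.node (.leaf ([])) (.leaf ([])))) (.node (.node (.leaf ([])) (.leaf ([]))) (.node (.leaf ([])) (.leaf ([])))))) (.node (.node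 (.node (.node (.node (.leaf ([])) (.leaf ([]))) (.leaf ([]))) (.node (.leaf ([])) (.leaf ([])))) (.node (.node (.leaf ([])) (.leaf ([]))) (.node (.leaf ([])) (.leaf ([]))))) (.node (.node (.node (.node (.leaf ([])) (.leaf ([]))) (.leaf ([]))) (.node (.leaf ([])) (.leaf ([])))) (.node (.node (.leaf ([])) (.leaf ([]))) (.node (.leaf ([])) (.leaf ([]))))))) (.node (.node (.node (.node (.node (.node (.leaf ([])) (.leaf ([]))) (.leaf ([]))) (.node (.leaf ([])) (.leaf ([])))) (.node (.node (.leaf ([])) (.leaf ([]))) (.node (.leaf ([])) (.leaf ([]))))) (.node (.node (.node (.node (.leaf ([])) (.leaf ([]))) (.leaf ([]))) (.node (.leaf ([])) (.leaf ([])))) (.node (.node (.leaf ([])) (.leaf ([]))) (.node (.leaf ([])) (.leaf ([])))))) (.node (.node (.node (.node (.node (.leaf ([])) (.leaf ([]))) (.leaf ([]))) (.node (.leaf ([])) (.leaf ([])))) (.node (.node (.leaf ([])) (.leaf ([]))) (.node (.leaf ([])) (.leaf ([]))))) (.node (.node (.node (.node (.leaf ([])) (.leaf ([])))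 (.leaf ([]))) (.node (.leaf ([])) (.leaf ([])))) (.node (.node (.leaf ([])) (.leaf ([]))) (.node (.leaf ([])) (.leaf ([])))))))) (.node (.node (.node (.node (.node (.node (.node (.leaf ([])) (.leaf ([]))) (.leaf ([]))) (.node (.leaf ([])) (.leaf ([])))) (.node (.node (.leaf ([])) (.leaf ([]))) (.node (.leaf ([])) (.leaf ([]))))) (.node (.node (.node (.node (.leaf ([])) (.leaf ([]))) (.leaf ([]))) (.node (.leaf ([])) (.leaf ([])))) (.node (.node (.leaf ([])) (.leaf ([]))) (.node (.leaf ([])) (.leaf ([])))))) (.node (.node (.node (.node (.node (.leaf ([])) (.leaf ([]))) (.leaf ([]))) (.node (.leaf ([])) (.leaf ([])))) (.node (.node (.leaf ([])) (.leaf ([]))) (.node (.leaf ([])) (.leaf ([]))))) (.node (.node (.node (.node (.leaf ([])) (.leaf ([]))) (.leaf ([]))) (.node (.leaf ([])) (.leaf ([])))) (.node (.node (.leaf ([])) (.leaf ([]))) (.node (.leaf ([])) (.leaf ([]))))))) (.node (.node (.node (.node (.node (.node (.leaf ([])) (.leaf ([]))) (.leaf ([]))) (.node (.leaf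 ([])) (.leaf ([])))) (.node (.node (.leaf ([])) (.leaf ([]))) (.node (.leaf ([])) (.leaf ([]))))) (.node (.node (.node (.node (.leaf ([])) (.leaf ([]))) (.leaf ([]))) (.node (.leaf ([])) (.leaf ([])))) (.node (.node (.leaf ([])) (.leaf ([]))) (.node (.leaf ([])) (.leaf ([])))))) (.node (.node (.node (.node (.node (.leaf ([])) (.leaf ([]))) (.leaf ([]))) (.node (.leaf ([])) (.leaf ([])))) (.node (.node (.leaf ([])) (.leaf ([]))) (.node (.leaf ([])) (.leaf ([]))))) (.node (.node (.node (.node (.leaf ([])) (.leaf ([]))) (.leaf ([]))) (.node (.leaf ([])) (.leaf ([])))) (.node (.node (.leaf ([])) (.leaf ([]))) (.node (.leaf ([])) (.leaf ([]))))))))) (.node (.node (.node (.node (.node (.node (.node (.node (.leaf ([])) (.leaf ([]))) (.leaf ([]))) (.node (.leaf ([])) (.leaf ([])))) (.node (.node (.leaf ([])) (.leaf ([]))) (.node (.leaf ([])) (.leaf ([]))))) (.node (.node (.node (.node (.leaf ([])) (.leaf ([]))) (.leaf ([]))) (.node (.leaf ([])) (.leaf ([])))) (.node (.node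 (.leaf ([])) (.leaf ([]))) (.node (.leaf ([])) (.leaf ([])))))) (.node (.node (.node (.node (.node (.leaf ([])) (.leaf ([]))) (.leaf ([]))) (.node (.leaf ([])) (.leaf ([])))) (.node (.node (.leaf ([])) (.leaf ([]))) (.node (.leaf ([])) (.leaf ([]))))) (.node (.node (.node (.node (.leaf ([])) (.leaf ([]))) (.leaf ([]))) (.node (.leaf ([])) (.leaf ([])))) (.node (.node (.leaf ([])) (.leaf ([]))) (.node (.leaf ([])) (.leaf ([]))))))) (.node (.node (.node (.node (.node (.node (.leaf ([])) (.leaf ([]))) (.leaf ([]))) (.node (.leaf ([])) (.leaf ([])))) (.node (.node (.leaf ([])) (.leaf ([]))) (.node (.leaf ([])) (.leaf ([]))))) (.node (.node (.node (.node (.leaf ([])) (.leaf ([]))) (.leaf ([]))) (.node (.leaf ([])) (.leaf ([])))) (.node (.node (.leaf ([])) (.leaf ([]))) (.node (.leaf ([])) (.leaf ([])))))) (.node (.node (.node (.node (.node (.leaf ([])) (.leaf ([]))) (.leaf ([]))) (.node (.leaf ([])) (.leaf ([])))) (.node (.node (.leaf ([])) (.leaf ([]))) (.node (.leaf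 ([])) (.leaf ([]))))) (.node (.node (.node (.node (.leaf ([])) (.leaf ([]))) (.leaf ([]))) (.node (.leaf ([])) (.leaf ([])))) (.node (.node (.leaf ([])) (.leaf ([]))) (.node (.leaf ([])) (.leaf ([])))))))) (.node (.node (.node (.node (.node (.node (.node (.leaf ([])) (.leaf ([]))) (.leaf ([]))) (.node (.leaf ([])) (.leaf ([])))) (.node (.node (.leaf ([])) (.leaf ([]))) (.node (.leaf ([])) (.leaf ([]))))) (.node (.node (.node (.node (.leaf ([])) (.leaf ([]))) (.leaf ([]))) (.node (.leaf ([])) (.leaf ([])))) (.node (.node (.leaf ([])) (.leaf ([]))) (.node (.leaf ([])) (.leaf ([])))))) (.node (.node (.node (.node (.node (.leaf ([])) (.leaf ([]))) (.leaf ([]))) (.node (.leaf ([])) (.leaf ([])))) (.node (.node (.leaf ([])) (.leaf ([]))) (.node (.leaf ([])) (.leaf ([]))))) (.node (.node (.node (.node (.leaf ([])) (.leaf ([]))) (.leaf ([]))) (.node (.leaf ([])) (.leaf ([])))) (.node (.node (.leaf ([])) (.leaf ([]))) (.node (.leaf ([])) (.leaf ([]))))))) (.node (.node (.node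 (.node (.node (.node (.leaf ([])) (.leaf ([]))) (.leaf ([]))) (.node (.leaf ([])) (.leaf ([])))) (.node (.node (.leaf ([])) (.leaf ([]))) (.node (.leaf ([])) (.leaf ([]))))) (.node (.node (.node (.node (.leaf ([])) (.leaf ([]))) (.leaf ([]))) (.node (.leaf ([])) (.leaf ([])))) (.node (.node (.leaf ([])) (.leaf ([]))) (.node (.leaf ([])) (.leaf ([])))))) (.node (.node (.node (.node (.node (.leaf ([])) (.leaf ([]))) (.leaf ([]))) (.node (.leaf ([])) (.leaf ([])))) (.node (.node (.leaf ([])) (.leaf ([]))) (.node (.leaf ([])) (.leaf ([]))))) (.node (.node (.node (.node (.leaf ([])) (.leaf ([]))) (.leaf ([]))) (.node (.leaf ([])) (.leaf ([])))) (.node (.node (.leaf ([])) (.leaf ([]))) (.node (.leaf ([])) (.leaf ([])))))))))) (.node (.node (.node (.node (.node (.node (.node (.node (.node (.leaf ([])) (.leaf ([]))) (.leaf ([]))) (.node (.leaf ([])) (.leaf ([])))) (.node (.node (.leaf ([])) (.leaf ([]))) (.node (.leaf ([])) (.leaf ([]))))) (.node (.node (.node (.node (.leaf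 ([])) (.leaf ([]))) (.leaf ([]))) (.node (.leaf ([])) (.leaf ([])))) (.node (.node (.leaf ([])) (.leaf ([]))) (.node (.leaf ([])) (.leaf ([])))))) (.node (.node (.node (.node (.node (.leaf ([])) (.leaf ([]))) (.leaf ([]))) (.node (.leaf ([])) (.leaf ([])))) (.node (.node (.leaf ([])) (.leaf ([]))) (.node (.leaf ([])) (.leaf ([]))))) (.node (.node (.node (.node (.leaf ([])) (.leaf ([]))) (.leaf ([]))) (.node (.leaf ([])) (.leaf ([])))) (.node (.node (.leaf ([])) (.leaf ([]))) (.node (.leaf ([])) (.leaf ([]))))))) (.node (.node (.node (.node (.node (.node (.leaf ([])) (.leaf ([]))) (.leaf ([]))) (.node (.leaf ([])) (.leaf ([])))) (.node (.node (.leaf ([])) (.leaf ([]))) (.node (.leaf ([])) (.leaf ([]))))) (.node (.node (.node (.node (.leaf ([])) (.leaf ([]))) (.leaf ([]))) (.node (.leaf ([])) (.leaf ([])))) (.node (.node (.leaf ([])) (.leaf ([]))) (.node (.leaf ([])) (.leaf ([])))))) (.node (.node (.node (.node (.node (.leaf ([])) (.leaf ([]))) (.leaf ([]))) (.node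 (.leaf ([])) (.leaf ([])))) (.node (.node (.leaf ([])) (.leaf ([]))) (.node (.leaf ([])) (.leaf ([]))))) (.node (.node (.node (.node (.leaf ([])) (.leaf ([]))) (.leaf ([]))) (.node (.leaf ([])) (.leaf ([])))) (.node (.node (.leaf ([])) (.leaf ([]))) (.node (.leaf ([])) (.leaf ([])))))))) (.node (.node (.node (.node (.node (.node (.node (.leaf ([])) (.leaf ([]))) (.leaf ([]))) (.node (.leaf ([])) (.leaf ([])))) (.node (.node (.leaf ([])) (.leaf ([]))) (.node (.leaf ([])) (.leaf ([]))))) (.node (.node (.node (.node (.leaf ([])) (.leaf ([]))) (.leaf ([]))) (.node (.leaf ([])) (.leaf ([])))) (.node (.node (.leaf ([])) (.leaf ([]))) (.node (.leaf ([])) (.leaf ([])))))) (.node (.node (.node (.node (.node (.leaf ([])) (.leaf ([]))) (.leaf ([]))) (.node (.leaf ([])) (.leaf ([])))) (.node (.node (.leaf ([])) (.leaf ([]))) (.node (.leaf ([])) (.leaf ([]))))) (.node (.node (.node (.node (.leaf ([])) (.leaf ([]))) (.leaf ([]))) (.node (.leaf ([])) (.leaf ([])))) (.node (.node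 (.leaf ([])) (.leaf ([]))) (.node (.leaf ([])) (.leaf ([]))))))) (.node (.node (.node (.node (.node (.node (.leaf ([])) (.leaf ([]))) (.leaf ([]))) (.node (.leaf ([])) (.leaf ([])))) (.node (.node (.leaf ([])) (.leaf ([]))) (.node (.leaf ([])) (.leaf ([]))))) (.node (.node (.node (.node (.leaf ([])) (.leaf ([]))) (.leaf ([]))) (.node (.leaf ([])) (.leaf ([])))) (.node (.node (.leaf ([])) (.leaf ([]))) (.node (.leaf ([])) (.leaf ([])))))) (.node (.node (.node (.node (.node (.leaf ([])) (.leaf ([]))) (.leaf ([]))) (.node (.leaf ([])) (.leaf ([])))) (.node (.node (.leaf ([])) (.leaf ([]))) (.node (.leaf ([])) (.leaf ([]))))) (.node (.node (.node (.node (.leaf ([])) (.leaf ([]))) (.leaf ([]))) (.node (.leaf ([])) (.leaf ([])))) (.node (.node (.leaf ([])) (.leaf ([]))) (.node (.leaf ([])) (.leaf ([]))))))))) (.node (.node (.node (.node (.node (.node (.node (.node (.leaf ([])) (.leaf ([]))) (.leaf ([]))) (.node (.leaf ([])) (.leaf ([])))) (.node (.node (.leaf ([])) (.leaf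 ([]))) (.node (.leaf ([])) (.leaf ([]))))) (.node (.node (.node (.node (.leaf ([])) (.leaf ([]))) (.leaf ([]))) (.node (.leaf ([])) (.leaf ([])))) (.node (.node (.leaf ([])) (.leaf ([]))) (.node (.leaf ([])) (.leaf ([])))))) (.node (.node (.node (.node (.node (.leaf ([])) (.leaf ([]))) (.leaf ([]))) (.node (.leaf ([])) (.leaf ([])))) (.node (.node (.leaf ([])) (.leaf ([]))) (.node (.leaf ([])) (.leaf ([]))))) (.node (.node (.node (.node (.leaf ([])) (.leaf ([]))) (.leaf ([]))) (.node (.leaf ([])) (.leaf ([])))) (.node (.node (.leaf ([])) (.leaf ([]))) (.node (.leaf ([])) (.leaf ([]))))))) (.node (.node (.node (.node (.node (.node (.leaf ([])) (.leaf ([]))) (.leaf ([]))) (.node (.leaf ([])) (.leaf ([])))) (.node (.node (.leaf ([])) (.leaf ([]))) (.node (.leaf ([])) (.leaf ([]))))) (.node (.node (.node (.node (.leaf ([])) (.leaf ([]))) (.leaf ([]))) (.node (.leaf ([])) (.leaf ([])))) (.node (.node (.leaf ([])) (.leaf ([]))) (.node (.leaf ([])) (.leaf ([])))))) (.node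 (.node (.node (.node (.node (.leaf ([])) (.leaf ([]))) (.leaf ([]))) (.node (.leaf ([])) (.leaf ([])))) (.node (.node (.leaf ([])) (.leaf ([]))) (.node (.leaf ([])) (.leaf ([]))))) (.node (.node (.node (.node (.leaf ([])) (.leaf ([]))) (.leaf ([]))) (.node (.leaf ([])) (.leaf ([])))) (.node (.node (.leaf ([])) (.leaf ([]))) (.node (.leaf ([])) (.leaf ([])))))))) (.node (.node (.node (.node (.node (.node (.node (.leaf ([])) (.leaf ([]))) (.leaf ([]))) (.node (.leaf ([])) (.leaf ([])))) (.node (.node (.leaf ([])) (.leaf ([]))) (.node (.leaf ([])) (.leaf ([]))))) (.node (.node (.node (.node (.leaf ([])) (.leaf ([]))) (.leaf ([]))) (.node (.leaf ([])) (.leaf ([])))) (.node (.node (.leaf ([])) (.leaf ([]))) (.node (.leaf ([])) (.leaf ([])))))) (.node (.node (.node (.node (.node (.leaf ([])) (.leaf ([]))) (.leaf ([]))) (.node (.leaf ([])) (.leaf ([])))) (.node (.node (.leaf ([])) (.leaf ([]))) (.node (.leaf ([])) (.leaf ([]))))) (.node (.node (.node (.node (.leaf ([]))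 (.leaf ([]))) (.leaf ([]))) (.node (.leaf ([])) (.leaf ([])))) (.node (.node (.leaf ([])) (.leaf ([]))) (.node (.leaf ([])) (.leaf ([]))))))) (.node (.node (.node (.node (.node (.node (.leaf ([])) (.leaf ([]))) (.leaf ([]))) (.node (.leaf ([])) (.leaf ([])))) (.node (.node (.leaf ([])) (.leaf ([]))) (.node (.leaf ([])) (.leaf ([]))))) (.node (.node (.node (.node (.leaf ([])) (.leaf ([]))) (.leaf ([]))) (.node (.leaf ([])) (.leaf ([])))) (.node (.node (.leaf ([])) (.leaf ([]))) (.node (.leaf ([])) (.leaf ([])))))) (.node (.node (.node (.node (.node (.leaf ([])) (.leaf ([]))) (.leaf ([]))) (.node (.leaf ([])) (.leaf ([])))) (.node (.node (.leaf ([])) (.leaf ([]))) (.node (.leaf ([])) (.leaf ([]))))) (.node (.node (.node (.node (.leaf ([])) (.leaf ([]))) (.leaf ([]))) (.node (.leaf ([])) (.leaf ([])))) (.node (.node (.leaf ([])) (.leaf ([]))) (.node (.leaf ([])) (.leaf ([])))))))))))) (.node (.node (.node (.node (.node (.node (.node (.node (.node (.node (.node (.leaf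 ([])) (.leaf ([]))) (.leaf ([]))) (.node (.leaf ([])) (.leaf ([])))) (.node (.node (.leaf ([])) (.leaf ([]))) (.node (.leaf ([])) (.leaf ([]))))) (.node (.node (.node (.node (.leaf ([])) (.leaf ([]))) (.leaf ([]))) (.node (.leaf ([])) (.leaf ([])))) (.node (.node (.leaf ([])) (.leaf ([]))) (.node (.leaf ([])) (.leaf ([])))))) (.node (.node (.node (.node (.node (.leaf ([])) (.leaf ([]))) (.leaf ([]))) (.node (.leaf ([])) (.leaf ([])))) (.node (.node (.leaf ([])) (.leaf ([]))) (.node (.leaf ([])) (.leaf ([]))))) (.node (.node (.node (.node (.leaf ([])) (.leaf ([]))) (.leaf ([]))) (.node (.leaf ([])) (.leaf ([])))) (.node (.node (.leaf ([])) (.leaf ([]))) (.node (.leaf ([])) (.leaf ([]))))))) (.node (.node (.node (.node (.node (.node (.leaf ([])) (.leaf ([]))) (.leaf ([]))) (.node (.leaf ([])) (.leaf ([])))) (.node (.node (.leaf ([])) (.leaf ([]))) (.node (.leaf ([])) (.leaf ([]))))) (.node (.node (.node (.node (.leaf ([])) (.leaf ([]))) (.leaf ([]))) (.node (.leaf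 ([])) (.leaf ([])))) (.node (.node (.leaf ([])) (.leaf ([]))) (.node (.leaf ([])) (.leaf ([])))))) (.node (.node (.node (.node (.node (.leaf ([])) (.leaf ([]))) (.leaf ([]))) (.node (.leaf ([])) (.leaf ([])))) (.node (.node (.leaf ([])) (.leaf ([]))) (.node (.leaf ([])) (.leaf ([]))))) (.node (.node (.node (.node (.leaf ([])) (.leaf ([]))) (.leaf ([]))) (.node (.leaf ([])) (.leaf ([])))) (.node (.node (.leaf ([])) (.leaf ([]))) (.node (.leaf ([])) (.leaf ([])))))))) (.node (.node (.node (.node (.node (.node (.node (.leaf ([])) (.leaf ([]))) (.leaf ([]))) (.node (.leaf ([])) (.leaf ([])))) (.node (.node (.leaf ([])) (.leaf ([]))) (.node (.leaf ([])) (.leaf ([]))))) (.node (.node (.node (.node (.leaf ([])) (.leaf ([]))) (.leaf ([]))) (.node (.leaf ([])) (.leaf ([])))) (.node (.node (.leaf ([])) (.leaf ([]))) (.node (.leaf ([])) (.leaf ([])))))) (.node (.node (.node (.node (.node (.leaf ([])) (.leaf ([]))) (.leaf ([]))) (.node (.leaf ([])) (.leaf ([])))) (.node (.node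 (.leaf ([])) (.leaf ([]))) (.node (.leaf ([])) (.leaf ([]))))) (.node (.node (.node (.node (.leaf ([])) (.leaf ([]))) (.leaf ([]))) (.node (.leaf ([])) (.leaf ([])))) (.node (.node (.leaf ([])) (.leaf ([]))) (.node (.leaf ([])) (.leaf ([]))))))) (.node (.node (.node (.node (.node (.node (.leaf ([])) (.leaf ([]))) (.leaf ([]))) (.node (.leaf ([])) (.leaf ([])))) (.node (.node (.leaf ([])) (.leaf ([]))) (.node (.leaf ([])) (.leaf ([]))))) (.node (.node (.node (.node (.leaf ([])) (.leaf ([]))) (.leaf ([]))) (.node (.leaf ([])) (.leaf ([])))) (.node (.node (.leaf ([])) (.leaf ([]))) (.node (.leaf ([])) (.leaf ([])))))) (.node (.node (.node (.node (.node (.leaf ([])) (.leaf ([]))) (.leaf ([]))) (.node (.leaf ([])) (.leaf ([])))) (.node (.node (.leaf ([])) (.leaf ([]))) (.node (.leaf ([])) (.leaf ([]))))) (.node (.node (.node (.node (.leaf ([])) (.leaf ([]))) (.leaf ([]))) (.node (.leaf ([])) (.leaf ([])))) (.node (.node (.leaf ([])) (.leaf ([]))) (.node (.leaf ([]))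 (.leaf ([]))))))))) (.node (.node (.node (.node (.node (.node (.node (.node (.leaf ([])) (.leaf ([]))) (.leaf ([]))) (.node (.leaf ([])) (.leaf ([])))) (.node (.node (.leaf ([])) (.leaf ([]))) (.node (.leaf ([])) (.leaf ([]))))) (.node (.node (.node (.node (.leaf ([])) (.leaf ([]))) (.leaf ([]))) (.node (.leaf ([])) (.leaf ([])))) (.node (.node (.leaf ([])) (.leaf ([]))) (.node (.leaf ([])) (.leaf ([])))))) (.node (.node (.node (.node (.node (.leaf ([])) (.leaf ([]))) (.leaf ([]))) (.node (.leaf ([])) (.leaf ([])))) (.node (.node (.leaf ([])) (.leaf ([]))) (.node (.leaf ([])) (.leaf ([]))))) (.node (.node (.node (.node (.leaf ([])) (.leaf ([]))) (.leaf ([]))) (.node (.leaf ([])) (.leaf ([])))) (.node (.node (.leaf ([])) (.leaf ([]))) (.node (.leaf ([])) (.leaf ([]))))))) (.node (.node (.node (.node (.node (.node (.leaf ([])) (.leaf ([]))) (.leaf ([]))) (.node (.leaf ([])) (.leaf ([])))) (.node (.node (.leaf ([])) (.leaf ([]))) (.node (.leaf ([])) (.leaf ([])))))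 (.node (.node (.node (.node (.leaf ([])) (.leaf ([]))) (.leaf ([]))) (.node (.leaf ([])) (.leaf ([])))) (.node (.node (.leaf ([])) (.leaf ([]))) (.node (.leaf ([])) (.leaf ([])))))) (.node (.node (.node (.node (.node (.leaf ([])) (.leaf ([]))) (.leaf ([]))) (.node (.leaf ([])) (.leaf ([])))) (.node (.node (.leaf ([])) (.leaf ([]))) (.node (.leaf ([])) (.leaf ([]))))) (.node (.node (.node (.node (.leaf ([])) (.leaf ([]))) (.leaf ([]))) (.node (.leaf ([])) (.leaf ([])))) (.node (.node (.leaf ([])) (.leaf ([]))) (.node (.leaf ([])) (.leaf ([])))))))) (.node (.node (.node (.node (.node (.node (.node (.leaf ([])) (.leaf ([]))) (.leaf ([]))) (.node (.leaf ([])) (.leaf ([])))) (.node (.node (.leaf ([])) (.leaf ([]))) (.node (.leaf ([])) (.leaf ([]))))) (.node (.node (.node (.node (.leaf ([])) (.leaf ([]))) (.leaf ([]))) (.node (.leaf ([])) (.leaf ([])))) (.node (.node (.leaf ([])) (.leaf ([]))) (.node (.leaf ([])) (.leaf ([])))))) (.node (.node (.node (.node (.node (.leaf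 ([])) (.leaf ([]))) (.leaf ([]))) (.node (.leaf ([])) (.leaf ([])))) (.node (.node (.leaf ([])) (.leaf ([]))) (.node (.leaf ([])) (.leaf ([]))))) (.node (.node (.node (.node (.leaf ([])) (.leaf ([]))) (.leaf ([]))) (.node (.leaf ([])) (.leaf ([])))) (.node (.node (.leaf ([])) (.leaf ([]))) (.node (.leaf ([])) (.leaf ([]))))))) (.node (.node (.node (.node (.node (.node (.leaf ([])) (.leaf ([]))) (.leaf ([]))) (.node (.leaf ([])) (.leaf ([])))) (.node (.node (.leaf ([])) (.leaf ([]))) (.node (.leaf ([])) (.leaf ([]))))) (.node (.node (.node (.node (.leaf ([])) (.leaf ([]))) (.leaf ([]))) (.node (.leaf ([])) (.leaf ([])))) (.node (.node (.leaf ([])) (.leaf ([]))) (.node (.leaf ([])) (.leaf ([])))))) (.node (.node (.node (.node (.node (.leaf ([])) (.leaf ([]))) (.leaf ([]))) (.node (.leaf ([])) (.leaf ([])))) (.node (.node (.leaf ([])) (.leaf ([]))) (.node (.leaf ([])) (.leaf ([]))))) (.node (.node (.node (.node (.leaf ([])) (.leaf ([]))) (.leaf ([]))) (.node (.leaf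 ([])) (.leaf ([])))) (.node (.node (.leaf ([])) (.leaf ([]))) (.node (.leaf ([])) (.leaf ([])))))))))) (.node (.node (.node (.node (.node (.node (.node (.node (.node (.leaf ([])) (.leaf ([]))) (.leaf ([]))) (.node (.leaf ([])) (.leaf ([])))) (.node (.node (.leaf ([])) (.leaf ([]))) (.node (.leaf ([])) (.leaf ([]))))) (.node (.node (.node (.node (.leaf ([])) (.leaf ([]))) (.leaf ([]))) (.node (.leaf ([])) (.leaf ([])))) (.node (.node (.leaf ([])) (.leaf ([]))) (.node (.leaf ([])) (.leaf ([])))))) (.node (.node (.node (.node (.node (.leaf ([])) (.leaf ([]))) (.leaf ([]))) (.node (.leaf ([])) (.leaf ([])))) (.node (.node (.leaf ([])) (.leaf ([]))) (.node (.leaf ([])) (.leaf ([]))))) (.node (.node (.node (.node (.leaf ([])) (.leaf ([]))) (.leaf ([]))) (.node (.leaf ([])) (.leaf ([])))) (.node (.node (.leaf ([])) (.leaf ([]))) (.node (.leaf ([])) (.leaf ([]))))))) (.node (.node (.node (.node (.node (.node (.leaf ([])) (.leaf ([]))) (.leaf ([]))) (.node (.leaf ([])) (.leaf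 ([])))) (.node (.node (.leaf ([])) (.leaf ([]))) (.node (.leaf ([])) (.leaf ([]))))) (.node (.node (.node (.node (.leaf ([])) (.leaf ([]))) (.leaf ([]))) (.node (.leaf ([])) (.leaf ([])))) (.node (.node (.leaf ([])) (.leaf ([]))) (.node (.leaf ([])) (.leaf ([])))))) (.node (.node (.node (.node (.node (.leaf ([])) (.leaf ([]))) (.leaf ([]))) (.node (.leaf ([])) (.leaf ([])))) (.node (.node (.leaf ([])) (.leaf ([]))) (.node (.leaf ([])) (.leaf ([]))))) (.node (.node (.node (.node (.leaf ([])) (.leaf ([]))) (.leaf ([]))) (.node (.leaf ([])) (.leaf ([])))) (.node (.node (.leaf ([])) (.leaf ([]))) (.node (.leaf ([])) (.leaf ([])))))))) (.node (.node (.node (.node (.node (.node (.node (.leaf ([])) (.leaf ([]))) (.leaf ([]))) (.node (.leaf ([])) (.leaf ([])))) (.node (.node (.leaf ([])) (.leaf ([]))) (.node (.leaf ([])) (.leaf ([]))))) (.node (.node (.node (.node (.leaf ([])) (.leaf ([]))) (.leaf ([]))) (.node (.leaf ([])) (.leaf ([])))) (.node (.node (.leaf ([])) (.leaf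 ([]))) (.node (.leaf ([])) (.leaf ([])))))) (.node (.node (.node (.node (.node (.leaf ([])) (.leaf ([]))) (.leaf ([]))) (.node (.leaf ([])) (.leaf ([])))) (.node (.node (.leaf ([])) (.leaf ([]))) (.node (.leaf ([])) (.leaf ([]))))) (.node (.node (.node (.node (.leaf ([])) (.leaf ([]))) (.leaf ([]))) (.node (.leaf ([])) (.leaf ([])))) (.node (.node (.leaf ([])) (.leaf ([]))) (.node (.leaf ([])) (.leaf ([]))))))) (.node (.node (.node (.node (.node (.node (.leaf ([])) (.leaf ([]))) (.leaf ([]))) (.node (.leaf ([])) (.leaf ([])))) (.node (.node (.leaf ([])) (.leaf ([]))) (.node (.leaf ([])) (.leaf ([]))))) (.node (.node (.node (.node (.leaf ([])) (.leaf ([]))) (.leaf ([]))) (.node (.leaf ([])) (.leaf ([])))) (.node (.node (.leaf ([])) (.leaf ([]))) (.node (.leaf ([])) (.leaf ([])))))) (.node (.node (.node (.node (.node (.leaf ([])) (.leaf ([]))) (.leaf ([]))) (.node (.leaf ([])) (.leaf ([])))) (.node (.node (.leaf ([])) (.leaf ([]))) (.node (.leaf ([])) (.leaf ([])))))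 (.node (.node (.node (.node (.leaf ([])) (.leaf ([]))) (.leaf ([]))) (.node (.leaf ([])) (.leaf ([])))) (.node (.node (.leaf ([])) (.leaf ([]))) (.node (.leaf ([])) (.leaf ([]))))))))) (.node (.node (.node (.node (.node (.node (.node (.node (.leaf ([])) (.leaf ([]))) (.leaf ([]))) (.node (.leaf ([])) (.leaf ([])))) (.node (.node (.leaf ([])) (.leaf ([]))) (.node (.leaf ([])) (.leaf ([]))))) (.node (.node (.node (.node (.leaf ([])) (.leaf ([]))) (.leaf ([]))) (.node (.leaf ([])) (.leaf ([])))) (.node (.node (.leaf ([])) (.leaf ([]))) (.node (.leaf ([])) (.leaf ([])))))) (.node (.node (.node (.node (.node (.leaf ([])) (.leaf ([]))) (.leaf ([]))) (.node (.leaf ([])) (.leaf ([])))) (.node (.node (.leaf ([])) (.leaf ([]))) (.node (.leaf ([])) (.leaf ([]))))) (.node (.node (.node (.node (.leaf ([])) (.leaf ([]))) (.leaf ([]))) (.node (.leaf ([])) (.leaf ([])))) (.node (.node (.leaf ([])) (.leaf ([]))) (.node (.leaf ([])) (.leaf ([]))))))) (.node (.node (.node (.node (.node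 (.node (.leaf ([])) (.leaf ([]))) (.leaf ([]))) (.node (.leaf ([])) (.leaf ([])))) (.node (.node (.leaf ([])) (.leaf ([]))) (.node (.leaf ([])) (.leaf ([]))))) (.node (.node (.node (.node (.leaf ([])) (.leaf ([]))) (.leaf ([]))) (.node (.leaf ([])) (.leaf ([])))) (.node (.node (.leaf ([])) (.leaf ([]))) (.node (.leaf ([])) (.leaf ([])))))) (.node (.node (.node (.node (.node (.leaf ([])) (.leaf ([]))) (.leaf ([]))) (.node (.leaf ([])) (.leaf ([])))) (.node (.node (.leaf ([])) (.leaf ([]))) (.node (.leaf ([])) (.leaf ([]))))) (.node (.node (.node (.node (.leaf ([])) (.leaf ([]))) (.leaf ([]))) (.node (.leaf ([])) (.leaf ([])))) (.node (.node (.leaf ([])) (.leaf ([]))) (.node (.leaf ([])) (.leaf ([])))))))) (.node (.node (.node (.node (.node (.node (.node (.leaf ([])) (.leaf ([]))) (.leaf ([]))) (.node (.leaf ([])) (.leaf ([])))) (.node (.node (.leaf ([])) (.leaf ([]))) (.node (.leaf ([])) (.leaf ([]))))) (.node (.node (.node (.node (.leaf ([])) (.leaf ([]))) (.leaf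 ([]))) (.node (.leaf ([])) (.leaf ([])))) (.node (.node (.leaf ([])) (.leaf ([]))) (.node (.leaf ([])) (.leaf ([])))))) (.node (.node (.node (.node (.node (.leaf ([])) (.leaf ([]))) (.leaf ([]))) (.node (.leaf ([])) (.leaf ([])))) (.node (.node (.leaf ([])) (.leaf ([]))) (.node (.leaf ([])) (.leaf ([]))))) (.node (.node (.node (.node (.leaf ([])) (.leaf ([]))) (.leaf ([]))) (.node (.leaf ([])) (.leaf ([])))) (.node (.node (.leaf ([])) (.leaf ([]))) (.node (.leaf ([])) (.leaf ([]))))))) (.node (.node (.node (.node (.node (.node (.leaf ([])) (.leaf ([]))) (.leaf ([]))) (.node (.leaf ([])) (.leaf ([])))) (.node (.node (.leaf ([])) (.leaf ([]))) (.node (.leaf ([])) (.leaf ([]))))) (.node (.node (.node (.node (.leaf ([])) (.leaf ([]))) (.leaf ([]))) (.node (.leaf ([])) (.leaf ([])))) (.node (.node (.leaf ([])) (.leaf ([]))) (.node (.leaf ([])) (.leaf ([])))))) (.node (.node (.node (.node (.node (.leaf ([])) (.leaf ([]))) (.leaf ([]))) (.node (.leaf ([])) (.leaf ([]))))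 (.node (.node (.leaf ([])) (.leaf ([]))) (.node (.leaf ([])) (.leaf ([]))))) (.node (.node (.node (.node (.leaf ([])) (.leaf ([]))) (.leaf ([]))) (.node (.leaf ([])) (.leaf ([])))) (.node (.node (.leaf ([])) (.leaf ([]))) (.node (.leaf ([])) (.leaf ([]))))))))))) (.node (.node (.node (.node (.node (.node (.node (.node (.node (.node (.leaf ([])) (.leaf ([]))) (.leaf ([]))) (.node (.leaf ([])) (.leaf ([])))) (.node (.node (.leaf ([])) (.leaf ([]))) (.node (.leaf ([])) (.leaf ([]))))) (.node (.node (.node (.node (.leaf ([])) (.leaf ([]))) (.leaf ([]))) (.node (.leaf ([])) (.leaf ([])))) (.node (.node (.leaf ([])) (.leaf ([]))) (.node (.leaf ([])) (.leaf ([])))))) (.node (.node (.node (.node (.node (.leaf ([])) (.leaf ([]))) (.leaf ([]))) (.node (.leaf ([])) (.leaf ([])))) (.node (.node (.leaf ([])) (.leaf ([]))) (.node (.leaf ([])) (.leaf ([]))))) (.node (.node (.node (.node (.leaf ([])) (.leaf ([]))) (.leaf ([]))) (.node (.leaf ([])) (.leaf ([])))) (.node (.node (.leaf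 ([])) (.leaf ([]))) (.node (.leaf ([])) (.leaf ([]))))))) (.node (.node (.node (.node (.node (.node (.leaf ([])) (.leaf ([]))) (.leaf ([]))) (.node (.leaf ([])) (.leaf ([])))) (.node (.node (.leaf ([])) (.leaf ([]))) (.node (.leaf ([])) (.leaf ([]))))) (.node (.node (.node (.node (.leaf ([])) (.leaf ([]))) (.leaf ([]))) (.node (.leaf ([])) (.leaf ([])))) (.node (.node (.leaf ([])) (.leaf ([]))) (.node (.leaf ([])) (.leaf ([])))))) (.node (.node (.node (.node (.node (.leaf ([])) (.leaf ([]))) (.leaf ([]))) (.node (.leaf ([])) (.leaf ([])))) (.node (.node (.leaf ([])) (.leaf ([]))) (.node (.leaf ([])) (.leaf ([]))))) (.node (.node (.node (.node (.leaf ([])) (.leaf ([]))) (.leaf ([]))) (.node (.leaf ([])) (.leaf ([])))) (.node (.node (.leaf ([])) (.leaf ([]))) (.node (.leaf ([])) (.leaf ([])))))))) (.node (.node (.node (.node (.node (.node (.node (.leaf ([])) (.leaf ([]))) (.leaf ([]))) (.node (.leaf ([])) (.leaf ([])))) (.node (.node (.leaf ([])) (.leaf ([]))) (.node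 (.leaf ([])) (.leaf ([]))))) (.node (.node (.node (.node (.leaf ([])) (.leaf ([]))) (.leaf ([]))) (.node (.leaf ([])) (.leaf ([])))) (.node (.node (.leaf ([])) (.leaf ([]))) (.node (.leaf ([])) (.leaf ([])))))) (.node (.node (.node (.node (.node (.leaf ([])) (.leaf ([]))) (.leaf ([]))) (.node (.leaf ([])) (.leaf ([])))) (.node (.node (.leaf ([])) (.leaf ([]))) (.node (.leaf ([])) (.leaf ([]))))) (.node (.node (.node (.node (.leaf ([])) (.leaf ([]))) (.leaf ([]))) (.node (.leaf ([])) (.leaf ([])))) (.node (.node (.leaf ([])) (.leaf ([]))) (.node (.leaf ([])) (.leaf ([]))))))) (.node (.node (.node (.node (.node (.node (.leaf ([])) (.leaf ([]))) (.leaf ([]))) (.node (.leaf ([])) (.leaf ([])))) (.node (.node (.leaf ([])) (.leaf ([]))) (.node (.leaf ([])) (.leaf ([]))))) (.node (.node (.node (.node (.leaf ([])) (.leaf ([]))) (.leaf ([]))) (.node (.leaf ([])) (.leaf ([])))) (.node (.node (.leaf ([])) (.leaf ([]))) (.node (.leaf ([])) (.leaf ([])))))) (.node (.node (.node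 (.node (.node (.leaf ([])) (.leaf ([]))) (.leaf ([]))) (.node (.leaf ([])) (.leaf ([])))) (.node (.node (.leaf ([])) (.leaf ([]))) (.node (.leaf ([])) (.leaf ([]))))) (.node (.node (.node (.node (.leaf ([])) (.leaf ([]))) (.leaf ([]))) (.node (.leaf ([])) (.leaf ([])))) (.node (.node (.leaf ([])) (.leaf ([]))) (.node (.leaf ([])) (.leaf ([]))))))))) (.node (.node (.node (.node (.node (.node (.node (.node (.leaf ([])) (.leaf ([]))) (.leaf ([]))) (.node (.leaf ([])) (.leaf ([])))) (.node (.node (.leaf ([])) (.leaf ([]))) (.node (.leaf ([])) (.leaf ([]))))) (.node (.node (.node (.node (.leaf ([])) (.leaf ([]))) (.leaf ([]))) (.node (.leaf ([])) (.leaf ([])))) (.node (.node (.leaf ([])) (.leaf ([]))) (.node (.leaf ([])) (.leaf ([])))))) (.node (.node (.node (.node (.node (.leaf ([])) (.leaf ([]))) (.leaf ([]))) (.node (.leaf ([])) (.leaf ([])))) (.node (.node (.leaf ([])) (.leaf ([]))) (.node (.leaf ([])) (.leaf ([]))))) (.node (.node (.node (.node (.leaf ([])) (.leaf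 ([]))) (.leaf ([]))) (.node (.leaf ([])) (.leaf ([])))) (.node (.node (.leaf ([])) (.leaf ([]))) (.node (.leaf ([])) (.leaf ([]))))))) (.node (.node (.node (.node (.node (.node (.leaf ([])) (.leaf ([]))) (.leaf ([]))) (.node (.leaf ([])) (.leaf ([])))) (.node (.node (.leaf ([])) (.leaf ([]))) (.node (.leaf ([])) (.leaf ([]))))) (.node (.node (.node (.node (.leaf ([])) (.leaf ([]))) (.leaf ([]))) (.node (.leaf ([])) (.leaf ([])))) (.node (.node (.leaf ([])) (.leaf ([]))) (.node (.leaf ([])) (.leaf ([])))))) (.node (.node (.node (.node (.node (.leaf ([])) (.leaf ([]))) (.leaf ([]))) (.node (.leaf ([])) (.leaf ([])))) (.node (.node (.leaf ([])) (.leaf ([]))) (.node (.leaf ([])) (.leaf ([]))))) (.node (.node (.node (.node (.leaf ([])) (.leaf ([]))) (.leaf ([]))) (.node (.leaf ([])) (.leaf ([])))) (.node (.node (.leaf ([])) (.leaf ([]))) (.node (.leaf ([])) (.leaf ([])))))))) (.node (.node (.node (.node (.node (.node (.node (.leaf ([])) (.leaf ([]))) (.leaf ([]))) (.node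 (.leaf ([])) (.leaf ([])))) (.node (.node (.leaf ([])) (.leaf ([]))) (.node (.leaf ([])) (.leaf ([]))))) (.node (.node (.node (.node (.leaf ([])) (.leaf ([]))) (.leaf ([]))) (.node (.leaf ([])) (.leaf ([])))) (.node (.node (.leaf ([])) (.leaf ([]))) (.node (.leaf ([])) (.leaf ([])))))) (.node (.node (.node (.node (.node (.leaf ([])) (.leaf ([]))) (.leaf ([]))) (.node (.leaf ([])) (.leaf ([])))) (.node (.node (.leaf ([])) (.leaf ([]))) (.node (.leaf ([])) (.leaf ([]))))) (.node (.node (.node (.node (.leaf ([])) (.leaf ([]))) (.leaf ([]))) (.node (.leaf ([])) (.leaf ([])))) (.node (.node (.leaf ([])) (.leaf ([]))) (.node (.leaf ([])) (.leaf ([]))))))) (.node (.node (.node (.node (.node (.node (.leaf ([])) (.leaf ([]))) (.leaf ([]))) (.node (.leaf ([])) (.leaf ([])))) (.node (.node (.leaf ([])) (.leaf ([]))) (.node (.leaf ([])) (.leaf ([]))))) (.node (.node (.node (.node (.leaf ([])) (.leaf ([]))) (.leaf ([]))) (.node (.leaf ([])) (.leaf ([])))) (.node (.node (.leaf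 ([])) (.leaf ([]))) (.node (.leaf ([])) (.leaf ([])))))) (.node (.node (.node (.node (.node (.leaf ([])) (.leaf ([]))) (.leaf ([]))) (.node (.leaf ([])) (.leaf ([])))) (.node (.node (.leaf ([])) (.leaf ([]))) (.node (.leaf ([])) (.leaf ([]))))) (.node (.node (.node (.node (.leaf ([])) (.leaf ([]))) (.leaf ([]))) (.node (.leaf ([])) (.leaf ([])))) (.node (.node (.leaf ([])) (.leaf ([]))) (.node (.leaf ([])) (.leaf ([])))))))))) (.node (.node (.node (.node (.node (.node (.node (.node (.node (.leaf ([])) (.leaf ([]))) (.leaf ([]))) (.node (.leaf ([])) (.leaf ([])))) (.node (.node (.leaf ([])) (.leaf ([]))) (.node (.leaf ([])) (.leaf ([]))))) (.node (.node (.node (.node (.leaf ([])) (.leaf ([]))) (.leaf ([]))) (.node (.leaf ([])) (.leaf ([])))) (.node (.node (.leaf ([])) (.leaf ([]))) (.node (.leaf ([])) (.leaf ([])))))) (.node (.node (.node (.node (.node (.leaf ([])) (.leaf ([]))) (.leaf ([]))) (.node (.leaf ([])) (.leaf ([])))) (.node (.node (.leaf ([])) (.leaf ([])))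 (.node (.leaf ([])) (.leaf ([]))))) (.node (.node (.node (.node (.leaf ([])) (.leaf ([]))) (.leaf ([]))) (.node (.leaf ([])) (.leaf ([])))) (.node (.node (.leaf ([])) (.leaf ([]))) (.node (.leaf ([])) (.leaf ([]))))))) (.node (.node (.node (.node (.node (.node (.leaf ([])) (.leaf ([]))) (.leaf ([]))) (.node (.leaf ([])) (.leaf ([])))) (.node (.node (.leaf ([])) (.leaf ([]))) (.node (.leaf ([])) (.leaf ([]))))) (.node (.node (.node (.node (.leaf ([])) (.leaf ([]))) (.leaf ([]))) (.node (.leaf ([])) (.leaf ([])))) (.node (.node (.leaf ([])) (.leaf ([]))) (.node (.leaf ([])) (.leaf ([])))))) (.node (.node (.node (.node (.node (.leaf ([])) (.leaf ([]))) (.leaf ([]))) (.node (.leaf ([])) (.leaf ([])))) (.node (.node (.leaf ([])) (.leaf ([]))) (.node (.leaf ([])) (.leaf ([]))))) (.node (.node (.node (.node (.leaf ([])) (.leaf ([]))) (.leaf ([]))) (.node (.leaf ([])) (.leaf ([])))) (.node (.node (.leaf ([])) (.leaf ([]))) (.node (.leaf ([])) (.leaf ([])))))))) (.node (.node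 (.node (.node (.node (.node (.node (.leaf ([])) (.leaf ([]))) (.leaf ([]))) (.node (.leaf ([])) (.leaf ([])))) (.node (.node (.leaf ([])) (.leaf ([]))) (.node (.leaf ([])) (.leaf ([]))))) (.node (.node (.node (.node (.leaf ([])) (.leaf ([]))) (.leaf ([]))) (.node (.leaf ([])) (.leaf ([])))) (.node (.node (.leaf ([])) (.leaf ([]))) (.node (.leaf ([])) (.leaf ([])))))) (.node (.node (.node (.node (.node (.leaf ([])) (.leaf ([]))) (.leaf ([]))) (.node (.leaf ([])) (.leaf ([])))) (.node (.node (.leaf ([])) (.leaf ([]))) (.node (.leaf ([])) (.leaf ([]))))) (.node (.node (.node (.node (.leaf ([])) (.leaf ([]))) (.leaf ([]))) (.node (.leaf ([])) (.leaf ([])))) (.node (.node (.leaf ([])) (.leaf ([]))) (.node (.leaf ([])) (.leaf ([]))))))) (.node (.node (.node (.node (.node (.node (.leaf ([])) (.leaf ([]))) (.leaf ([]))) (.node (.leaf ([])) (.leaf ([])))) (.node (.node (.leaf ([])) (.leaf ([]))) (.node (.leaf ([])) (.leaf ([]))))) (.node (.node (.node (.node (.leaf ([]))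 (.leaf ([]))) (.leaf ([]))) (.node (.leaf ([])) (.leaf ([])))) (.node (.node (.leaf ([])) (.leaf ([]))) (.node (.leaf ([])) (.leaf ([])))))) (.node (.node (.node (.node (.node (.leaf ([])) (.leaf ([]))) (.leaf ([]))) (.node (.leaf ([])) (.leaf ([])))) (.node (.node (.leaf ([])) (.leaf ([]))) (.node (.leaf ([])) (.leaf ([]))))) (.node (.node (.node (.node (.leaf ([])) (.leaf ([]))) (.leaf ([]))) (.node (.leaf ([])) (.leaf ([])))) (.node (.node (.leaf ([])) (.leaf ([]))) (.node (.leaf ([])) (.leaf ([]))))))))) (.node (.node (.node (.node (.node (.node (.node (.node (.leaf ([])) (.leaf ([]))) (.leaf ([]))) (.node (.leaf ([])) (.leaf ([])))) (.node (.node (.leaf ([])) (.leaf ([]))) (.node (.leaf ([])) (.leaf ([]))))) (.node (.node (.node (.node (.leaf ([])) (.leaf ([]))) (.leaf ([]))) (.node (.leaf ([])) (.leaf ([])))) (.node (.node (.leaf ([])) (.leaf ([]))) (.node (.leaf ([])) (.leaf ([])))))) (.node (.node (.node (.node (.node (.leaf ([])) (.leaf ([]))) (.leaf ([])))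 (.node (.leaf ([])) (.leaf ([])))) (.node (.node (.leaf ([])) (.leaf ([]))) (.node (.leaf ([])) (.leaf ([]))))) (.node (.node (.node (.node (.leaf ([])) (.leaf ([]))) (.leaf ([]))) (.node (.leaf ([])) (.leaf ([])))) (.node (.node (.leaf ([])) (.leaf ([]))) (.node (.leaf ([])) (.leaf ([]))))))) (.node (.node (.node (.node (.node (.node (.leaf ([])) (.leaf ([]))) (.leaf ([]))) (.node (.leaf ([])) (.leaf ([])))) (.node (.node (.leaf ([])) (.leaf ([]))) (.node (.leaf ([])) (.leaf ([]))))) (.node (.node (.node (.node (.leaf ([])) (.leaf ([]))) (.leaf ([]))) (.node (.leaf ([])) (.leaf ([])))) (.node (.node (.leaf ([])) (.leaf ([]))) (.node (.leaf ([])) (.leaf ([])))))) (.node (.node (.node (.node (.node (.leaf ([])) (.leaf ([]))) (.leaf ([]))) (.node (.leaf ([])) (.leaf ([])))) (.node (.node (.leaf ([])) (.leaf ([]))) (.node (.leaf ([])) (.leaf ([]))))) (.node (.node (.node (.node (.leaf ([])) (.leaf ([]))) (.leaf ([]))) (.node (.leaf ([])) (.leaf ([])))) (.node (.node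 (.leaf ([])) (.leaf ([]))) (.node (.leaf ([])) (.leaf ([])))))))) (.node (.node (.node (.node (.node (.node (.node (.leaf ([])) (.leaf ([]))) (.leaf ([]))) (.node (.leaf ([])) (.leaf ([])))) (.node (.node (.leaf ([])) (.leaf ([]))) (.node (.leaf ([])) (.leaf ([]))))) (.node (.node (.node (.node (.leaf ([])) (.leaf ([]))) (.leaf ([]))) (.node (.leaf ([])) (.leaf ([])))) (.node (.node (.leaf ([])) (.leaf ([]))) (.node (.leaf ([])) (.leaf ([])))))) (.node (.node (.node (.node (.node (.leaf ([])) (.leaf ([]))) (.leaf ([]))) (.node (.leaf ([])) (.leaf ([])))) (.node (.node (.leaf ([])) (.leaf ([]))) (.node (.leaf ([])) (.leaf ([]))))) (.node (.node (.node (.node (.leaf ([])) (.leaf ([]))) (.leaf ([]))) (.node (.leaf ([])) (.leaf ([])))) (.node (.node (.leaf ([])) (.leaf ([]))) (.node (.leaf ([])) (.leaf ([]))))))) (.node (.node (.node (.node (.node (.node (.leaf ([])) (.leaf ([]))) (.leaf ([]))) (.node (.leaf ([])) (.leaf ([])))) (.node (.node (.leaf ([])) (.leaf ([])))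 (.node (.leaf ([])) (.leaf ([]))))) (.node (.node (.node (.node (.leaf ([])) (.leaf ([]))) (.leaf ([]))) (.node (.leaf ([])) (.leaf ([])))) (.node (.node (.leaf ([])) (.leaf ([]))) (.node (.leaf ([])) (.leaf ([])))))) (.node (.node (.node (.node (.node (.leaf ([])) (.leaf ([]))) (.leaf ([]))) (.node (.leaf ([])) (.leaf ([])))) (.node (.node (.leaf ([])) (.leaf ([]))) (.node (.leaf ([])) (.leaf ([]))))) (.node (.node (.node (.node (.leaf ([])) (.leaf ([]))) (.leaf ([]))) (.node (.leaf ([])) (.leaf ([])))) (.node (.node (.leaf ([])) (.leaf ([]))) (.node (.leaf ([])) (.leaf ([]))))))))))))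

/-- data -/
def val2 : Trie (Vec) := .node (.node (.node (.node (.node (.node (.node (.node (.node (.node (.node (.node (.leaf ([])) (.leaf ([]))) (.leaf ([]))) (.node (.leaf ([])) (.leaf ([])))) (.node (.node (.leaf ([])) (.leaf ([]))) (.node (.leaf ([])) (.leaf ([(-3), 2, (-4), (-3)]))))) (.node (.node (.node (.node (.leaf ([])) (.leaf ([16, (-6), 23, 2]))) (.leaf ([9, (-4), 11, 5]))) (.node (.leaf ([])) (.leaf ([3, (-1), 4, (-1)])))) (.node (.node (.leaf ([])) (.leaf ([4, (-1), 6, (-1)]))) (.node (.leaf ([])) (.leaf ([0, 0, (-1), 3])))))) (.node (.node (.node (.node (.node (.leaf ([])) (.leaf ([(-5), 2, (-7), (-4), (-3)]))) (.leaf ([]))) (.node (.leaf ([0, 0, (-1)])) (.leaf ([6, (-2), 9, 0, 2])))) (.node (.node (.leaf ([])) (.leaf ([(-13), 5, (-19), (-3), (-2)]))) (.node (.leaf ([3, (-1), 5, 4, 4])) (.leaf ([(-4), 1, (-9), 2, (-2)]))))) (.node (.node (.node (.node (.leaf ([])) (.leaf ([3, (-1), 4, 0, (-1)]))) (.leaf ([]))) (.node (.leaf ([])) (.leaf ([]))))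 (.node (.node (.leaf ([])) (.leaf ([0, 0, (-1)]))) (.node (.leaf ([])) (.leaf ([]))))))) (.node (.node (.node (.node (.node (.node (.leaf ([])) (.leaf ([(-3), 2, (-2), (-7), (-2)]))) (.leaf ([]))) (.node (.leaf ([])) (.leaf ([0, 0, (-1), 1])))) (.node (.node (.leaf ([0, 0, 0, 2, 2])) (.leaf ([3, (-1), 4, (-1)]))) (.node (.leaf ([])) (.leaf ([(-19), 8, (-25), (-9), (-2)]))))) (.node (.node (.node (.node (.leaf ([(-9), 4, (-11), (-5)])) (.leaf ([1]))) (.leaf ([20, (-7), 32, (-4)]))) (.node (.leaf ([5, (-2), 6])) (.leaf ([(-8), 4, (-11), (-4)])))) (.node (.node (.leaf ([(-7), 3, (-9), (-3)])) (.leaf ([]))) (.node (.leaf ([(-7), 3, (-9), (-2)])) (.leaf ([7, (-3), 8, 3])))))) (.node (.node (.node (.node (.node (.leaf ([])) (.leaf ([(-2), 1, (-3)]))) (.leaf ([]))) (.node (.leaf ([7, (-3), 9, 4])) (.leaf ([12, (-5), 15, 4])))) (.node (.node (.leaf ([])) (.leaf ([1, (-1), (-1), 7, 2]))) (.node (.leaf ([])) (.leaf ([0, 0, (-1), 2]))))) (.node (.node (.node (.node (.leaf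 ([])) (.leaf ([6, (-2), 10, (-4), (-2)]))) (.leaf ([3, (-1), 4, (-1), (-1)]))) (.node (.leaf ([(-11), 5, (-13), (-3), 4])) (.leaf ([(-3), 1, (-5), 1])))) (.node (.node (.leaf ([])) (.leaf ([3, (-1), 5, (-3), (-2)]))) (.node (.leaf ([(-7), 3, (-10), (-2)])) (.leaf ([(-12), 5, (-17), (-5), (-2)])))))))) (.node (.node (.node (.node (.node (.node (.node (.leaf ([])) (.leaf ([9, (-4), 10, 5, (-1)]))) (.leaf ([]))) (.node (.leaf ([])) (.leaf ([])))) (.node (.node (.leaf ([])) (.leaf ([3, (-1), 4]))) (.node (.leaf ([4, (-2), 3, 3])) (.leaf ([]))))) (.node (.node (.node (.node (.leaf ([])) (.leaf ([36, (-13), 56, (-5), (-1)]))) (.leaf ([(-2), 1, (-4)]))) (.node (.leaf ([])) (.leaf ([(-2), 1, (-3)])))) (.node (.node (.leaf ([])) (.leaf ([0, 0, 0, 1]))) (.node (.leaf ([])) (.leaf ([(-7), 3, (-10), (-4), (-1)])))))) (.node (.node (.node (.node (.node (.leaf ([])) (.leaf ([]))) (.leaf ([(-23), 10, (-29), (-11)]))) (.node (.leaf ([5, (-2), 7, 1])) (.leaf ([])))) (.node (.node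 (.leaf ([])) (.leaf ([]))) (.node (.leaf ([])) (.leaf ([(-5), 2, (-7), 0, 1]))))) (.node (.node (.node (.node (.leaf ([])) (.leaf ([(-2), 1, (-4)]))) (.leaf ([]))) (.node (.leaf ([])) (.leaf ([])))) (.node (.node (.leaf ([13, (-5), 19])) (.leaf ([2, (-1), 2, 3]))) (.node (.leaf ([(-7), 3, (-9), (-1), 1])) (.leaf ([1]))))))) (.node (.node (.node (.node (.node (.node (.leaf ([(-1), 0, (-3), 3])) (.leaf ([]))) (.leaf ([]))) (.node (.leaf ([0, 0, (-2), 3])) (.leaf ([])))) (.node (.node (.leaf ([1, 0, 1])) (.leaf ([1, 0, 1]))) (.node (.leaf ([5, (-2), 6, 1])) (.leaf ([5, (-2), 6, 3]))))) (.node (.node (.node (.node (.leaf ([0, 0, (-1)])) (.leaf ([5, (-2), 7, 0, (-1)]))) (.leaf ([]))) (.node (.leaf ([])) (.leaf ([2, (-1), 1, 0, (-2)])))) (.node (.node (.leaf ([])) (.leaf ([(-7), 3, (-10), (-1), 1]))) (.node (.leaf ([1, 0, 1, (-1), (-1)])) (.leaf ([4, (-1), 6, (-3), (-1)])))))) (.node (.node (.node (.node (.node (.leaf ([])) (.leaf ([13, (-5), 18, 4]))) (.leaf ([]))) (.node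 (.leaf ([(-5), 2, (-7)])) (.leaf ([(-6), 3, (-8), (-7), (-2)])))) (.node (.node (.leaf ([])) (.leaf ([]))) (.node (.leaf ([])) (.leaf ([(-12), 6, (-14), (-11), (-2)]))))) (.node (.node (.node (.node (.leaf ([2, 0, 4, (-3)])) (.leaf ([(-3), 1, (-7), 0, (-3)]))) (.leaf ([(-2), 1, (-3), 0, 1]))) (.node (.leaf ([])) (.leaf ([3, (-1), 4, 1, 1])))) (.node (.node (.leaf ([])) (.leaf ([]))) (.node (.leaf ([1])) (.leaf ([(-19), 6, (-34), 17, 7]))))))))) (.node (.node (.node (.node (.node (.node (.node (.node (.leaf ([])) (.leaf ([(-2), 0, (-6), 5]))) (.leaf ([(-5), 2, (-7)]))) (.node (.leaf ([0, 0, (-1), 2, 2])) (.leaf ([0, 0, (-1)])))) (.node (.node (.leaf ([1])) (.leaf ([(-2), 1, (-2), 0, 2]))) (.node (.leaf ([3, (-1), 4])) (.leaf ([12, (-5), 16, 5]))))) (.node (.node (.node (.node (.leaf ([])) (.leaf ([2, (-1), 2, 2]))) (.leaf ([2, (-1), 2, 5, 2]))) (.node (.leaf ([0, 0, (-1)])) (.leaf ([2, (-1), 2, 2])))) (.node (.node (.leaf ([(-7), 3, (-9), (-3)])) (.leaf ([]))) (.node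 (.leaf ([])) (.leaf ([13, (-5), 18, 3, 1])))))) (.node (.node (.node (.node (.node (.leaf ([])) (.leaf ([]))) (.leaf ([]))) (.node (.leaf ([])) (.leaf ([0, 0, (-1), (-2), (-2)])))) (.node (.node (.leaf ([])) (.leaf ([]))) (.node (.leaf ([(-7), 3, (-10), (-4)])) (.leaf ([(-9), 4, (-11), (-5), 1]))))) (.node (.node (.node (.node (.leaf ([])) (.leaf ([(-13), 6, (-17), (-5), 2]))) (.leaf ([]))) (.node (.leaf ([6, (-2), 9])) (.leaf ([])))) (.node (.node (.leaf ([5, (-2), 7, 1])) (.leaf ([(-6), 3, (-6), (-9), (-3)]))) (.node (.leaf ([])) (.leaf ([3, (-1), 3]))))))) (.node (.node (.node (.node (.node (.node (.leaf ([])) (.leaf ([3, (-1), 3, 0, (-1)]))) (.leaf ([]))) (.node (.leaf ([])) (.leaf ([0, 0, (-2), 2])))) (.node (.node (.leaf ([])) (.leaf ([(-11), 5, (-14), (-3), 2]))) (.node (.leaf ([])) (.leaf ([(-1), 1, 0, (-2), 3]))))) (.node (.node (.node (.node (.leaf ([])) (.leaf ([0, 0, (-1)]))) (.leaf ([]))) (.node (.leaf ([3, (-1), 3])) (.leaf ([0, 0, (-1), (-2), (-2)]))))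 (.node (.node (.leaf ([])) (.leaf ([8, (-3), 11, (-2), (-4)]))) (.node (.leaf ([0, 0, (-1)])) (.leaf ([1])))))) (.node (.node (.node (.node (.node (.leaf ([])) (.leaf ([(-7), 3, (-10), (-3)]))) (.leaf ([]))) (.node (.leaf ([])) (.leaf ([4, (-1), 7, (-2), 1])))) (.node (.node (.leaf ([0, 0, (-1)])) (.leaf ([]))) (.node (.leaf ([])) (.leaf ([3, (-1), 5, (-4), (-2)]))))) (.node (.node (.node (.node (.leaf ([])) (.leaf ([(-7), 3, (-11), (-2)]))) (.leaf ([(-5), 2, (-7), (-1)]))) (.node (.leaf ([1])) (.leaf ([(-1), 1, (-1), 1, 2])))) (.node (.node (.leaf ([])) (.leaf ([3, (-1), 4, 3, 2]))) (.node (.leaf ([(-4), 2, (-6), (-1)])) (.leaf ([(-2), 0, (-7), 7])))))))) (.node (.node (.node (.node (.node (.node (.node (.leaf ([])) (.leaf ([(-26), 11, (-34), (-10)]))) (.leaf ([]))) (.node (.leaf ([])) (.leaf ([])))) (.node (.node (.leaf ([])) (.leaf ([(-4), 2, (-6), (-1)]))) (.node (.leaf ([])) (.leaf ([9, (-3), 14, 1, 2]))))) (.node (.node (.node (.node (.leaf ([])) (.leaf ([1])))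 (.leaf ([]))) (.node (.leaf ([])) (.leaf ([])))) (.node (.node (.leaf ([])) (.leaf ([(-4), 2, (-5), (-2)]))) (.node (.leaf ([])) (.leaf ([0, 0, (-1)])))))) (.node (.node (.node (.node (.node (.leaf ([])) (.leaf ([]))) (.leaf ([]))) (.node (.leaf ([1, 0, 1])) (.leaf ([(-18), 8, (-22), (-12), (-2)])))) (.node (.node (.leaf ([])) (.leaf ([(-3), 1, (-5), (-1), (-1)]))) (.node (.leaf ([0, 0, 0, (-2), (-2)])) (.leaf ([]))))) (.node (.node (.node (.node (.leaf ([])) (.leaf ([4, (-1), 7, (-5), (-2)]))) (.leaf ([]))) (.node (.leaf ([])) (.leaf ([5, (-2), 7, 4, 2])))) (.node (.node (.leaf ([])) (.leaf ([19, (-7), 28, 4, 4]))) (.node (.leaf ([(-14), 6, (-18), (-8), (-2)])) (.leaf ([3, (-1), 3]))))))) (.node (.node (.node (.node (.node (.node (.leaf ([])) (.leaf ([(-8), 3, (-12), (-1), (-1)]))) (.leaf ([]))) (.node (.leaf ([])) (.leaf ([(-1), 1, (-2), (-1)])))) (.node (.node (.leaf ([0, 0, 0, (-2), (-2)])) (.leaf ([]))) (.node (.leaf ([2, (-1), 2, 1])) (.leaf ([(-2), 1, (-2),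 (-3), (-1)]))))) (.node (.node (.node (.node (.leaf ([])) (.leaf ([(-5), 0, (-16), 25, 9]))) (.leaf ([7, (-3), 8, 3]))) (.node (.leaf ([])) (.leaf ([5, (-2), 5, 8, 4])))) (.node (.node (.leaf ([7, (-3), 8, 3])) (.leaf ([]))) (.node (.leaf ([])) (.leaf ([(-42), 17, (-60), (-6), 1])))))) (.node (.node (.node (.node (.node (.leaf ([])) (.leaf ([1, 1, 7, (-5), 6]))) (.leaf ([3, (-1), 5]))) (.node (.leaf ([(-2), 1, (-2), (-1)])) (.leaf ([])))) (.node (.node (.leaf ([])) (.leaf ([5, (-2), 6, 2]))) (.node (.leaf ([4, (-2), 4, 3])) (.leaf ([10, (-4), 14, 2]))))) (.node (.node (.node (.node (.leaf ([])) (.leaf ([14, (-6), 16, 14, 6]))) (.leaf ([0, 0, (-1), 1]))) (.node (.leaf ([])) (.leaf ([(-6), 3, (-8), (-4)])))) (.node (.node (.leaf ([(-5), 2, (-7), (-1)])) (.leaf ([]))) (.node (.leaf ([8, (-3), 12])) (.leaf ([4, (-1), 5, 1, 1])))))))))) (.node (.node (.node (.node (.node (.node (.node (.node (.node (.leaf ([])) (.leaf ([(-3), 2, (-4), (-3)]))) (.leaf ([(-3), 1, (-5),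 1]))) (.node (.leaf ([])) (.leaf ([])))) (.node (.node (.leaf ([])) (.leaf ([]))) (.node (.leaf ([])) (.leaf ([1, (-1), (-1), 2, (-2)]))))) (.node (.node (.node (.node (.leaf ([])) (.leaf ([(-22), 9, (-31), 1, 6]))) (.leaf ([]))) (.node (.leaf ([])) (.leaf ([(-8), 3, (-13), 2])))) (.node (.node (.leaf ([])) (.leaf ([1]))) (.node (.leaf ([])) (.leaf ([(-14), 6, (-19), (-4)])))))) (.node (.node (.node (.node (.node (.leaf ([])) (.leaf ([(-3), 1, (-6), 2, 1]))) (.leaf ([]))) (.node (.leaf ([])) (.leaf ([(-3), 1, (-6), 2])))) (.node (.node (.leaf ([])) (.leaf ([8, (-3), 10, 4, 1]))) (.node (.leaf ([])) (.leaf ([4, (-1), 8, (-5), (-1)]))))) (.node (.node (.node (.node (.leaf ([2, (-1), 2, 4, 2])) (.leaf ([6, (-2), 9, (-2)]))) (.leaf ([18, (-7), 26, 4, 2]))) (.node (.leaf ([])) (.leaf ([(-5), 2, (-8)])))) (.node (.node (.leaf ([])) (.leaf ([(-9), 4, (-11), (-4), 1]))) (.node (.leaf ([])) (.leaf ([1, 0, 2, (-3), (-1)]))))))) (.node (.node (.node (.node (.node (.node (.leaf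 ([])) (.leaf ([10, (-3), 17, (-5), 1]))) (.leaf ([3, (-1), 3]))) (.node (.leaf ([(-3), 1, (-5)])) (.leaf ([0, 0, (-1), 1])))) (.node (.node (.leaf ([])) (.leaf ([3, (-1), 4, (-1)]))) (.node (.leaf ([])) (.leaf ([(-3), 1, (-5), (-1), (-1)]))))) (.node (.node (.node (.node (.leaf ([])) (.leaf ([8, (-3), 10, 5, 2]))) (.leaf ([]))) (.node (.leaf ([])) (.leaf ([(-9), 3, (-15), 3])))) (.node (.node (.leaf ([])) (.leaf ([]))) (.node (.leaf ([])) (.leaf ([(-2), 1, (-4)])))))) (.node (.node (.node (.node (.node (.leaf ([])) (.leaf ([6, (-2), 9, (-1)]))) (.leaf ([3, (-1), 4, 1]))) (.node (.leaf ([0, 0, (-1)])) (.leaf ([])))) (.node (.node (.leaf ([1])) (.leaf ([10, (-4), 13, 4]))) (.node (.leaf ([])) (.leaf ([2, (-1), 2, 6, 3]))))) (.node (.node (.node (.node (.leaf ([])) (.leaf ([(-12), 5, (-18), (-2), (-1)]))) (.leaf ([(-2), 1, (-4), (-2), (-3)]))) (.node (.leaf ([])) (.leaf ([0, 0, (-1)])))) (.node (.node (.leaf ([])) (.leaf ([2, (-1), 2, 0, (-2)]))) (.node (.leaf ([]))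 (.leaf ([8, (-3), 10, 2])))))))) (.node (.node (.node (.node (.node (.node (.node (.leaf ([])) (.leaf ([3, (-1), 4]))) (.leaf ([]))) (.node (.leaf ([])) (.leaf ([1])))) (.node (.node (.leaf ([])) (.leaf ([]))) (.node (.leaf ([])) (.leaf ([(-10), 5, (-11), (-8)]))))) (.node (.node (.node (.node (.leaf ([])) (.leaf ([3, (-1), 2, 1]))) (.leaf ([]))) (.node (.leaf ([])) (.leaf ([(-5), 2, (-8)])))) (.node (.node (.leaf ([])) (.leaf ([(-7), 3, (-10)]))) (.node (.leaf ([(-3), 1, (-5), 2, 1])) (.leaf ([29, (-11), 42, 4, 3])))))) (.node (.node (.node (.node (.node (.leaf ([])) (.leaf ([2, 0, 6, (-2), 4]))) (.leaf ([]))) (.node (.leaf ([])) (.leaf ([4, (-1), 6, 0, 1])))) (.node (.node (.leaf ([])) (.leaf ([]))) (.node (.leaf ([(-19), 8, (-26), (-8), (-2)])) (.leaf ([(-13), 5, (-21), 3, 1]))))) (.node (.node (.node (.node (.leaf ([1, 0, 1])) (.leaf ([(-16), 6, (-24), 4, 4]))) (.leaf ([49, (-19), 71, 6]))) (.node (.leaf ([])) (.leaf ([])))) (.node (.node (.leaf ([])) (.leaf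 ([0, 0, 0, 1]))) (.node (.leaf ([])) (.leaf ([0, 0, (-1)]))))))) (.node (.node (.node (.node (.node (.node (.leaf ([])) (.leaf ([5, (-2), 6, 1]))) (.leaf ([]))) (.node (.leaf ([])) (.leaf ([])))) (.node (.node (.leaf ([])) (.leaf ([(-2), 1, (-3)]))) (.node (.leaf ([])) (.leaf ([19, (-6), 33, (-5), 3]))))) (.node (.node (.node (.node (.leaf ([])) (.leaf ([(-2), 2, 0, (-7)]))) (.leaf ([5, (-3), 3, 10, 2]))) (.node (.leaf ([])) (.leaf ([11, (-5), 13, 7])))) (.node (.node (.leaf ([])) (.leaf ([(-9), 3, (-15), 0, (-2)]))) (.node (.leaf ([])) (.leaf ([2, (-1), 2, 2])))))) (.node (.node (.node (.node (.node (.leaf ([])) (.leaf ([(-12), 5, (-16), (-4)]))) (.leaf ([]))) (.node (.leaf ([])) (.leaf ([4, (-2), 4, 4])))) (.node (.node (.leaf ([])) (.leaf ([]))) (.node (.leaf ([])) (.leaf ([]))))) (.node (.node (.node (.node (.leaf ([])) (.leaf ([(-10), 4, (-16), 3, 3]))) (.leaf ([]))) (.node (.leaf ([])) (.leaf ([(-5), 3, (-4), (-2), 6])))) (.node (.node (.leaf ([])) (.leaf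 ([(-5), 2, (-8), (-2)]))) (.node (.leaf ([0, 0, (-1)])) (.leaf ([]))))))))) (.node (.node (.node (.node (.node (.node (.node (.node (.leaf ([])) (.leaf ([11, (-4), 17, 2, 2]))) (.leaf ([5, (-2), 6, 2]))) (.node (.leaf ([])) (.leaf ([])))) (.node (.node (.leaf ([0, 0, (-1)])) (.leaf ([3, (-1), 4]))) (.node (.leaf ([])) (.leaf ([(-9), 3, (-15), 3, (-1)]))))) (.node (.node (.node (.node (.leaf ([])) (.leaf ([(-2), 1, (-3), 1, 1]))) (.leaf ([(-3), 1, (-5), 2]))) (.node (.leaf ([(-2), 1, (-3)])) (.leaf ([1, 0, 1])))) (.node (.node (.leaf ([])) (.leaf ([]))) (.node (.leaf ([4, (-2), 4, 2, (-2)])) (.leaf ([0, 0, 0, (-2), (-2)])))))) (.node (.node (.node (.node (.node (.leaf ([])) (.leaf ([(-4), 2, (-5), (-1), 2]))) (.leaf ([]))) (.node (.leaf ([])) (.leaf ([16, (-6), 22, 2])))) (.node (.node (.leaf ([(-2), 1, (-2), (-4), (-2)])) (.leaf ([2, (-1), 2, 1]))) (.node (.leaf ([])) (.leaf ([(-2), 1, (-2), (-3), (-1)]))))) (.node (.node (.node (.node (.leaf ([])) (.leaf ([(-8),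 3, (-13), 1]))) (.leaf ([(-1), 0, (-3), 4, 1]))) (.node (.leaf ([(-5), 2, (-7), (-1)])) (.leaf ([6, (-2), 8, 1])))) (.node (.node (.leaf ([])) (.leaf ([1, (-1), (-1), 6, 2]))) (.node (.leaf ([])) (.leaf ([]))))))) (.node (.node (.node (.node (.node (.node (.leaf ([])) (.leaf ([1, 0, 0, 1, 1]))) (.leaf ([(-2), 1, (-5), 1]))) (.node (.leaf ([])) (.leaf ([3, (-1), 4, (-2)])))) (.node (.node (.leaf ([])) (.leaf ([2, (-1), 2, 2]))) (.node (.leaf ([(-5), 2, (-7)])) (.leaf ([(-7), 3, (-10), (-4), (-1)]))))) (.node (.node (.node (.node (.leaf ([1])) (.leaf ([14, (-4), 24, (-4), 4]))) (.leaf ([]))) (.node (.leaf ([])) (.leaf ([])))) (.node (.node (.leaf ([])) (.leaf ([]))) (.node (.leaf ([(-3), 1, (-5), (-1), (-1)])) (.leaf ([0, 0, (-1)])))))) (.node (.node (.node (.node (.node (.leaf ([1, 0, 3, (-3)])) (.leaf ([(-3), 1, (-7), 1, (-2)]))) (.leaf ([]))) (.node (.leaf ([])) (.leaf ([0, 1, 2, (-2), 2])))) (.node (.node (.leaf ([(-2), 1, (-3)])) (.leaf ([0, 0, (-1)]))) (.node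 (.leaf ([3, (-1), 5, (-1)])) (.leaf ([1, (-1), (-1), 3, (-2)]))))) (.node (.node (.node (.node (.leaf ([])) (.leaf ([(-69), 28, (-95), (-11), 6]))) (.leaf ([(-1), 0, (-3), 6, 3]))) (.node (.leaf ([0, 0, (-1)])) (.leaf ([3, (-1), 4, 0, (-2)])))) (.node (.node (.leaf ([])) (.leaf ([(-18), 8, (-23), (-11), (-1)]))) (.node (.leaf ([(-4), 2, (-5), (-2)])) (.leaf ([7, (-2), 11, 2, 4])))))))) (.node (.node (.node (.node (.node (.node (.node (.leaf ([])) (.leaf ([(-2), 1, (-3), (-2)]))) (.leaf ([(-8), 3, (-13), 1, 2]))) (.node (.leaf ([])) (.leaf ([(-8), 3, (-13), 2, 2])))) (.node (.node (.leaf ([])) (.leaf ([]))) (.node (.leaf ([10, (-4), 13, 3])) (.leaf ([(-7), 3, (-11), (-2)]))))) (.node (.node (.node (.node (.leaf ([])) (.leaf ([]))) (.leaf ([(-1), 1, (-2), (-1)]))) (.node (.leaf ([])) (.leaf ([])))) (.node (.node (.leaf ([])) (.leaf ([1, 0, 3, (-3)]))) (.node (.leaf ([])) (.leaf ([5, (-2), 5, 2])))))) (.node (.node (.node (.node (.node (.leaf ([])) (.leaf ([]))) (.leaf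 ([5, (-2), 6, 1]))) (.node (.leaf ([])) (.leaf ([3, (-1), 5, 2, 3])))) (.node (.node (.leaf ([(-3), 1, (-5), 1])) (.leaf ([]))) (.node (.leaf ([])) (.leaf ([(-5), 2, (-8)]))))) (.node (.node (.node (.node (.leaf ([5, (-2), 7, 1])) (.leaf ([9, (-3), 14, 1, 2]))) (.leaf ([0, 0, (-1)]))) (.node (.leaf ([])) (.leaf ([32, (-13), 43, 9, (-2)])))) (.node (.node (.leaf ([])) (.leaf ([]))) (.node (.leaf ([4, (-1), 7, (-1), 2])) (.leaf ([]))))))) (.node (.node (.node (.node (.node (.node (.leaf ([1, 0, 3, (-3)])) (.leaf ([0, 0, (-1), 0, (-1)]))) (.leaf ([6, (-2), 9]))) (.node (.leaf ([1])) (.leaf ([(-3), 1, (-5), 3, 2])))) (.node (.node (.leaf ([0, 0, (-1)])) (.leaf ([]))) (.node (.leaf ([])) (.leaf ([]))))) (.node (.node (.node (.node (.leaf ([])) (.leaf ([8, (-3), 10, 5, 3]))) (.leaf ([]))) (.node (.leaf ([7, (-3), 8, 3])) (.leaf ([0, 0, (-1)])))) (.node (.node (.leaf ([])) (.leaf ([2, 0, 5, (-2), 2]))) (.node (.leaf ([(-5), 2, (-7), (-2), (-1)])) (.leaf ([(-2), 1, (-4),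 (-2), (-1)])))))) (.node (.node (.node (.node (.node (.leaf ([])) (.leaf ([(-4), 2, (-5), (-1), 2]))) (.leaf ([(-3), 1, (-6), 1]))) (.node (.leaf ([(-17), 7, (-23), (-3), 2])) (.leaf ([3, (-1), 4, (-1)])))) (.node (.node (.leaf ([(-5), 2, (-7), (-1)])) (.leaf ([]))) (.node (.leaf ([8, (-3), 11, 3])) (.leaf ([18, (-6), 30, (-5)]))))) (.node (.node (.node (.node (.leaf ([(-7), 3, (-9), (-3)])) (.leaf ([(-22), 9, (-31), (-4)]))) (.leaf ([(-2), 1, (-3)]))) (.node (.leaf ([3, (-1), 4, 1])) (.leaf ([])))) (.node (.node (.leaf ([])) (.leaf ([(-7), 3, (-10), (-4), (-1)]))) (.node (.leaf ([(-3), 1, (-5), 1])) (.leaf ([7, (-2), 12, (-6), (-2)]))))))))))) (.node (.node (.node (.node (.node (.node (.node (.node (.node (.node (.leaf ([])) (.leaf ([(-23), 10, (-30), (-13), (-1)]))) (.leaf ([1, 0, 1]))) (.node (.leaf ([(-2), 1, (-3)])) (.leaf ([(-4), 1, (-8), 2, (-2)])))) (.node (.node (.leaf ([])) (.leaf ([2, (-1), 2, 4, 1]))) (.node (.leaf ([])) (.leaf ([(-10), 4, (-14), (-1),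 1]))))) (.node (.node (.node (.node (.leaf ([])) (.leaf ([23, (-10), 29, 11]))) (.leaf ([2, (-1), 2, 1]))) (.node (.leaf ([])) (.leaf ([28, (-11), 38, 3, (-2)])))) (.node (.node (.leaf ([])) (.leaf ([]))) (.node (.leaf ([])) (.leaf ([8, (-3), 11, 2])))))) (.node (.node (.node (.node (.node (.leaf ([0, 0, (-1)])) (.leaf ([0, 0, (-1)]))) (.leaf ([(-4), 2, (-5), (-11), (-7)]))) (.node (.leaf ([])) (.leaf ([(-7), 3, (-9), (-3)])))) (.node (.node (.leaf ([])) (.leaf ([]))) (.node (.leaf ([])) (.leaf ([0, 0, 0, 0, 1]))))) (.node (.node (.node (.node (.leaf ([])) (.leaf ([(-9), 4, (-11), (-7), (-2)]))) (.leaf ([]))) (.node (.leaf ([])) (.leaf ([(-11), 5, (-14), (-6)])))) (.node (.node (.leaf ([])) (.leaf ([]))) (.node (.leaf ([])) (.leaf ([]))))))) (.node (.node (.node (.node (.node (.node (.leaf ([0, 0, (-1)])) (.leaf ([(-11), 5, (-14), (-6), 1]))) (.leaf ([]))) (.node (.leaf ([(-7), 3, (-10), (-2)])) (.leaf ([8, (-3), 10, 2])))) (.node (.node (.leaf ([])) (.leaf ([0,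 0, (-1)]))) (.node (.leaf ([1])) (.leaf ([(-2), 1, (-3)]))))) (.node (.node (.node (.node (.leaf ([])) (.leaf ([1, 0, 1, (-1)]))) (.leaf ([]))) (.node (.leaf ([])) (.leaf ([])))) (.node (.node (.leaf ([])) (.leaf ([0, 0, (-1)]))) (.node (.leaf ([1, 0, 1])) (.leaf ([2, 0, 3, (-1), 2])))))) (.node (.node (.node (.node (.node (.leaf ([])) (.leaf ([(-8), 3, (-13), (-2), (-4)]))) (.leaf ([]))) (.node (.leaf ([(-10), 4, (-14), (-3)])) (.leaf ([])))) (.node (.node (.leaf ([4, (-2), 4, 2, (-2)])) (.leaf ([(-5), 2, (-7), (-1)]))) (.node (.leaf ([(-12), 5, (-16), (-4)])) (.leaf ([]))))) (.node (.node (.node (.node (.leaf ([])) (.leaf ([54, (-24), 65, 43, 12]))) (.leaf ([]))) (.node (.leaf ([])) (.leaf ([1, 0, 2, (-2)])))) (.node (.node (.leaf ([(-7), 3, (-9), (-3)])) (.leaf ([3, (-1), 4, (-1), (-2)]))) (.node (.leaf ([(-14), 5, (-22), 2])) (.leaf ([13, (-5), 16, 4])))))))) (.node (.node (.node (.node (.node (.node (.node (.leaf ([])) (.leaf ([]))) (.leaf ([7, (-3), 9, 1,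 (-2)]))) (.node (.leaf ([0, 0, 0, 2, 2])) (.leaf ([1, 0, 1, (-1)])))) (.node (.node (.leaf ([])) (.leaf ([(-7), 3, (-9), (-1), 2]))) (.node (.leaf ([])) (.leaf ([]))))) (.node (.node (.node (.node (.leaf ([])) (.leaf ([7, (-3), 9, 1, (-2)]))) (.leaf ([]))) (.node (.leaf ([4, (-2), 4, 3])) (.leaf ([15, (-5), 24, (-3)])))) (.node (.node (.leaf ([])) (.leaf ([]))) (.node (.leaf ([])) (.leaf ([])))))) (.node (.node (.node (.node (.node (.leaf ([])) (.leaf ([3, (-1), 4, 4, 3]))) (.leaf ([1]))) (.node (.leaf ([2, (-1), 2, 1])) (.leaf ([])))) (.node (.node (.leaf ([])) (.leaf ([(-7), 3, (-9), (-3)]))) (.node (.leaf ([])) (.leaf ([1, (-1), (-1), 10, 5]))))) (.node (.node (.node (.node (.leaf ([])) (.leaf ([(-2), 1, (-4), (-4), (-3)]))) (.leaf ([]))) (.node (.leaf ([(-5), 2, (-7), (-1)])) (.leaf ([5, (-2), 7, 3, 2])))) (.node (.node (.leaf ([0, 0, (-1)])) (.leaf ([]))) (.node (.leaf ([2, (-1), 2, 4, 1])) (.leaf ([(-7), 3, (-10), (-3)]))))))) (.node (.node (.node (.node (.node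 (.node (.leaf ([])) (.leaf ([3, (-1), 3, 2]))) (.leaf ([]))) (.node (.leaf ([])) (.leaf ([])))) (.node (.node (.leaf ([5, (-2), 7, 1])) (.leaf ([(-3), 1, (-5), 1]))) (.node (.leaf ([])) (.leaf ([(-1), 1, (-1), (-1), 1]))))) (.node (.node (.node (.node (.leaf ([])) (.leaf ([3, (-1), 3, (-1), (-2)]))) (.leaf ([]))) (.node (.leaf ([7, (-3), 8, 3])) (.leaf ([(-5), 2, (-8), 1, 2])))) (.node (.node (.leaf ([7, (-3), 8, 4])) (.leaf ([(-7), 3, (-10), 0, 2]))) (.node (.leaf ([0, 0, 0, (-1), (-1)])) (.leaf ([6, (-2), 8, 1, 1])))))) (.node (.node (.node (.node (.node (.leaf ([])) (.leaf ([(-17), 7, (-24), (-2), 2]))) (.leaf ([0, 0, (-1)]))) (.node (.leaf ([5, (-2), 7, 1])) (.leaf ([3, (-1), 4])))) (.node (.node (.leaf ([(-5), 2, (-8), (-1)])) (.leaf ([]))) (.node (.leaf ([(-2), 1, (-3)])) (.leaf ([15, (-6), 21, 2]))))) (.node (.node (.node (.node (.leaf ([])) (.leaf ([0, 0, (-1)]))) (.leaf ([]))) (.node (.leaf ([(-2), 1, (-3), 0, 2])) (.leaf ([1, 0, 2, 0, 2])))) (.node (.node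 (.leaf ([(-12), 5, (-16), (-6), (-2)])) (.leaf ([]))) (.node (.leaf ([])) (.leaf ([0, 0, (-1)]))))))))) (.node (.node (.node (.node (.node (.node (.node (.node (.leaf ([])) (.leaf ([8, (-3), 10, 2]))) (.leaf ([]))) (.node (.leaf ([])) (.leaf ([1, 0, 1, (-5), (-4)])))) (.node (.node (.leaf ([])) (.leaf ([(-1), 1, (-2), (-2)]))) (.node (.leaf ([(-3), 1, (-5)])) (.leaf ([0, 0, 0, 1]))))) (.node (.node (.node (.node (.leaf ([])) (.leaf ([9, (-2), 19, (-3), 8]))) (.leaf ([0, 0, (-1)]))) (.node (.leaf ([])) (.leaf ([])))) (.node (.node (.leaf ([])) (.leaf ([]))) (.node (.leaf ([])) (.leaf ([(-26), 10, (-38), (-2)])))))) (.node (.node (.node (.node (.node (.leaf ([])) (.leaf ([]))) (.leaf ([0, 0, 0, 2, 2]))) (.node (.leaf ([3, (-1), 4, (-1)])) (.leaf ([])))) (.node (.node (.leaf ([])) (.leaf ([]))) (.node (.leaf ([0, 0, (-1)])) (.leaf ([(-15), 6, (-21), (-3)]))))) (.node (.node (.node (.node (.leaf ([])) (.leaf ([18, (-8), 21, 8, (-4)]))) (.leaf ([]))) (.node (.leaf ([1,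 0, 1])) (.leaf ([(-9), 3, (-16), 4, 2])))) (.node (.node (.leaf ([])) (.leaf ([]))) (.node (.leaf ([8, (-3), 11, 2])) (.leaf ([15, (-6), 18, 6]))))))) (.node (.node (.node (.node (.node (.node (.leaf ([])) (.leaf ([20, (-8), 27, 5]))) (.leaf ([]))) (.node (.leaf ([7, (-3), 9, 2])) (.leaf ([0, 0, (-1)])))) (.node (.node (.leaf ([])) (.leaf ([(-3), 1, (-5), 1]))) (.node (.leaf ([5, (-2), 6, 2])) (.leaf ([]))))) (.node (.node (.node (.node (.leaf ([0, 0, 0, (-2), (-2)])) (.leaf ([(-2), 1, (-3), (-1)]))) (.leaf ([3, (-1), 5, (-1)]))) (.node (.leaf ([3, (-1), 5, (-1)])) (.leaf ([(-12), 5, (-16), (-8), (-3)])))) (.node (.node (.leaf ([(-7), 3, (-9), (-3)])) (.leaf ([(-25), 11, (-32), (-8), 2]))) (.node (.leaf ([])) (.leaf ([17, (-7), 21, 9, 2])))))) (.node (.node (.node (.node (.node (.leaf ([])) (.leaf ([]))) (.leaf ([]))) (.node (.leaf ([])) (.leaf ([2, (-1), 2, 4, 1])))) (.node (.node (.leaf ([])) (.leaf ([(-7), 3, (-9), (-3)]))) (.node (.leaf ([])) (.leaf ([26, (-11),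 34, 8, (-2)]))))) (.node (.node (.node (.node (.leaf ([])) (.leaf ([(-38), 16, (-50), (-13)]))) (.leaf ([0, 0, (-1), 1, 1]))) (.node (.leaf ([])) (.leaf ([1, 0, 2, (-3), (-2)])))) (.node (.node (.leaf ([])) (.leaf ([(-2), 1, (-5), 1]))) (.node (.leaf ([])) (.leaf ([])))))))) (.node (.node (.node (.node (.node (.node (.node (.leaf ([])) (.leaf ([5, (-2), 6, 1, (-2)]))) (.leaf ([0, 0, 0, 2, 2]))) (.node (.leaf ([])) (.leaf ([2, (-1), 1, 8, 6])))) (.node (.node (.leaf ([])) (.leaf ([(-14), 6, (-19), (-4)]))) (.node (.leaf ([])) (.leaf ([8, (-3), 11, 4, 2]))))) (.node (.node (.node (.node (.leaf ([])) (.leaf ([21, (-9), 25, 11, 1]))) (.leaf ([]))) (.node (.leaf ([])) (.leaf ([25, (-9), 38, (-2)])))) (.node (.node (.leaf ([])) (.leaf ([22, (-9), 30, 8, 2]))) (.node (.leaf ([])) (.leaf ([(-3), 2, (-3), (-5)])))))) (.node (.node (.node (.node (.node (.leaf ([5, (-2), 7, 1])) (.leaf ([]))) (.leaf ([]))) (.node (.leaf ([7, (-3), 9, 4])) (.leaf ([3, (-1), 4, 2, 3])))) (.node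 (.node (.leaf ([])) (.leaf ([]))) (.node (.leaf ([])) (.leaf ([]))))) (.node (.node (.node (.node (.leaf ([])) (.leaf ([0, 0, (-1)]))) (.leaf ([]))) (.node (.leaf ([])) (.leaf ([])))) (.node (.node (.leaf ([])) (.leaf ([]))) (.node (.leaf ([(-2), 1, (-2), (-2)])) (.leaf ([7, (-3), 9, 3]))))))) (.node (.node (.node (.node (.node (.node (.leaf ([])) (.leaf ([13, (-5), 18, 2, (-1)]))) (.leaf ([]))) (.node (.leaf ([])) (.leaf ([])))) (.node (.node (.leaf ([(-7), 3, (-9), (-4)])) (.leaf ([9, (-3), 14, (-2)]))) (.node (.leaf ([])) (.leaf ([(-18), 8, (-22), (-12), (-2)]))))) (.node (.node (.node (.node (.leaf ([(-1), 0, (-4), 3])) (.leaf ([0, 0, (-1)]))) (.leaf ([]))) (.node (.leaf ([])) (.leaf ([])))) (.node (.node (.leaf ([])) (.leaf ([]))) (.node (.leaf ([9, (-4), 11, 8, 3])) (.leaf ([(-8), 3, (-14), 4, 3])))))) (.node (.node (.node (.node (.node (.leaf ([0, 0, (-1)])) (.leaf ([3, (-1), 4, 1, 1]))) (.leaf ([]))) (.node (.leaf ([])) (.leaf ([1])))) (.node (.node (.leaf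 ([])) (.leaf ([]))) (.node (.leaf ([8, (-3), 11, 2])) (.leaf ([]))))) (.node (.node (.node (.node (.leaf ([])) (.leaf ([11, (-4), 15, 5, 4]))) (.leaf ([]))) (.node (.leaf ([])) (.leaf ([])))) (.node (.node (.leaf ([1])) (.leaf ([(-14), 6, (-19), (-4)]))) (.node (.leaf ([(-4), 2, (-5), (-2)])) (.leaf ([8, (-3), 11, 1])))))))))) (.node (.node (.node (.node (.node (.node (.node (.node (.node (.leaf ([])) (.leaf ([(-13), 5, (-19), (-2), (-1)]))) (.leaf ([(-5), 2, (-8), 3, 2]))) (.node (.leaf ([])) (.leaf ([])))) (.node (.node (.leaf ([(-7), 3, (-9), (-3)])) (.leaf ([]))) (.node (.leaf ([])) (.leaf ([0, 0, (-1), 1]))))) (.node (.node (.node (.node (.leaf ([])) (.leaf ([(-3), 1, (-5), 1]))) (.leaf ([1]))) (.node (.leaf ([3, (-1), 5, (-1)])) (.leaf ([(-3), 1, (-5), 1])))) (.node (.node (.leaf ([])) (.leaf ([]))) (.node (.leaf ([])) (.leaf ([(-1), 1, 1, (-6), (-2)])))))) (.node (.node (.node (.node (.node (.leaf ([])) (.leaf ([0, 0, (-1), 1, (-1)]))) (.leaf ([]))) (.node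 (.leaf ([(-5), 2, (-7)])) (.leaf ([(-2), 1, (-4)])))) (.node (.node (.leaf ([])) (.leaf ([(-8), 3, (-12), (-2), (-2)]))) (.node (.leaf ([(-6), 2, (-10), 5, 2])) (.leaf ([(-15), 7, (-18), (-10), (-1)]))))) (.node (.node (.node (.node (.leaf ([])) (.leaf ([(-6), 3, (-7), (-5)]))) (.leaf ([2, (-1), 1, 3]))) (.node (.leaf ([])) (.leaf ([(-7), 3, (-12)])))) (.node (.node (.leaf ([1, 0, 1])) (.leaf ([(-3), 2, (-3), (-3)]))) (.node (.leaf ([0, 0, (-1), 1])) (.leaf ([(-1), 1, (-2), (-2)]))))))) (.node (.node (.node (.node (.node (.node (.leaf ([])) (.leaf ([(-6), 3, (-8), (-5), (-1)]))) (.leaf ([3, (-1), 5, (-1)]))) (.node (.leaf ([])) (.leaf ([1])))) (.node (.node (.leaf ([])) (.leaf ([(-12), 5, (-16), (-4)]))) (.node (.leaf ([0, 0, (-1)])) (.leaf ([(-7), 2, (-13), 7, 3]))))) (.node (.node (.node (.node (.leaf ([])) (.leaf ([31, (-11), 48, (-5), (-1)]))) (.leaf ([]))) (.node (.leaf ([])) (.leaf ([])))) (.node (.node (.leaf ([])) (.leaf ([1, 0, 1, 3, 2]))) (.node (.leaf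 ([])) (.leaf ([8, (-3), 11, (-3), (-4)])))))) (.node (.node (.node (.node (.node (.leaf ([])) (.leaf ([20, (-7), 32, 6, 10]))) (.leaf ([(-2), 1, (-4)]))) (.node (.leaf ([])) (.leaf ([4, (-1), 6, (-2)])))) (.node (.node (.leaf ([])) (.leaf ([4, (-1), 6, 1, 2]))) (.node (.leaf ([])) (.leaf ([12, (-5), 15, 11, 3]))))) (.node (.node (.node (.node (.leaf ([])) (.leaf ([10, (-4), 13, 0, (-4)]))) (.leaf ([]))) (.node (.leaf ([11, (-4), 17, 3, 4])) (.leaf ([])))) (.node (.node (.leaf ([])) (.leaf ([1, 0, 1]))) (.node (.leaf ([])) (.leaf ([(-4), 2, (-6), (-1)])))))))) (.node (.node (.node (.node (.node (.node (.node (.leaf ([])) (.leaf ([(-4), 2, (-6), (-1)]))) (.leaf ([]))) (.node (.leaf ([])) (.leaf ([0, 0, (-1)])))) (.node (.node (.leaf ([9, (-4), 10, 5])) (.leaf ([]))) (.node (.leaf ([2, (-1), 0, 5])) (.leaf ([(-9), 3, (-15), 1, (-2)]))))) (.node (.node (.node (.node (.leaf ([])) (.leaf ([(-4), 2, (-5), (-3)]))) (.leaf ([]))) (.node (.leaf ([8, (-3), 11, 3])) (.leaf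 ([])))) (.node (.node (.leaf ([])) (.leaf ([0, 0, (-1)]))) (.node (.leaf ([(-3), 1, (-5), 1])) (.leaf ([])))))) (.node (.node (.node (.node (.node (.leaf ([])) (.leaf ([(-24), 10, (-33), (-6)]))) (.leaf ([0, 0, (-1)]))) (.node (.leaf ([])) (.leaf ([])))) (.node (.node (.leaf ([])) (.leaf ([(-1), 0, (-4), 3]))) (.node (.leaf ([(-5), 2, (-7)])) (.leaf ([(-2), 1, (-3), (-1), (-1)]))))) (.node (.node (.node (.node (.leaf ([5, (-2), 7, 1])) (.leaf ([(-16), 6, (-25), 0, (-1)]))) (.leaf ([1, 0, 1]))) (.node (.leaf ([])) (.leaf ([1, 0, 1])))) (.node (.node (.leaf ([])) (.leaf ([(-6), 2, (-10), 4, 1]))) (.node (.leaf ([])) (.leaf ([(-7), 3, (-10), (-3)]))))))) (.node (.node (.node (.node (.node (.node (.leaf ([])) (.leaf ([(-23), 9, (-33), (-5), (-1)]))) (.leaf ([]))) (.node (.leaf ([])) (.leaf ([])))) (.node (.node (.leaf ([])) (.leaf ([(-5), 2, (-7)]))) (.node (.leaf ([5, (-2), 7, 1])) (.leaf ([]))))) (.node (.node (.node (.node (.leaf ([])) (.leaf ([7, (-3), 8, 6, 3])))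 (.leaf ([20, (-8), 26, 3, (-2)]))) (.node (.leaf ([(-7), 3, (-10), (-2)])) (.leaf ([2, (-1), 1, 4])))) (.node (.node (.leaf ([])) (.leaf ([(-5), 2, (-7), (-1)]))) (.node (.leaf ([5, (-2), 7, 1])) (.leaf ([8, (-3), 11, (-1)])))))) (.node (.node (.node (.node (.node (.leaf ([1, 0, 3, (-3)])) (.leaf ([]))) (.leaf ([5, (-2), 6, 2]))) (.node (.leaf ([])) (.leaf ([])))) (.node (.node (.leaf ([])) (.leaf ([]))) (.node (.leaf ([])) (.leaf ([2, (-1), 1, 1, (-2)]))))) (.node (.node (.node (.node (.leaf ([])) (.leaf ([1, 1, 5, (-6), 4]))) (.leaf ([]))) (.node (.leaf ([])) (.leaf ([(-5), 2, (-7), (-1)])))) (.node (.node (.leaf ([])) (.leaf ([]))) (.node (.leaf ([(-8), 3, (-12)])) (.leaf ([(-2), 1, (-3), (-1)]))))))))) (.node (.node (.node (.node (.node (.node (.node (.node (.leaf ([])) (.leaf ([0, 0, 0, 1]))) (.leaf ([]))) (.node (.leaf ([])) (.leaf ([])))) (.node (.node (.leaf ([])) (.leaf ([3, (-1), 4]))) (.node (.leaf ([])) (.leaf ([3, (-1), 4]))))) (.node (.node (.node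 (.node (.leaf ([(-5), 2, (-7), (-1)])) (.leaf ([27, (-9), 43, (-9), (-3)]))) (.leaf ([(-3), 1, (-6), (-4), (-4)]))) (.node (.leaf ([])) (.leaf ([7, (-3), 9, 3])))) (.node (.node (.leaf ([])) (.leaf ([1, 0, 1]))) (.node (.leaf ([14, (-6), 18, 5])) (.leaf ([1, 0, 1, 1, 1])))))) (.node (.node (.node (.node (.node (.leaf ([(-1), 0, (-4), 3])) (.leaf ([(-10), 5, (-10), (-7), 4]))) (.leaf ([]))) (.node (.leaf ([])) (.leaf ([0, 0, (-1)])))) (.node (.node (.leaf ([])) (.leaf ([(-15), 6, (-22), (-2)]))) (.node (.leaf ([])) (.leaf ([0, 0, (-1)]))))) (.node (.node (.node (.node (.leaf ([])) (.leaf ([]))) (.leaf ([0, 0, 0, 2, 2]))) (.node (.leaf ([])) (.leaf ([])))) (.node (.node (.leaf ([(-5), 2, (-7), (-1)])) (.leaf ([0, 0, (-1), 1]))) (.node (.leaf ([])) (.leaf ([11, (-4), 16, 1, 2]))))))) (.node (.node (.node (.node (.node (.node (.leaf ([])) (.leaf ([(-19), 8, (-25), (-7), (-1)]))) (.leaf ([]))) (.node (.leaf ([])) (.leaf ([(-2), 1, (-4)])))) (.node (.node (.leaf ([]))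 (.leaf ([]))) (.node (.leaf ([])) (.leaf ([5, (-2), 7, 1]))))) (.node (.node (.node (.node (.leaf ([])) (.leaf ([(-3), 2, (-4), (-3)]))) (.leaf ([(-2), 1, (-4)]))) (.node (.leaf ([])) (.leaf ([])))) (.node (.node (.leaf ([7, (-3), 8, 3])) (.leaf ([(-2), 1, (-2), (-2)]))) (.node (.leaf ([])) (.leaf ([])))))) (.node (.node (.node (.node (.node (.leaf ([])) (.leaf ([6, (-2), 8, 4, 4]))) (.leaf ([1]))) (.node (.leaf ([])) (.leaf ([(-1), 1, (-2), (-2)])))) (.node (.node (.leaf ([])) (.leaf ([1, 1, 7, (-7), 4]))) (.node (.leaf ([0, 0, (-1)])) (.leaf ([(-7), 3, (-10), (-3), (-2)]))))) (.node (.node (.node (.node (.leaf ([])) (.leaf ([2, (-1), 1, 5, 2]))) (.leaf ([27, (-11), 36, 9, 1]))) (.node (.leaf ([])) (.leaf ([(-2), 1, (-3), (-1)])))) (.node (.node (.leaf ([])) (.leaf ([]))) (.node (.leaf ([(-9), 4, (-11), (-7), (-2)])) (.leaf ([13, (-5), 16, 9, 4])))))))) (.node (.node (.node (.node (.node (.node (.node (.leaf ([])) (.leaf ([1, 0, 2, (-3)]))) (.leaf ([]))) (.node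 (.leaf ([(-7), 3, (-9), (-3)])) (.leaf ([])))) (.node (.node (.leaf ([])) (.leaf ([1]))) (.node (.leaf ([])) (.leaf ([]))))) (.node (.node (.node (.node (.leaf ([])) (.leaf ([12, (-5), 15, (-6), (-11)]))) (.leaf ([]))) (.node (.leaf ([])) (.leaf ([])))) (.node (.node (.leaf ([])) (.leaf ([5, (-2), 6, 0, (-2)]))) (.node (.leaf ([])) (.leaf ([1, 0, 1, (-1)])))))) (.node (.node (.node (.node (.node (.leaf ([])) (.leaf ([(-8), 3, (-12), 1]))) (.leaf ([]))) (.node (.leaf ([])) (.leaf ([(-5), 2, (-8), (-3), (-3)])))) (.node (.node (.leaf ([])) (.leaf ([(-4), 1, (-9), 2, (-2)]))) (.node (.leaf ([(-1), 1, (-2), (-1)])) (.leaf ([8, (-2), 16, (-5), 4]))))) (.node (.node (.node (.node (.leaf ([0, 0, (-1)])) (.leaf ([11, (-3), 20, (-4), 4]))) (.leaf ([]))) (.node (.leaf ([])) (.leaf ([0, 0, (-1)])))) (.node (.node (.leaf ([])) (.leaf ([(-9), 4, (-12), (-5), (-2)]))) (.node (.leaf ([3, (-1), 4])) (.leaf ([(-2), 1, (-3), 1, 1]))))))) (.node (.node (.node (.node (.node (.node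 (.leaf ([1])) (.leaf ([28, (-11), 40, 2, (-2)]))) (.leaf ([]))) (.node (.leaf ([])) (.leaf ([6, (-2), 9, (-1)])))) (.node (.node (.leaf ([])) (.leaf ([]))) (.node (.leaf ([1, 0, 1])) (.leaf ([(-27), 11, (-37), (-10), (-2)]))))) (.node (.node (.node (.node (.leaf ([])) (.leaf ([(-22), 8, (-36), 7, 3]))) (.leaf ([]))) (.node (.leaf ([])) (.leaf ([1, 0, 3, (-3)])))) (.node (.node (.leaf ([])) (.leaf ([]))) (.node (.leaf ([(-2), 1, (-3), 0, 1])) (.leaf ([(-11), 5, (-14), (-5), 2])))))) (.node (.node (.node (.node (.node (.leaf ([])) (.leaf ([0, 0, (-1)]))) (.leaf ([]))) (.node (.leaf ([])) (.leaf ([0, 0, (-1)])))) (.node (.node (.leaf ([])) (.leaf ([(-1), 0, (-4), 0, (-2)]))) (.node (.leaf ([])) (.leaf ([]))))) (.node (.node (.node (.node (.leaf ([])) (.leaf ([3, (-1), 3]))) (.leaf ([4, (-2), 3, 2, (-3)]))) (.node (.leaf ([(-2), 1, (-4)])) (.leaf ([37, (-14), 55, 2, 1])))) (.node (.node (.leaf ([0, 0, (-1)])) (.leaf ([]))) (.node (.leaf ([2, (-1), 2, 2])) (.leaf ([(-2),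 1, (-4), (-4), (-4)])))))))))))) (.node (.node (.node (.node (.node (.node (.node (.node (.node (.node (.node (.leaf ([])) (.leaf ([1, 0, 1]))) (.leaf ([]))) (.node (.leaf ([])) (.leaf ([(-4), 2, (-5), (-3)])))) (.node (.node (.leaf ([])) (.leaf ([13, (-5), 19, 1]))) (.node (.leaf ([1, 0, 2])) (.leaf ([(-1), 1, (-1)]))))) (.node (.node (.node (.node (.leaf ([])) (.leaf ([10, (-4), 14, 9, 5]))) (.leaf ([(-6), 2, (-10), 0, (-3)]))) (.node (.leaf ([])) (.leaf ([])))) (.node (.node (.leaf ([1, 0, 2])) (.leaf ([]))) (.node (.leaf ([])) (.leaf ([(-4), 2, (-4), (-2)])))))) (.node (.node (.node (.node (.node (.leaf ([])) (.leaf ([(-5), 2, (-8), 1]))) (.leaf ([]))) (.node (.leaf ([])) (.leaf ([])))) (.node (.node (.leaf ([])) (.leaf ([(-2), 1, (-3), 1]))) (.node (.leaf ([8, (-3), 11, 2])) (.leaf ([(-5), 2, (-7)]))))) (.node (.node (.node (.node (.leaf ([])) (.leaf ([(-2), 1, (-3), 1]))) (.leaf ([(-3), 1, (-5), 1]))) (.node (.leaf ([])) (.leaf ([(-7), 3, (-10)])))) (.node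 (.node (.leaf ([])) (.leaf ([]))) (.node (.leaf ([])) (.leaf ([(-7), 3, (-10), 1, 2]))))))) (.node (.node (.node (.node (.node (.node (.leaf ([])) (.leaf ([15, (-5), 23, (-8), (-6)]))) (.leaf ([1, 0, 0, 1]))) (.node (.leaf ([1, 0, 1])) (.leaf ([(-7), 3, (-9), (-3), (-1)])))) (.node (.node (.leaf ([])) (.leaf ([]))) (.node (.leaf ([])) (.leaf ([(-16), 7, (-22), (-5)]))))) (.node (.node (.node (.node (.leaf ([])) (.leaf ([3, (-1), 4]))) (.leaf ([(-1), 1, (-3), 1]))) (.node (.leaf ([])) (.leaf ([6, (-2), 8, 1])))) (.node (.node (.leaf ([(-2), 1, (-3)])) (.leaf ([(-3), 1, (-5), 1, (-1)]))) (.node (.leaf ([2, 0, 4, (-1)])) (.leaf ([])))))) (.node (.node (.node (.node (.node (.leaf ([])) (.leaf ([1, 0, 1]))) (.leaf ([]))) (.node (.leaf ([])) (.leaf ([])))) (.node (.node (.leaf ([])) (.leaf ([]))) (.node (.leaf ([(-9), 4, (-12), (-4)])) (.leaf ([8, (-3), 12, 2]))))) (.node (.node (.node (.node (.leaf ([1, 0, 1])) (.leaf ([(-8), 3, (-13), 2]))) (.leaf ([]))) (.node (.leaf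 ([])) (.leaf ([])))) (.node (.node (.leaf ([])) (.leaf ([1, 0, 3, (-3), (-1)]))) (.node (.leaf ([])) (.leaf ([(-2), 1, (-4), 1])))))))) (.node (.node (.node (.node (.node (.node (.node (.leaf ([])) (.leaf ([]))) (.leaf ([1, 0, 3, (-2)]))) (.node (.leaf ([])) (.leaf ([4, (-1), 7, (-3), (-1)])))) (.node (.node (.leaf ([])) (.leaf ([]))) (.node (.leaf ([])) (.leaf ([7, (-2), 12, (-2)]))))) (.node (.node (.node (.node (.leaf ([])) (.leaf ([(-19), 9, (-22), (-14), (-2)]))) (.leaf ([]))) (.node (.leaf ([])) (.leaf ([])))) (.node (.node (.leaf ([])) (.leaf ([(-5), 2, (-8), 3, 2]))) (.node (.leaf ([])) (.leaf ([(-7), 3, (-10), (-2)])))))) (.node (.node (.node (.node (.node (.leaf ([])) (.leaf ([6, (-2), 9]))) (.leaf ([0, 0, (-1), 2]))) (.node (.leaf ([(-2), 1, (-2), 0, 1])) (.leaf ([1, 0, 1])))) (.node (.node (.leaf ([])) (.leaf ([(-2), 1, (-3), (-1), (-1)]))) (.node (.leaf ([])) (.leaf ([1, 0, 1]))))) (.node (.node (.node (.node (.leaf ([0, 0, 0, 1])) (.leaf ([1, 0, 1,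 (-1), (-1)]))) (.leaf ([(-2), 1, (-2), (-1)]))) (.node (.leaf ([(-2), 1, (-3)])) (.leaf ([])))) (.node (.node (.leaf ([])) (.leaf ([3, (-1), 4, 2]))) (.node (.leaf ([1, 0, 2])) (.leaf ([3, (-1), 4]))))))) (.node (.node (.node (.node (.node (.node (.leaf ([])) (.leaf ([2, 0, 3, (-2)]))) (.leaf ([]))) (.node (.leaf ([])) (.leaf ([])))) (.node (.node (.leaf ([])) (.leaf ([(-5), 2, (-8), 1]))) (.node (.leaf ([])) (.leaf ([]))))) (.node (.node (.node (.node (.leaf ([])) (.leaf ([(-8), 3, (-13), 1]))) (.leaf ([(-1), 0, (-3), 1, (-3)]))) (.node (.leaf ([])) (.leaf ([10, (-4), 14, 2, (-1)])))) (.node (.node (.leaf ([2, (-1), 1, 2, (-1)])) (.leaf ([(-4), 2, (-5), (-2)]))) (.node (.leaf ([])) (.leaf ([4, (-1), 5])))))) (.node (.node (.node (.node (.node (.leaf ([])) (.leaf ([46, (-20), 57, 35, 10]))) (.leaf ([]))) (.node (.leaf ([])) (.leaf ([])))) (.node (.node (.leaf ([])) (.leaf ([2, (-1), 2, 0, (-3)]))) (.node (.leaf ([1, 0, 2])) (.leaf ([(-10), 4, (-14), (-3), (-2)])))))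 (.node (.node (.node (.node (.leaf ([])) (.leaf ([4, (-1), 5, 4, 4]))) (.leaf ([]))) (.node (.leaf ([])) (.leaf ([(-4), 2, (-5), (-2)])))) (.node (.node (.leaf ([])) (.leaf ([(-5), 2, (-8), (-2), (-1)]))) (.node (.leaf ([(-7), 3, (-10), (-2)])) (.leaf ([12, (-5), 13, 12, 3]))))))))) (.node (.node (.node (.node (.node (.node (.node (.node (.leaf ([])) (.leaf ([]))) (.leaf ([1, 0, 3, (-1)]))) (.node (.leaf ([])) (.leaf ([(-1), 1, 0, (-8), (-4)])))) (.node (.node (.leaf ([])) (.leaf ([0, 1]))) (.node (.leaf ([])) (.leaf ([3, (-1), 4, 2]))))) (.node (.node (.node (.node (.leaf ([])) (.leaf ([]))) (.leaf ([13, (-5), 18, 5, 2]))) (.node (.leaf ([])) (.leaf ([])))) (.node (.node (.leaf ([0, 1])) (.leaf ([]))) (.node (.leaf ([(-3), 1, (-5), 1])) (.leaf ([1, 0, 2, 1, 2])))))) (.node (.node (.node (.node (.node (.leaf ([])) (.leaf ([(-5), 2, (-8), (-3), (-3)]))) (.leaf ([14, (-6), 17, 7]))) (.node (.leaf ([])) (.leaf ([(-8), 3, (-12), 0, (-1)])))) (.node (.node (.leaf ([]))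 (.leaf ([(-2), 1, (-2), (-3), (-1)]))) (.node (.leaf ([])) (.leaf ([7, (-3), 8, 3, (-2)]))))) (.node (.node (.node (.node (.leaf ([])) (.leaf ([1, 0, 1]))) (.leaf ([]))) (.node (.leaf ([])) (.leaf ([])))) (.node (.node (.leaf ([])) (.leaf ([]))) (.node (.leaf ([])) (.leaf ([]))))))) (.node (.node (.node (.node (.node (.node (.leaf ([])) (.leaf ([]))) (.leaf ([]))) (.node (.leaf ([])) (.leaf ([26, (-10), 37, 4])))) (.node (.node (.leaf ([])) (.leaf ([(-6), 3, (-7), (-3)]))) (.node (.leaf ([])) (.leaf ([(-2), 2, 1, (-7), 2]))))) (.node (.node (.node (.node (.leaf ([])) (.leaf ([]))) (.leaf ([6, (-2), 10]))) (.node (.leaf ([])) (.leaf ([])))) (.node (.node (.leaf ([])) (.leaf ([(-2), 1, (-2), (-1), (-1)]))) (.node (.leaf ([])) (.leaf ([(-20), 8, (-29), (-1), 2])))))) (.node (.node (.node (.node (.node (.leaf ([])) (.leaf ([(-1), 1, (-1), (-4), (-2)]))) (.leaf ([1, 0, 2]))) (.node (.leaf ([(-2), 1, (-3)])) (.leaf ([25, (-10), 35, 2, (-4)])))) (.node (.node (.leaf ([]))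 (.leaf ([(-27), 10, (-42), 1, (-3)]))) (.node (.leaf ([])) (.leaf ([(-2), 1, (-2), (-1)]))))) (.node (.node (.node (.node (.leaf ([])) (.leaf ([(-5), 2, (-8), (-6), (-5)]))) (.leaf ([(-1), 1, (-1)]))) (.node (.leaf ([])) (.leaf ([(-4), 2, (-6), (-1), (-1)])))) (.node (.node (.leaf ([])) (.leaf ([(-9), 4, (-12), 0, 1]))) (.node (.leaf ([(-8), 3, (-12), 1])) (.leaf ([(-4), 2, (-5), (-2), 1])))))))) (.node (.node (.node (.node (.node (.node (.node (.leaf ([])) (.leaf ([(-17), 6, (-28), 3, (-1)]))) (.leaf ([9, (-3), 15, 1, 2]))) (.node (.leaf ([])) (.leaf ([])))) (.node (.node (.leaf ([(-7), 3, (-10), (-1), 1])) (.leaf ([6, (-2), 10, (-1)]))) (.node (.leaf ([])) (.leaf ([7, (-2), 12, 2, 3]))))) (.node (.node (.node (.node (.leaf ([])) (.leaf ([23, (-9), 32, 4]))) (.leaf ([]))) (.node (.leaf ([])) (.leaf ([(-16), 6, (-24), (-1), (-2)])))) (.node (.node (.leaf ([])) (.leaf ([1, 0, 1]))) (.node (.leaf ([(-2), 1, (-2), (-1)])) (.leaf ([(-7), 3, (-11), (-2)])))))) (.node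 (.node (.node (.node (.node (.leaf ([])) (.leaf ([(-14), 6, (-19), (-3)]))) (.leaf ([]))) (.node (.leaf ([])) (.leaf ([(-1), 1, (-2)])))) (.node (.node (.leaf ([])) (.leaf ([9, (-4), 10, 7, 1]))) (.node (.leaf ([(-1), 1, (-1)])) (.leaf ([2, 0, 6, (-11), (-6)]))))) (.node (.node (.node (.node (.leaf ([])) (.leaf ([(-15), 6, (-22), (-1), 1]))) (.leaf ([]))) (.node (.leaf ([])) (.leaf ([(-4), 2, (-5), (-2)])))) (.node (.node (.leaf ([])) (.leaf ([]))) (.node (.leaf ([0, 1])) (.leaf ([]))))))) (.node (.node (.node (.node (.node (.node (.leaf ([])) (.leaf ([4, (-1), 5, (-2), (-2)]))) (.leaf ([]))) (.node (.leaf ([(-2), 1, (-3)])) (.leaf ([])))) (.node (.node (.leaf ([])) (.leaf ([0, 0, (-1), 2]))) (.node (.leaf ([])) (.leaf ([8, (-3), 11, (-1), (-2)]))))) (.node (.node (.node (.node (.leaf ([])) (.leaf ([4, (-1), 6]))) (.leaf ([]))) (.node (.leaf ([])) (.leaf ([])))) (.node (.node (.leaf ([])) (.leaf ([(-1), 0, (-3), 4]))) (.node (.leaf ([])) (.leaf ([(-37), 14, (-56),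 (-2), (-2)])))))) (.node (.node (.node (.node (.node (.leaf ([])) (.leaf ([(-9), 4, (-12), (-4), (-1)]))) (.leaf ([]))) (.node (.leaf ([])) (.leaf ([12, (-4), 18])))) (.node (.node (.leaf ([(-4), 2, (-4), (-3)])) (.leaf ([]))) (.node (.leaf ([(-1), 1, 1, (-2), 2])) (.leaf ([]))))) (.node (.node (.node (.node (.leaf ([])) (.leaf ([8, (-3), 9, 5, 1]))) (.leaf ([(-3), 1, (-5), 3, 2]))) (.node (.leaf ([(-4), 2, (-5), (-3)])) (.leaf ([3, (-1), 5])))) (.node (.node (.leaf ([])) (.leaf ([0, 0, 0, 1]))) (.node (.leaf ([])) (.leaf ([(-4), 2, (-5), (-2)])))))))))) (.node (.node (.node (.node (.node (.node (.node (.node (.node (.leaf ([])) (.leaf ([(-1), 1, (-1)]))) (.leaf ([]))) (.node (.leaf ([])) (.leaf ([])))) (.node (.node (.leaf ([])) (.leaf ([0, 0, (-1), 2]))) (.node (.leaf ([0, 0, 0, 1])) (.leaf ([]))))) (.node (.node (.node (.node (.leaf ([])) (.leaf ([(-35), 15, (-46), (-12), 1]))) (.leaf ([]))) (.node (.leaf ([(-14), 6, (-18), (-4)])) (.leaf ([(-7), 3, (-10), 2,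 2])))) (.node (.node (.leaf ([0, 0, 0, 1])) (.leaf ([2, (-1), 2, 3, 1]))) (.node (.leaf ([])) (.leaf ([])))))) (.node (.node (.node (.node (.node (.leaf ([])) (.leaf ([1, 0, 1]))) (.leaf ([]))) (.node (.leaf ([])) (.leaf ([1, 0, 2])))) (.node (.node (.leaf ([])) (.leaf ([18, (-7), 26, 8, 4]))) (.node (.leaf ([])) (.leaf ([0, 0, 0, 1]))))) (.node (.node (.node (.node (.leaf ([])) (.leaf ([4, (-1), 7, (-6), (-4)]))) (.leaf ([16, (-6), 23, 2]))) (.node (.leaf ([])) (.leaf ([])))) (.node (.node (.leaf ([])) (.leaf ([]))) (.node (.leaf ([])) (.leaf ([(-46), 17, (-71), 4]))))))) (.node (.node (.node (.node (.node (.node (.leaf ([])) (.leaf ([7, (-2), 11, (-2)]))) (.leaf ([]))) (.node (.leaf ([])) (.leaf ([])))) (.node (.node (.leaf ([])) (.leaf ([]))) (.node (.leaf ([])) (.leaf ([(-2), 1, (-4), (-3), (-2)]))))) (.node (.node (.node (.node (.leaf ([])) (.leaf ([(-17), 6, (-28), 3, (-1)]))) (.leaf ([]))) (.node (.leaf ([0, 0, 0, 1])) (.leaf ([])))) (.node (.node (.leaf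 ([])) (.leaf ([9, (-3), 14, 4, 3]))) (.node (.leaf ([])) (.leaf ([])))))) (.node (.node (.node (.node (.node (.leaf ([])) (.leaf ([]))) (.leaf ([]))) (.node (.leaf ([])) (.leaf ([(-4), 2, (-5), (-2)])))) (.node (.node (.leaf ([])) (.leaf ([]))) (.node (.leaf ([])) (.leaf ([2, (-1), 1, 5]))))) (.node (.node (.node (.node (.leaf ([])) (.leaf ([(-42), 16, (-63), 1]))) (.leaf ([]))) (.node (.leaf ([6, (-2), 8, 2])) (.leaf ([])))) (.node (.node (.leaf ([])) (.leaf ([10, (-4), 14, 0, (-3)]))) (.node (.leaf ([])) (.leaf ([13, (-5), 18, 4, 2])))))))) (.node (.node (.node (.node (.node (.node (.node (.leaf ([])) (.leaf ([(-1), 1, (-2), (-1), (-1)]))) (.leaf ([]))) (.node (.leaf ([])) (.leaf ([5, (-2), 7, 2, 1])))) (.node (.node (.leaf ([])) (.leaf ([]))) (.node (.leaf ([])) (.leaf ([(-2), 1, (-2)]))))) (.node (.node (.node (.node (.leaf ([])) (.leaf ([17, (-7), 22, 3, (-2)]))) (.leaf ([]))) (.node (.leaf ([])) (.leaf ([])))) (.node (.node (.leaf ([])) (.leaf ([]))) (.node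 (.leaf ([])) (.leaf ([])))))) (.node (.node (.node (.node (.node (.leaf ([])) (.leaf ([(-8), 4, (-8), (-3), 4]))) (.leaf ([3, (-1), 4]))) (.node (.leaf ([])) (.leaf ([])))) (.node (.node (.leaf ([])) (.leaf ([]))) (.node (.leaf ([])) (.leaf ([(-24), 9, (-36), (-4), (-5)]))))) (.node (.node (.node (.node (.leaf ([])) (.leaf ([(-4), 2, (-7), 1, 1]))) (.leaf ([2, 0, 4, (-1)]))) (.node (.leaf ([])) (.leaf ([4, (-1), 6, 1, 1])))) (.node (.node (.leaf ([1, 0, 1])) (.leaf ([1, 0, 2]))) (.node (.leaf ([0, 0, (-1), 2])) (.leaf ([4, (-1), 6, (-1)]))))))) (.node (.node (.node (.node (.node (.node (.leaf ([])) (.leaf ([0, 0, (-2), 3]))) (.leaf ([]))) (.node (.leaf ([])) (.leaf ([])))) (.node (.node (.leaf ([])) (.leaf ([]))) (.node (.leaf ([])) (.leaf ([(-5), 2, (-7)]))))) (.node (.node (.node (.node (.leaf ([])) (.leaf ([(-2), 1, (-3)]))) (.leaf ([(-10), 4, (-14), (-1)]))) (.node (.leaf ([3, (-1), 4, 1, 1])) (.leaf ([0, 0, 0, 1])))) (.node (.node (.leaf ([])) (.leaf ([])))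 (.node (.leaf ([(-7), 3, (-11), 1])) (.leaf ([(-1), 1, (-3), 1])))))) (.node (.node (.node (.node (.node (.leaf ([])) (.leaf ([]))) (.leaf ([]))) (.node (.leaf ([])) (.leaf ([])))) (.node (.node (.leaf ([3, (-1), 5, 1, 1])) (.leaf ([(-11), 5, (-14), (-4)]))) (.node (.leaf ([3, (-1), 5, 1, 1])) (.leaf ([(-4), 2, (-5), (-1)]))))) (.node (.node (.node (.node (.leaf ([])) (.leaf ([(-4), 2, (-6), (-1)]))) (.leaf ([]))) (.node (.leaf ([(-9), 4, (-11), (-3), 1])) (.leaf ([])))) (.node (.node (.leaf ([])) (.leaf ([(-4), 2, (-6), (-1)]))) (.node (.leaf ([])) (.leaf ([2, 0, 2, 0, (-1)]))))))))) (.node (.node (.node (.node (.node (.node (.node (.node (.leaf ([])) (.leaf ([3, (-1), 4, 2]))) (.leaf ([]))) (.node (.leaf ([])) (.leaf ([])))) (.node (.node (.leaf ([])) (.leaf ([]))) (.node (.leaf ([])) (.leaf ([]))))) (.node (.node (.node (.node (.leaf ([])) (.leaf ([(-11), 5, (-15), (-3)]))) (.leaf ([]))) (.node (.leaf ([])) (.leaf ([5, (-2), 6, 3])))) (.node (.node (.leaf ([]))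 (.leaf ([3, (-1), 5, 1, 1]))) (.node (.leaf ([(-2), 1, (-3)])) (.leaf ([(-10), 4, (-15), (-3), (-4)])))))) (.node (.node (.node (.node (.node (.leaf ([])) (.leaf ([(-1), 1, (-1), (-4), (-2)]))) (.leaf ([]))) (.node (.leaf ([])) (.leaf ([5, (-1), 11, (-4), 2])))) (.node (.node (.leaf ([(-1), 1, (-1)])) (.leaf ([0, 0, 0, 1]))) (.node (.leaf ([1, 0, 1])) (.leaf ([(-11), 4, (-18), 3]))))) (.node (.node (.node (.node (.leaf ([])) (.leaf ([]))) (.leaf ([]))) (.node (.leaf ([])) (.leaf ([])))) (.node (.node (.leaf ([(-2), 1, (-3)])) (.leaf ([]))) (.node (.leaf ([7, (-3), 9, 4])) (.leaf ([5, (-2), 6, 2]))))))) (.node (.node (.node (.node (.node (.node (.leaf ([])) (.leaf ([3, (-1), 5]))) (.leaf ([]))) (.node (.leaf ([])) (.leaf ([])))) (.node (.node (.leaf ([0, 0, 0, 1])) (.leaf ([]))) (.node (.leaf ([])) (.leaf ([]))))) (.node (.node (.node (.node (.leaf ([])) (.leaf ([]))) (.leaf ([1, 0, 2]))) (.node (.leaf ([])) (.leaf ([2, 0, 5, (-2), 3])))) (.node (.node (.leaf ([]))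 (.leaf ([1, 0, 3, (-1), 2]))) (.node (.leaf ([])) (.leaf ([8, (-3), 10, 4, 1])))))) (.node (.node (.node (.node (.node (.leaf ([])) (.leaf ([(-22), 9, (-31), (-8), (-4)]))) (.leaf ([0, 0, 0, 1]))) (.node (.leaf ([])) (.leaf ([0, 1])))) (.node (.node (.leaf ([])) (.leaf ([0, 0, 0, 0, (-1)]))) (.node (.leaf ([])) (.leaf ([2, (-1), 2, 3]))))) (.node (.node (.node (.node (.leaf ([])) (.leaf ([(-19), 8, (-26), (-3), 2]))) (.leaf ([1, 0, 1, 1, 1]))) (.node (.leaf ([])) (.leaf ([(-4), 2, (-5), (-1), (-1)])))) (.node (.node (.leaf ([0, 0, 0, 1])) (.leaf ([(-1), 1, (-2), (-2), (-1)]))) (.node (.leaf ([(-2), 1, (-2)])) (.leaf ([23, (-9), 32, 7, 3])))))))) (.node (.node (.node (.node (.node (.node (.node (.leaf ([])) (.leaf ([]))) (.leaf ([]))) (.node (.leaf ([])) (.leaf ([])))) (.node (.node (.leaf ([])) (.leaf ([]))) (.node (.leaf ([])) (.leaf ([1, 0, 0, 1]))))) (.node (.node (.node (.node (.leaf ([])) (.leaf ([(-2), 1, (-3)]))) (.leaf ([]))) (.node (.leaf ([])) (.leaf ([3,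 (-1), 4, 2])))) (.node (.node (.leaf ([])) (.leaf ([0, 0, 0, 1]))) (.node (.leaf ([0, 0, 0, 1])) (.leaf ([(-10), 4, (-15), (-1), 1])))))) (.node (.node (.node (.node (.node (.leaf ([])) (.leaf ([0, 0, (-1), 3]))) (.leaf ([]))) (.node (.leaf ([])) (.leaf ([(-3), 2, (-3), (-3), 1])))) (.node (.node (.leaf ([])) (.leaf ([10, (-4), 14, 3, 1]))) (.node (.leaf ([(-6), 3, (-9), (-2)])) (.leaf ([8, (-3), 10, 3]))))) (.node (.node (.node (.node (.leaf ([])) (.leaf ([43, (-18), 55, 12, (-7)]))) (.leaf ([]))) (.node (.leaf ([])) (.leaf ([])))) (.node (.node (.leaf ([(-1), 1, (-2)])) (.leaf ([(-2), 1, (-2), (-1), (-1)]))) (.node (.leaf ([])) (.leaf ([16, (-6), 23, 1]))))))) (.node (.node (.node (.node (.node (.node (.leaf ([])) (.leaf ([(-2), 1, (-3)]))) (.leaf ([6, (-2), 8, 1]))) (.node (.leaf ([0, 0, 0, (-1), (-1)])) (.leaf ([(-1), 1, (-3), 1])))) (.node (.node (.leaf ([])) (.leaf ([]))) (.node (.leaf ([])) (.leaf ([(-8), 3, (-12), 0, (-1)]))))) (.node (.node (.node (.node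 (.leaf ([0, 0, 0, 0, (-1)])) (.leaf ([8, (-3), 9, 4]))) (.leaf ([]))) (.node (.leaf ([])) (.leaf ([(-7), 3, (-10), (-1), 1])))) (.node (.node (.leaf ([])) (.leaf ([0, 1, 1, (-2)]))) (.node (.leaf ([])) (.leaf ([])))))) (.node (.node (.node (.node (.node (.leaf ([1, 0, 1])) (.leaf ([(-8), 2, (-16), 1, (-7)]))) (.leaf ([]))) (.node (.leaf ([(-2), 1, (-3), 1])) (.leaf ([])))) (.node (.node (.leaf ([])) (.leaf ([]))) (.node (.leaf ([])) (.leaf ([]))))) (.node (.node (.node (.node (.leaf ([(-2), 1, (-3)])) (.leaf ([(-12), 5, (-19), (-1), (-2)]))) (.leaf ([15, (-6), 20, 3, (-2)]))) (.node (.leaf ([])) (.leaf ([1, 0, 1])))) (.node (.node (.leaf ([])) (.leaf ([2, (-1), 1, 1, (-2)]))) (.node (.leaf ([(-13), 5, (-19), (-1), (-1)])) (.leaf ([]))))))))))) (.node (.node (.node (.node (.node (.node (.node (.node (.node (.node (.leaf ([])) (.leaf ([]))) (.leaf ([]))) (.node (.leaf ([])) (.leaf ([])))) (.node (.node (.leaf ([])) (.leaf ([]))) (.node (.leaf ([])) (.leaf ([])))))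 (.node (.node (.node (.node (.leaf ([])) (.leaf ([(-45), 20, (-55), (-34), (-10)]))) (.leaf ([]))) (.node (.leaf ([])) (.leaf ([])))) (.node (.node (.leaf ([])) (.leaf ([5, (-2), 6, 1, (-1)]))) (.node (.leaf ([])) (.leaf ([1, 0, 1])))))) (.node (.node (.node (.node (.node (.leaf ([])) (.leaf ([]))) (.leaf ([3, (-1), 4]))) (.node (.leaf ([])) (.leaf ([11, (-4), 16, 2])))) (.node (.node (.leaf ([])) (.leaf ([]))) (.node (.leaf ([])) (.leaf ([]))))) (.node (.node (.node (.node (.leaf ([])) (.leaf ([0, (-1), (-5), 3, (-6)]))) (.leaf ([]))) (.node (.leaf ([])) (.leaf ([1, 0, 2, 1, 2])))) (.node (.node (.leaf ([0, 0, 0, 1])) (.leaf ([1, 0, 1]))) (.node (.leaf ([])) (.leaf ([1, 0, 2, (-3), (-2)]))))))) (.node (.node (.node (.node (.node (.node (.leaf ([])) (.leaf ([(-1), 1, (-1), (-4)]))) (.leaf ([(-2), 1, (-4), 1]))) (.node (.leaf ([])) (.leaf ([])))) (.node (.node (.leaf ([])) (.leaf ([]))) (.node (.leaf ([(-3), 1, (-5), (-2), (-3)])) (.leaf ([11, (-4), 15, 0, (-2)])))))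 (.node (.node (.node (.node (.leaf ([])) (.leaf ([15, (-6), 20, 3]))) (.leaf ([]))) (.node (.leaf ([(-7), 3, (-10), (-2)])) (.leaf ([(-2), 1, (-3), (-1), (-1)])))) (.node (.node (.leaf ([])) (.leaf ([]))) (.node (.leaf ([(-5), 2, (-7)])) (.leaf ([(-2), 1, (-3), (-3), (-2)])))))) (.node (.node (.node (.node (.node (.leaf ([])) (.leaf ([25, (-11), 30, 13, (-3)]))) (.leaf ([1, 0, 2, (-4), (-2)]))) (.node (.leaf ([])) (.leaf ([(-8), 3, (-13), 2])))) (.node (.node (.leaf ([])) (.leaf ([0, 0, 0, 1]))) (.node (.leaf ([(-2), 1, (-3), 1])) (.leaf ([(-12), 6, (-13), (-10)]))))) (.node (.node (.node (.node (.leaf ([])) (.leaf ([0, 0, 0, 1]))) (.leaf ([(-3), 1, (-5), 0, (-2)]))) (.node (.leaf ([])) (.leaf ([0, 0, 0, 1])))) (.node (.node (.leaf ([(-1), 1, (-1)])) (.leaf ([1, 0, 2, 0, (-1)]))) (.node (.leaf ([])) (.leaf ([])))))))) (.node (.node (.node (.node (.node (.node (.node (.leaf ([])) (.leaf ([(-6), 3, (-10)]))) (.leaf ([(-2), 1, (-3), 1]))) (.node (.leaf ([])) (.leaf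 ([(-15), 6, (-22), 0, 2])))) (.node (.node (.leaf ([])) (.leaf ([]))) (.node (.leaf ([])) (.leaf ([(-1), 1, (-2), (-1), (-1)]))))) (.node (.node (.node (.node (.leaf ([])) (.leaf ([3, (-1), 2, 4]))) (.leaf ([(-2), 1, (-3)]))) (.node (.leaf ([1, 0, 3, 0, 2])) (.leaf ([1, 0, 3, (-1)])))) (.node (.node (.leaf ([])) (.leaf ([(-11), 5, (-13), (-2), 3]))) (.node (.leaf ([5, (-2), 7, 2])) (.leaf ([(-2), 1, (-3), (-1)])))))) (.node (.node (.node (.node (.node (.leaf ([])) (.leaf ([8, (-3), 11, 3]))) (.leaf ([]))) (.node (.leaf ([])) (.leaf ([8, (-3), 12, 1])))) (.node (.node (.leaf ([])) (.leaf ([]))) (.node (.leaf ([])) (.leaf ([0, 0, 0, 5, 4]))))) (.node (.node (.node (.node (.leaf ([])) (.leaf ([(-13), 6, (-15), (-9), (-1)]))) (.leaf ([1, 0, 2, (-1)]))) (.node (.leaf ([1, 0, 2])) (.leaf ([(-2), 1, (-3), 0, 1])))) (.node (.node (.leaf ([])) (.leaf ([(-6), 3, (-8), (-2)]))) (.node (.leaf ([])) (.leaf ([5, (-2), 6, 1]))))))) (.node (.node (.node (.node (.node (.node (.leaf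 ([])) (.leaf ([2, (-1), 2, 2, (-1)]))) (.leaf ([]))) (.node (.leaf ([])) (.leaf ([3, (-1), 4, 1])))) (.node (.node (.leaf ([])) (.leaf ([]))) (.node (.leaf ([])) (.leaf ([3, (-1), 5]))))) (.node (.node (.node (.node (.leaf ([])) (.leaf ([(-12), 5, (-17), (-5), (-2)]))) (.leaf ([]))) (.node (.leaf ([])) (.leaf ([])))) (.node (.node (.leaf ([])) (.leaf ([(-2), 1, (-3)]))) (.node (.leaf ([(-1), 1, (-2)])) (.leaf ([(-3), 1, (-6), 2])))))) (.node (.node (.node (.node (.node (.leaf ([])) (.leaf ([34, (-12), 54, (-4), 1]))) (.leaf ([(-1), 0, (-4), 3, (-1)]))) (.node (.leaf ([(-1), 1, (-1)])) (.leaf ([])))) (.node (.node (.leaf ([])) (.leaf ([(-17), 8, (-20), (-14), (-2)]))) (.node (.leaf ([])) (.leaf ([(-1), 1, 0, (-2)]))))) (.node (.node (.node (.node (.leaf ([])) (.leaf ([(-16), 7, (-22), (-6)]))) (.leaf ([]))) (.node (.leaf ([])) (.leaf ([(-2), 1, (-3)])))) (.node (.node (.leaf ([])) (.leaf ([]))) (.node (.leaf ([])) (.leaf ([]))))))))) (.node (.node (.node (.node (.node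 (.node (.node (.node (.leaf ([])) (.leaf ([20, (-9), 23, 11, (-2)]))) (.leaf ([3, (-1), 4, 3, 2]))) (.node (.leaf ([(-5), 2, (-7), 1, 1])) (.leaf ([3, (-1), 4])))) (.node (.node (.leaf ([])) (.leaf ([1, 0, 1]))) (.node (.leaf ([])) (.leaf ([1, 0, 2]))))) (.node (.node (.node (.node (.leaf ([])) (.leaf ([10, (-4), 14, 3]))) (.leaf ([]))) (.node (.leaf ([1, 0, 2])) (.leaf ([])))) (.node (.node (.leaf ([])) (.leaf ([(-2), 1, (-2), 0, 1]))) (.node (.leaf ([])) (.leaf ([])))))) (.node (.node (.node (.node (.node (.leaf ([])) (.leaf ([(-19), 8, (-25), (-1), 5]))) (.leaf ([]))) (.node (.leaf ([])) (.leaf ([(-2), 1, (-3), 1, 1])))) (.node (.node (.leaf ([])) (.leaf ([(-11), 5, (-15), (-4)]))) (.node (.leaf ([])) (.leaf ([(-6), 3, (-8), (-2)]))))) (.node (.node (.node (.node (.leaf ([])) (.leaf ([(-9), 2, (-21), 10, (-5)]))) (.leaf ([6, (-2), 7, 2]))) (.node (.leaf ([])) (.leaf ([])))) (.node (.node (.leaf ([])) (.leaf ([]))) (.node (.leaf ([])) (.leaf ([3, (-1), 3, 1])))))))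 (.node (.node (.node (.node (.node (.node (.leaf ([])) (.leaf ([(-14), 6, (-19), (-3)]))) (.leaf ([]))) (.node (.leaf ([])) (.leaf ([8, (-3), 10, 4, 1])))) (.node (.node (.leaf ([])) (.leaf ([2, 0, 6, (-4), 1]))) (.node (.leaf ([])) (.leaf ([(-19), 7, (-30), (-4), (-6)]))))) (.node (.node (.node (.node (.leaf ([])) (.leaf ([1, 0, 1]))) (.leaf ([]))) (.node (.leaf ([(-2), 1, (-3)])) (.leaf ([7, (-3), 8, 5, 1])))) (.node (.node (.leaf ([])) (.leaf ([]))) (.node (.leaf ([1, 0, 1])) (.leaf ([(-2), 1, (-3)])))))) (.node (.node (.node (.node (.node (.leaf ([])) (.leaf ([(-14), 6, (-19), (-4)]))) (.leaf ([]))) (.node (.leaf ([])) (.leaf ([])))) (.node (.node (.leaf ([])) (.leaf ([1, 0, 2]))) (.node (.leaf ([(-2), 1, (-2)])) (.leaf ([(-3), 2, (-4), (-2)]))))) (.node (.node (.node (.node (.leaf ([])) (.leaf ([(-15), 7, (-19), (-7)]))) (.leaf ([]))) (.node (.leaf ([3, (-1), 4])) (.leaf ([0, 0, 0, 1, (-1)])))) (.node (.node (.leaf ([])) (.leaf ([]))) (.node (.leaf ([])) (.leaf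 ([])))))))) (.node (.node (.node (.node (.node (.node (.node (.leaf ([])) (.leaf ([4, (-1), 7, 1, 1]))) (.leaf ([6, (-2), 9, 2]))) (.node (.leaf ([0, 0, 0, 1])) (.leaf ([])))) (.node (.node (.leaf ([])) (.leaf ([(-2), 1, (-2)]))) (.node (.leaf ([(-2), 1, (-3), (-4), (-3)])) (.leaf ([14, (-5), 21, 3, 1]))))) (.node (.node (.node (.node (.leaf ([0, 0, 0, 1])) (.leaf ([34, (-14), 44, 12, (-1)]))) (.leaf ([(-6), 3, (-9), (-2)]))) (.node (.leaf ([])) (.leaf ([(-2), 1, (-4), 1])))) (.node (.node (.leaf ([0, 0, 0, 1])) (.leaf ([]))) (.node (.leaf ([1, 0, 2, (-1)])) (.leaf ([1, 0, 1, (-1)])))))) (.node (.node (.node (.node (.node (.leaf ([])) (.leaf ([1, 0, 2, 1, 2]))) (.leaf ([]))) (.node (.leaf ([])) (.leaf ([])))) (.node (.node (.leaf ([])) (.leaf ([(-3), 1, (-6), (-1), (-3)]))) (.node (.leaf ([])) (.leaf ([3, (-1), 5, 1, 1]))))) (.node (.node (.node (.node (.leaf ([])) (.leaf ([(-4), 2, (-5), (-1), 1]))) (.leaf ([6, (-2), 9]))) (.node (.leaf ([])) (.leaf ([(-9), 3,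 (-15), 4, (-1)])))) (.node (.node (.leaf ([])) (.leaf ([9, (-3), 14]))) (.node (.leaf ([1, 0, 1])) (.leaf ([17, (-7), 23, 5, (-1)]))))))) (.node (.node (.node (.node (.node (.node (.leaf ([])) (.leaf ([]))) (.leaf ([0, 0, 0, 1]))) (.node (.leaf ([])) (.leaf ([3, (-1), 4])))) (.node (.node (.leaf ([])) (.leaf ([]))) (.node (.leaf ([])) (.leaf ([]))))) (.node (.node (.node (.node (.leaf ([])) (.leaf ([]))) (.leaf ([]))) (.node (.leaf ([])) (.leaf ([(-1), 1, (-1), (-1), 1])))) (.node (.node (.leaf ([])) (.leaf ([3, (-1), 4, 1]))) (.node (.leaf ([])) (.leaf ([(-29), 11, (-45), (-1), (-3)])))))) (.node (.node (.node (.node (.node (.leaf ([])) (.leaf ([54, (-21), 78, 6, (-1)]))) (.leaf ([]))) (.node (.leaf ([(-7), 3, (-9), (-2)])) (.leaf ([(-7), 3, (-10), (-2)])))) (.node (.node (.leaf ([])) (.leaf ([]))) (.node (.leaf ([])) (.leaf ([]))))) (.node (.node (.node (.node (.leaf ([])) (.leaf ([29, (-11), 42, (-1), (-3)]))) (.leaf ([]))) (.node (.leaf ([])) (.leaf ([(-2),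 1, (-3)])))) (.node (.node (.leaf ([])) (.leaf ([(-4), 2, (-6), (-1)]))) (.node (.leaf ([])) (.leaf ([(-2), 1, (-3)])))))))))) (.node (.node (.node (.node (.node (.node (.node (.node (.node (.leaf ([])) (.leaf ([8, (-4), 7, 9]))) (.leaf ([]))) (.node (.leaf ([])) (.leaf ([(-4), 2, (-6)])))) (.node (.node (.leaf ([])) (.leaf ([]))) (.node (.leaf ([1, 0, 1])) (.leaf ([(-4), 1, (-8), 0, (-4)]))))) (.node (.node (.node (.node (.leaf ([])) (.leaf ([(-15), 6, (-21), (-5), (-4)]))) (.leaf ([5, (-2), 6, 2]))) (.node (.leaf ([])) (.leaf ([(-7), 3, (-9), (-3), (-1)])))) (.node (.node (.leaf ([])) (.leaf ([]))) (.node (.leaf ([(-5), 2, (-7), (-1), (-1)])) (.leaf ([(-20), 7, (-33), 2, (-5)])))))) (.node (.node (.node (.node (.node (.leaf ([])) (.leaf ([5, (-2), 6, 1, (-2)]))) (.leaf ([]))) (.node (.leaf ([])) (.leaf ([])))) (.node (.node (.leaf ([(-1), 1, (-2)])) (.leaf ([6, (-2), 9, 2]))) (.node (.leaf ([])) (.leaf ([]))))) (.node (.node (.node (.node (.leaf ([])) (.leaf ([14,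 (-6), 17, 9]))) (.leaf ([]))) (.node (.leaf ([0, 0, 0, 1])) (.leaf ([])))) (.node (.node (.leaf ([])) (.leaf ([(-1), 1, (-1)]))) (.node (.leaf ([(-7), 3, (-9), (-1), 2])) (.leaf ([1, 0, 1]))))))) (.node (.node (.node (.node (.node (.node (.leaf ([])) (.leaf ([(-18), 7, (-27), (-5), (-4)]))) (.leaf ([(-2), 1, (-3)]))) (.node (.leaf ([])) (.leaf ([5, (-2), 6, 2])))) (.node (.node (.leaf ([])) (.leaf ([]))) (.node (.leaf ([])) (.leaf ([(-8), 4, (-10), (-5)]))))) (.node (.node (.node (.node (.leaf ([])) (.leaf ([(-3), 2, (-4), 3, 5]))) (.leaf ([]))) (.node (.leaf ([(-2), 1, (-4), 1])) (.leaf ([2, (-1), 1, 0, (-3)])))) (.node (.node (.leaf ([])) (.leaf ([20, (-8), 28, 9, 4]))) (.node (.leaf ([(-4), 2, (-5), (-2)])) (.leaf ([])))))) (.node (.node (.node (.node (.node (.leaf ([0, 0, 0, 1])) (.leaf ([4, (-1), 7, (-1)]))) (.leaf ([]))) (.node (.leaf ([1, 0, 1])) (.leaf ([(-2), 1, (-3)])))) (.node (.node (.leaf ([])) (.leaf ([]))) (.node (.leaf ([])) (.leaf ([18, (-8), 21,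 14]))))) (.node (.node (.node (.node (.leaf ([])) (.leaf ([7, (-2), 10]))) (.leaf ([3, (-1), 3, 3]))) (.node (.leaf ([])) (.leaf ([2, 0, 2, 0, (-1)])))) (.node (.node (.leaf ([])) (.leaf ([]))) (.node (.leaf ([(-7), 3, (-9), (-5), (-2)])) (.leaf ([])))))))) (.node (.node (.node (.node (.node (.node (.node (.leaf ([])) (.leaf ([(-2), 1, (-3)]))) (.leaf ([6, (-2), 8, 2]))) (.node (.leaf ([1, 0, 2])) (.leaf ([15, (-6), 20, 3, (-1)])))) (.node (.node (.leaf ([])) (.leaf ([(-8), 4, (-10), (-4)]))) (.node (.leaf ([])) (.leaf ([2, (-1), 1, 4, 1]))))) (.node (.node (.node (.node (.leaf ([])) (.leaf ([]))) (.leaf ([3, (-1), 4, 1]))) (.node (.leaf ([])) (.leaf ([])))) (.node (.node (.leaf ([])) (.leaf ([]))) (.node (.leaf ([])) (.leaf ([20, (-9), 23, 15, 2])))))) (.node (.node (.node (.node (.node (.leaf ([])) (.leaf ([11, (-4), 17]))) (.leaf ([1, 0, 2, (-2)]))) (.node (.leaf ([])) (.leaf ([11, (-4), 15, 3])))) (.node (.node (.leaf ([0, 0, 0, 1])) (.leaf ([]))) (.node (.leaf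 ([])) (.leaf ([5, (-2), 6, 5, 2]))))) (.node (.node (.node (.node (.leaf ([])) (.leaf ([(-13), 5, (-21), 2, (-1)]))) (.leaf ([1, 0, 2, (-2)]))) (.node (.leaf ([])) (.leaf ([])))) (.node (.node (.leaf ([])) (.leaf ([]))) (.node (.leaf ([])) (.leaf ([]))))))) (.node (.node (.node (.node (.node (.node (.leaf ([])) (.leaf ([]))) (.leaf ([6, (-2), 8, 1]))) (.node (.leaf ([])) (.leaf ([4, (-1), 5])))) (.node (.node (.leaf ([])) (.leaf ([1, 0, 3, (-1)]))) (.node (.leaf ([(-2), 1, (-2), 0, 1])) (.leaf ([2, 0, 3, (-2)]))))) (.node (.node (.node (.node (.leaf ([])) (.leaf ([]))) (.leaf ([]))) (.node (.leaf ([])) (.leaf ([3, (-1), 3, 3])))) (.node (.node (.leaf ([])) (.leaf ([]))) (.node (.leaf ([(-1), 1, (-1)])) (.leaf ([6, (-2), 10, (-1)])))))) (.node (.node (.node (.node (.node (.leaf ([])) (.leaf ([(-14), 6, (-18), (-4)]))) (.leaf ([]))) (.node (.leaf ([(-6), 3, (-8), (-2)])) (.leaf ([5, (-2), 6, 2])))) (.node (.node (.leaf ([])) (.leaf ([0, 0, 0, 1]))) (.node (.leaf ([]))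 (.leaf ([0, 1, 3, (-6)]))))) (.node (.node (.node (.node (.leaf ([0, 0, 0, 1])) (.leaf ([5, (-2), 6, 2]))) (.leaf ([8, (-3), 11, 2]))) (.node (.leaf ([])) (.leaf ([])))) (.node (.node (.leaf ([])) (.leaf ([8, (-3), 11, 2]))) (.node (.leaf ([])) (.leaf ([2, 0, 4, (-1), 2]))))))))) (.node (.node (.node (.node (.node (.node (.node (.node (.leaf ([])) (.leaf ([1, 0, 2]))) (.leaf ([]))) (.node (.leaf ([(-4), 2, (-5), (-3)])) (.leaf ([2, (-1), 1, 3, 1])))) (.node (.node (.leaf ([])) (.leaf ([8, (-3), 11, 2]))) (.node (.leaf ([])) (.leaf ([4, (-1), 7, 0, 3]))))) (.node (.node (.node (.node (.leaf ([])) (.leaf ([31, (-11), 48, (-8), (-6)]))) (.leaf ([]))) (.node (.leaf ([12, (-5), 16, 4, (-1)])) (.leaf ([])))) (.node (.node (.leaf ([])) (.leaf ([]))) (.node (.leaf ([])) (.leaf ([4, (-1), 6])))))) (.node (.node (.node (.node (.node (.leaf ([])) (.leaf ([(-1), 0, (-4), 7, 2]))) (.leaf ([6, (-2), 8, 2]))) (.node (.leaf ([])) (.leaf ([0, 0, (-1), 1])))) (.node (.node (.leaf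 ([])) (.leaf ([(-4), 2, (-6), (-1)]))) (.node (.leaf ([(-2), 1, (-3)])) (.leaf ([]))))) (.node (.node (.node (.node (.leaf ([])) (.leaf ([(-3), 2, (-5), (-2)]))) (.leaf ([6, (-2), 8, 2]))) (.node (.leaf ([])) (.leaf ([6, (-2), 9, 0, 1])))) (.node (.node (.leaf ([1, 0, 2])) (.leaf ([(-8), 3, (-12)]))) (.node (.leaf ([(-8), 3, (-12), (-2), (-2)])) (.leaf ([2, 0, 4, (-2)]))))))) (.node (.node (.node (.node (.node (.node (.leaf ([])) (.leaf ([11, (-5), 13, 8]))) (.leaf ([3, (-1), 4, 1, 1]))) (.node (.leaf ([])) (.leaf ([])))) (.node (.node (.leaf ([])) (.leaf ([]))) (.node (.leaf ([])) (.leaf ([6, (-2), 9, 1]))))) (.node (.node (.node (.node (.leaf ([])) (.leaf ([(-1), 1, (-1)]))) (.leaf ([]))) (.node (.leaf ([])) (.leaf ([1, 0, 1, 0, (-1)])))) (.node (.node (.leaf ([])) (.leaf ([]))) (.node (.leaf ([(-3), 1, (-5), 0, (-2)])) (.leaf ([])))))) (.node (.node (.node (.node (.node (.leaf ([])) (.leaf ([(-62), 28, (-75), (-44), (-8)]))) (.leaf ([4, (-3), 0, 7, (-5)]))) (.node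 (.leaf ([])) (.leaf ([1, 0, 1])))) (.node (.node (.leaf ([])) (.leaf ([]))) (.node (.leaf ([])) (.leaf ([(-1), 0, (-3), 4]))))) (.node (.node (.node (.node (.leaf ([])) (.leaf ([18, (-7), 25, 1, (-3)]))) (.leaf ([]))) (.node (.leaf ([])) (.leaf ([])))) (.node (.node (.leaf ([])) (.leaf ([]))) (.node (.leaf ([])) (.leaf ([24, (-9), 35, 6, 4])))))))) (.node (.node (.node (.node (.node (.node (.node (.leaf ([])) (.leaf ([4, (-1), 6, (-1)]))) (.leaf ([(-7), 3, (-10), (-2)]))) (.node (.leaf ([0, 1])) (.leaf ([])))) (.node (.node (.leaf ([])) (.leaf ([(-7), 3, (-10), (-2)]))) (.node (.leaf ([(-2), 1, (-3)])) (.leaf ([]))))) (.node (.node (.node (.node (.leaf ([])) (.leaf ([(-2), 1, (-4), 1]))) (.leaf ([(-22), 9, (-31), (-7), (-2)]))) (.node (.leaf ([])) (.leaf ([(-1), 1, (-1), (-2)])))) (.node (.node (.leaf ([])) (.leaf ([]))) (.node (.leaf ([(-5), 2, (-7)])) (.leaf ([11, (-4), 14, 3])))))) (.node (.node (.node (.node (.node (.leaf ([])) (.leaf ([]))) (.leaf ([(-17),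 7, (-23), (-3), 1]))) (.node (.leaf ([])) (.leaf ([])))) (.node (.node (.leaf ([])) (.leaf ([(-9), 4, (-11), (-7), (-3)]))) (.node (.leaf ([])) (.leaf ([]))))) (.node (.node (.node (.node (.leaf ([])) (.leaf ([19, (-7), 27, 3, 1]))) (.leaf ([1, 0, 1]))) (.node (.leaf ([(-4), 2, (-5), (-3)])) (.leaf ([])))) (.node (.node (.leaf ([])) (.leaf ([(-2), 1, (-2)]))) (.node (.leaf ([])) (.leaf ([]))))))) (.node (.node (.node (.node (.node (.node (.leaf ([])) (.leaf ([(-6), 3, (-8), (-2)]))) (.leaf ([15, (-6), 19, 4]))) (.node (.leaf ([])) (.leaf ([])))) (.node (.node (.leaf ([1, 0, 1])) (.leaf ([5, (-2), 7, 2]))) (.node (.leaf ([])) (.leaf ([(-7), 3, (-9), (-1)]))))) (.node (.node (.node (.node (.leaf ([])) (.leaf ([(-6), 3, (-8), (-3)]))) (.leaf ([(-8), 3, (-12), (-2), (-3)]))) (.node (.leaf ([])) (.leaf ([])))) (.node (.node (.leaf ([])) (.leaf ([(-11), 5, (-14), (-7), (-2)]))) (.node (.leaf ([])) (.leaf ([(-8), 4, (-10), 0, 6])))))) (.node (.node (.node (.node (.node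 (.leaf ([])) (.leaf ([(-2), 1, (-3), 5, 5]))) (.leaf ([]))) (.node (.leaf ([])) (.leaf ([])))) (.node (.node (.leaf ([])) (.leaf ([]))) (.node (.leaf ([])) (.leaf ([(-8), 3, (-12), 4, 3]))))) (.node (.node (.node (.node (.leaf ([])) (.leaf ([(-13), 5, (-20), (-2), (-1)]))) (.leaf ([(-13), 5, (-19)]))) (.node (.leaf ([])) (.leaf ([])))) (.node (.node (.leaf ([])) (.leaf ([]))) (.node (.leaf ([])) (.leaf ([47, (-18), 68, 0, (-4)]))))))))))))

/-- data -/
def rank2 : Trie (ℕ) := .node (.node (.node (.node (.node (.node (.node (.node (.node (.node (.node (.node (.leaf 0) (.leaf 0)) (.leaf 0)) (.node (.leaf 0) (.leaf 0))) (.node (.node (.leaf 0) (.leaf 0)) (.node (.leaf 0) (.leaf 272)))) (.node (.node (.node (.node (.leaf 0) (.leaf 989)) (.leaf 804)) (.node (.leaf 0) (.leaf 425))) (.node (.node (.leaf 0) (.leaf 619)) (.node (.leaf 0) (.leaf 249))))) (.node (.node (.node (.node (.node (.leaf 0) (.leaf 918)) (.leaf 0)) (.node (.leaf 44) (.leaf 516))) (.node (.node (.leaf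 0) (.leaf 917)) (.node (.leaf 614) (.leaf 732)))) (.node (.node (.node (.node (.leaf 0) (.leaf 772)) (.leaf 0)) (.node (.leaf 0) (.leaf 0))) (.node (.node (.leaf 0) (.leaf 70)) (.node (.leaf 0) (.leaf 0)))))) (.node (.node (.node (.node (.node (.node (.leaf 0) (.leaf 1045)) (.leaf 0)) (.node (.leaf 0) (.leaf 951))) (.node (.node (.leaf 423) (.leaf 632)) (.node (.leaf 0) (.leaf 865)))) (.node (.node (.node (.node (.leaf 475) (.leaf 17)) (.leaf 924)) (.node (.leaf 866) (.leaf 602))) (.node (.node (.leaf 651) (.leaf 729)) (.node (.leaf 569) (.leaf 965))))) (.node (.node (.node (.node (.node (.leaf 0) (.leaf 749)) (.leaf 0)) (.node (.leaf 615) (.leaf 937))) (.node (.node (.leaf 0) (.leaf 1042)) (.node (.leaf 0) (.leaf 489)))) (.node (.node (.node (.node (.leaf 0) (.leaf 1000)) (.leaf 421)) (.node (.leaf 1132) (.leaf 774))) (.node (.node (.leaf 0) (.leaf 553)) (.node (.leaf 563) (.leaf 755))))))) (.node (.node (.node (.node (.node (.node (.node (.leaf 0) (.leaf 552))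 (.leaf 0)) (.node (.leaf 0) (.leaf 0))) (.node (.node (.leaf 0) (.leaf 381)) (.node (.leaf 358) (.leaf 0)))) (.node (.node (.node (.node (.leaf 0) (.leaf 1097)) (.leaf 216)) (.node (.leaf 0) (.leaf 283))) (.node (.node (.leaf 0) (.leaf 409)) (.node (.leaf 0) (.leaf 392))))) (.node (.node (.node (.node (.node (.leaf 0) (.leaf 0)) (.leaf 1034)) (.node (.leaf 420) (.leaf 0))) (.node (.node (.leaf 0) (.leaf 0)) (.node (.leaf 0) (.leaf 505)))) (.node (.node (.node (.node (.leaf 0) (.leaf 514)) (.leaf 0)) (.node (.leaf 0) (.leaf 0))) (.node (.node (.leaf 961) (.leaf 746)) (.node (.leaf 570) (.leaf 16)))))) (.node (.node (.node (.node (.node (.node (.leaf 498) (.leaf 0)) (.leaf 0)) (.node (.leaf 598) (.leaf 0))) (.node (.node (.leaf 129) (.leaf 140)) (.node (.leaf 613) (.leaf 762)))) (.node (.node (.node (.node (.leaf 31) (.leaf 995)) (.leaf 0)) (.node (.leaf 0) (.leaf 495))) (.node (.node (.leaf 0) (.leaf 1014)) (.node (.leaf 357) (.leaf 378))))) (.node (.node (.node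 (.node (.node (.leaf 0) (.leaf 725)) (.leaf 0)) (.node (.leaf 221) (.leaf 528))) (.node (.node (.leaf 0) (.leaf 0)) (.node (.leaf 0) (.leaf 860)))) (.node (.node (.node (.node (.leaf 591) (.leaf 892)) (.leaf 255)) (.node (.leaf 0) (.leaf 256))) (.node (.node (.leaf 0) (.leaf 0)) (.node (.leaf 9) (.leaf 1017)))))))) (.node (.node (.node (.node (.node (.node (.node (.node (.leaf 0) (.leaf 707)) (.leaf 641)) (.node (.leaf 529) (.leaf 71))) (.node (.node (.leaf 3) (.leaf 671)) (.node (.leaf 415) (.leaf 782)))) (.node (.node (.node (.node (.leaf 0) (.leaf 733)) (.leaf 523)) (.node (.leaf 47) (.leaf 262))) (.node (.node (.leaf 359) (.leaf 0)) (.node (.leaf 0) (.leaf 899))))) (.node (.node (.node (.node (.node (.leaf 0) (.leaf 0)) (.leaf 0)) (.node (.leaf 0) (.leaf 571))) (.node (.node (.leaf 0) (.leaf 0)) (.node (.leaf 417) (.leaf 682)))) (.node (.node (.node (.node (.leaf 0) (.leaf 998)) (.leaf 0)) (.node (.leaf 316) (.leaf 0))) (.node (.node (.leaf 449) (.leaf 846))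 (.node (.leaf 0) (.leaf 676)))))) (.node (.node (.node (.node (.node (.node (.leaf 0) (.leaf 264)) (.leaf 0)) (.node (.leaf 0) (.leaf 652))) (.node (.node (.leaf 0) (.leaf 916)) (.node (.leaf 0) (.leaf 1032)))) (.node (.node (.node (.node (.leaf 0) (.leaf 92)) (.leaf 0)) (.node (.leaf 199) (.leaf 663))) (.node (.node (.leaf 0) (.leaf 1012)) (.node (.leaf 56) (.leaf 138))))) (.node (.node (.node (.node (.node (.leaf 0) (.leaf 491)) (.leaf 0)) (.node (.leaf 0) (.leaf 938))) (.node (.node (.leaf 38) (.leaf 0)) (.node (.leaf 0) (.leaf 990)))) (.node (.node (.node (.node (.leaf 0) (.leaf 574)) (.leaf 384)) (.node (.leaf 7) (.leaf 482))) (.node (.node (.leaf 0) (.leaf 541)) (.node (.leaf 643) (.leaf 1145))))))) (.node (.node (.node (.node (.node (.node (.node (.leaf 0) (.leaf 1096)) (.leaf 0)) (.node (.leaf 0) (.leaf 0))) (.node (.node (.leaf 0) (.leaf 642)) (.node (.leaf 224) (.leaf 1056)))) (.node (.node (.node (.node (.leaf 0) (.leaf 143)) (.leaf 0)) (.node (.leaf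 0) (.leaf 0))) (.node (.node (.leaf 0) (.leaf 319)) (.node (.leaf 0) (.leaf 84))))) (.node (.node (.node (.node (.node (.leaf 0) (.leaf 0)) (.leaf 0)) (.node (.leaf 131) (.leaf 955))) (.node (.node (.leaf 0) (.leaf 617)) (.node (.leaf 631) (.leaf 0)))) (.node (.node (.node (.node (.leaf 32) (.leaf 1018)) (.leaf 62)) (.node (.leaf 0) (.leaf 668))) (.node (.node (.leaf 0) (.leaf 953)) (.node (.leaf 1069) (.leaf 339)))))) (.node (.node (.node (.node (.node (.node (.leaf 0) (.leaf 687)) (.leaf 0)) (.node (.leaf 0) (.leaf 162))) (.node (.node (.leaf 599) (.leaf 0)) (.node (.leaf 198) (.leaf 966)))) (.node (.node (.node (.node (.leaf 0) (.leaf 1124)) (.leaf 437)) (.node (.leaf 0) (.leaf 534))) (.node (.node (.leaf 310) (.leaf 0)) (.node (.leaf 0) (.leaf 1001))))) (.node (.node (.node (.node (.node (.leaf 0) (.leaf 988)) (.leaf 485)) (.node (.leaf 178) (.leaf 0))) (.node (.node (.leaf 0) (.leaf 309)) (.node (.leaf 368) (.leaf 484)))) (.node (.node (.node (.node (.leaf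 0) (.leaf 1046)) (.leaf 167)) (.node (.leaf 0) (.leaf 692))) (.node (.node (.leaf 386) (.leaf 0)) (.node (.leaf 557) (.leaf 253))))))))) (.node (.node (.node (.node (.node (.node (.node (.node (.node (.leaf 0) (.leaf 277)) (.leaf 623)) (.node (.leaf 0) (.leaf 0))) (.node (.node (.leaf 0) (.leaf 0)) (.node (.leaf 0) (.leaf 1071)))) (.node (.node (.node (.node (.leaf 0) (.leaf 991)) (.leaf 0)) (.node (.leaf 0) (.leaf 723))) (.node (.node (.leaf 0) (.leaf 13)) (.node (.leaf 0) (.leaf 647))))) (.node (.node (.node (.node (.node (.leaf 0) (.leaf 826)) (.leaf 0)) (.node (.leaf 0) (.leaf 408))) (.node (.node (.leaf 0) (.leaf 337)) (.node (.leaf 0) (.leaf 1118)))) (.node (.node (.node (.node (.leaf 508) (.leaf 997)) (.leaf 751)) (.node (.leaf 0) (.leaf 416))) (.node (.node (.leaf 0) (.leaf 1044)) (.node (.leaf 0) (.leaf 967)))))) (.node (.node (.node (.node (.node (.node (.leaf 0) (.leaf 758)) (.leaf 201)) (.node (.leaf 181) (.leaf 861))) (.node (.node (.leaf 0) (.leaf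 422)) (.node (.leaf 0) (.leaf 263)))) (.node (.node (.node (.node (.leaf 0) (.leaf 1023)) (.leaf 0)) (.node (.leaf 0) (.leaf 920))) (.node (.node (.leaf 0) (.leaf 0)) (.node (.leaf 55) (.leaf 561))))) (.node (.node (.node (.node (.node (.leaf 0) (.leaf 790)) (.leaf 294)) (.node (.leaf 46) (.leaf 0))) (.node (.node (.leaf 4) (.leaf 897)) (.node (.leaf 0) (.leaf 769)))) (.node (.node (.node (.node (.leaf 0) (.leaf 1007)) (.leaf 536)) (.node (.leaf 0) (.leaf 79))) (.node (.node (.leaf 0) (.leaf 496)) (.node (.leaf 0) (.leaf 488))))))) (.node (.node (.node (.node (.node (.node (.node (.leaf 0) (.leaf 223)) (.leaf 0)) (.node (.leaf 0) (.leaf 14))) (.node (.node (.leaf 0) (.leaf 0)) (.node (.leaf 0) (.leaf 800)))) (.node (.node (.node (.node (.leaf 0) (.leaf 202)) (.leaf 0)) (.node (.leaf 0) (.leaf 403))) (.node (.node (.leaf 0) (.leaf 890)) (.node (.leaf 893) (.leaf 1136))))) (.node (.node (.node (.node (.node (.leaf 0) (.leaf 1060)) (.leaf 0)) (.node (.leaf 0) (.leaf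 1009))) (.node (.node (.leaf 0) (.leaf 0)) (.node (.leaf 698) (.leaf 1019)))) (.node (.node (.node (.node (.leaf 128) (.leaf 1122)) (.leaf 1013)) (.node (.leaf 0) (.leaf 0))) (.node (.node (.leaf 0) (.leaf 411)) (.node (.leaf 0) (.leaf 86)))))) (.node (.node (.node (.node (.node (.node (.leaf 0) (.leaf 834)) (.leaf 0)) (.node (.leaf 0) (.leaf 0))) (.node (.node (.leaf 36) (.leaf 276)) (.node (.leaf 0) (.leaf 1129)))) (.node (.node (.node (.node (.leaf 0) (.leaf 483)) (.leaf 887)) (.node (.leaf 0) (.leaf 945))) (.node (.node (.leaf 0) (.leaf 1040)) (.node (.leaf 0) (.leaf 573))))) (.node (.node (.node (.node (.node (.leaf 0) (.leaf 874)) (.leaf 0)) (.node (.leaf 0) (.leaf 568))) (.node (.node (.leaf 0) (.leaf 0)) (.node (.leaf 0) (.leaf 0)))) (.node (.node (.node (.node (.leaf 0) (.leaf 1002)) (.leaf 0)) (.node (.leaf 0) (.leaf 975))) (.node (.node (.leaf 0) (.leaf 426)) (.node (.leaf 57) (.leaf 0)))))))) (.node (.node (.node (.node (.node (.node (.node (.node (.leaf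 0) (.leaf 792)) (.leaf 734)) (.node (.leaf 0) (.leaf 0))) (.node (.node (.leaf 35) (.leaf 630)) (.node (.leaf 0) (.leaf 544)))) (.node (.node (.node (.node (.leaf 0) (.leaf 555)) (.leaf 653)) (.node (.leaf 222) (.leaf 144))) (.node (.node (.leaf 0) (.leaf 0)) (.node (.leaf 1026) (.leaf 1106))))) (.node (.node (.node (.node (.node (.leaf 0) (.leaf 1047)) (.leaf 0)) (.node (.leaf 114) (.leaf 743))) (.node (.node (.leaf 601) (.leaf 756)) (.node (.leaf 0) (.leaf 956)))) (.node (.node (.node (.node (.leaf 0) (.leaf 794)) (.leaf 521)) (.node (.leaf 248) (.leaf 401))) (.node (.node (.leaf 0) (.leaf 849)) (.node (.leaf 0) (.leaf 0)))))) (.node (.node (.node (.node (.node (.node (.leaf 0) (.leaf 504)) (.leaf 608)) (.node (.leaf 0) (.leaf 418))) (.node (.node (.leaf 0) (.leaf 261)) (.node (.leaf 340) (.leaf 327)))) (.node (.node (.node (.node (.leaf 2) (.leaf 986)) (.leaf 0)) (.node (.leaf 0) (.leaf 0))) (.node (.node (.leaf 0) (.leaf 0)) (.node (.leaf 341) (.leaf 85)))))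 (.node (.node (.node (.node (.node (.leaf 461) (.leaf 565)) (.leaf 0)) (.node (.leaf 0) (.leaf 497))) (.node (.node (.leaf 170) (.leaf 65)) (.node (.leaf 721) (.leaf 981)))) (.node (.node (.node (.node (.leaf 0) (.leaf 962)) (.leaf 628)) (.node (.leaf 49) (.leaf 705))) (.node (.node (.leaf 0) (.leaf 1082)) (.node (.leaf 324) (.leaf 971))))))) (.node (.node (.node (.node (.node (.node (.node (.leaf 0) (.leaf 786)) (.leaf 531)) (.node (.leaf 0) (.leaf 1022))) (.node (.node (.leaf 0) (.leaf 742)) (.node (.leaf 605) (.leaf 564)))) (.node (.node (.node (.node (.leaf 0) (.leaf 0)) (.leaf 160)) (.node (.leaf 0) (.leaf 0))) (.node (.node (.leaf 0) (.leaf 665)) (.node (.leaf 0) (.leaf 375))))) (.node (.node (.node (.node (.node (.leaf 0) (.leaf 0)) (.leaf 274)) (.node (.leaf 45) (.leaf 886))) (.node (.node (.leaf 473) (.leaf 0)) (.node (.leaf 0) (.leaf 796)))) (.node (.node (.node (.node (.leaf 356) (.leaf 1036)) (.leaf 63)) (.node (.leaf 0) (.leaf 1049))) (.node (.node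 (.leaf 0) (.leaf 0)) (.node (.leaf 517) (.leaf 0)))))) (.node (.node (.node (.node (.node (.node (.leaf 589) (.leaf 530)) (.leaf 321)) (.node (.leaf 6) (.leaf 952))) (.node (.node (.leaf 37) (.leaf 0)) (.node (.leaf 0) (.leaf 0)))) (.node (.node (.node (.node (.leaf 0) (.leaf 845)) (.leaf 0)) (.node (.leaf 307) (.leaf 76))) (.node (.node (.leaf 0) (.leaf 666)) (.node (.leaf 402) (.leaf 929))))) (.node (.node (.node (.node (.node (.leaf 0) (.leaf 547)) (.leaf 911)) (.node (.leaf 560) (.leaf 658))) (.node (.node (.leaf 365) (.leaf 0)) (.node (.leaf 388) (.leaf 994)))) (.node (.node (.node (.node (.leaf 374) (.leaf 1003)) (.leaf 410)) (.node (.leaf 320) (.leaf 0))) (.node (.node (.leaf 0) (.leaf 477)) (.node (.leaf 389) (.leaf 1133)))))))))) (.node (.node (.node (.node (.node (.node (.node (.node (.node (.node (.leaf 0) (.leaf 1094)) (.leaf 137)) (.node (.leaf 174) (.leaf 650))) (.node (.node (.leaf 0) (.leaf 259)) (.node (.leaf 0) (.leaf 1066)))) (.node (.node (.node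 (.node (.leaf 0) (.leaf 869)) (.leaf 200)) (.node (.leaf 0) (.leaf 1115))) (.node (.node (.leaf 0) (.leaf 0)) (.node (.leaf 0) (.leaf 724))))) (.node (.node (.node (.node (.node (.leaf 26) (.leaf 89)) (.leaf 878)) (.node (.leaf 0) (.leaf 656))) (.node (.node (.leaf 0) (.leaf 0)) (.node (.leaf 51) (.leaf 713)))) (.node (.node (.node (.node (.leaf 0) (.leaf 1126)) (.leaf 0)) (.node (.leaf 0) (.leaf 906))) (.node (.node (.leaf 0) (.leaf 0)) (.node (.leaf 0) (.leaf 0)))))) (.node (.node (.node (.node (.node (.node (.leaf 24) (.leaf 976)) (.leaf 0)) (.node (.leaf 273) (.leaf 335))) (.node (.node (.leaf 0) (.leaf 64)) (.node (.leaf 8) (.leaf 572)))) (.node (.node (.node (.node (.leaf 0) (.leaf 405)) (.leaf 0)) (.node (.leaf 0) (.leaf 0))) (.node (.node (.leaf 0) (.leaf 68)) (.node (.leaf 136) (.leaf 502))))) (.node (.node (.node (.node (.node (.leaf 0) (.leaf 908)) (.leaf 0)) (.node (.leaf 428) (.leaf 0))) (.node (.node (.leaf 509) (.leaf 737)) (.node (.leaf 784) (.leaf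 0)))) (.node (.node (.node (.node (.leaf 0) (.leaf 1151)) (.leaf 0)) (.node (.leaf 0) (.leaf 754))) (.node (.node (.leaf 457) (.leaf 456)) (.node (.leaf 875) (.leaf 554))))))) (.node (.node (.node (.node (.node (.node (.node (.leaf 0) (.leaf 0)) (.leaf 693)) (.node (.leaf 612) (.leaf 125))) (.node (.node (.leaf 0) (.leaf 823)) (.node (.leaf 0) (.leaf 0)))) (.node (.node (.node (.node (.leaf 0) (.leaf 1147)) (.leaf 0)) (.node (.leaf 362) (.leaf 925))) (.node (.node (.leaf 0) (.leaf 66)) (.node (.leaf 0) (.leaf 0))))) (.node (.node (.node (.node (.node (.leaf 0) (.leaf 736)) (.leaf 10)) (.node (.leaf 197) (.leaf 0))) (.node (.node (.leaf 0) (.leaf 818)) (.node (.leaf 0) (.leaf 1080)))) (.node (.node (.node (.node (.leaf 0) (.leaf 712)) (.leaf 0)) (.node (.leaf 281) (.leaf 949))) (.node (.node (.leaf 42) (.leaf 0)) (.node (.leaf 257) (.leaf 701)))))) (.node (.node (.node (.node (.node (.node (.leaf 0) (.leaf 787)) (.leaf 0)) (.node (.leaf 219) (.leaf 0))) (.node (.node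 (.leaf 438) (.leaf 633)) (.node (.leaf 118) (.leaf 978)))) (.node (.node (.node (.node (.leaf 0) (.leaf 793)) (.leaf 0)) (.node (.leaf 609) (.leaf 1061))) (.node (.node (.leaf 596) (.leaf 870)) (.node (.leaf 455) (.leaf 328))))) (.node (.node (.node (.node (.node (.leaf 0) (.leaf 1100)) (.leaf 59)) (.node (.leaf 621) (.leaf 336))) (.node (.node (.leaf 308) (.leaf 0)) (.node (.leaf 228) (.leaf 959)))) (.node (.node (.node (.node (.leaf 0) (.leaf 98)) (.leaf 0)) (.node (.leaf 506) (.leaf 811))) (.node (.node (.leaf 667) (.leaf 0)) (.node (.leaf 0) (.leaf 87)))))))) (.node (.node (.node (.node (.node (.node (.node (.node (.leaf 0) (.leaf 972)) (.leaf 0)) (.node (.leaf 0) (.leaf 829))) (.node (.node (.leaf 0) (.leaf 211)) (.node (.leaf 185) (.leaf 413)))) (.node (.node (.node (.node (.leaf 0) (.leaf 1149)) (.leaf 60)) (.node (.leaf 0) (.leaf 0))) (.node (.node (.leaf 0) (.leaf 471)) (.node (.leaf 0) (.leaf 979))))) (.node (.node (.node (.node (.node (.leaf 0) (.leaf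 0)) (.leaf 1021)) (.node (.leaf 597) (.leaf 0))) (.node (.node (.leaf 0) (.leaf 0)) (.node (.leaf 52) (.leaf 538)))) (.node (.node (.node (.node (.leaf 0) (.leaf 1070)) (.leaf 0)) (.node (.leaf 133) (.leaf 839))) (.node (.node (.leaf 41) (.leaf 0)) (.node (.leaf 436) (.leaf 830)))))) (.node (.node (.node (.node (.node (.node (.leaf 0) (.leaf 801)) (.leaf 0)) (.node (.leaf 775) (.leaf 73))) (.node (.node (.leaf 0) (.leaf 719)) (.node (.leaf 385) (.leaf 0)))) (.node (.node (.node (.node (.leaf 594) (.leaf 244)) (.leaf 748)) (.node (.leaf 603) (.leaf 1153))) (.node (.node (.leaf 376) (.leaf 1113)) (.node (.leaf 0) (.leaf 542))))) (.node (.node (.node (.node (.node (.leaf 0) (.leaf 0)) (.leaf 0)) (.node (.leaf 0) (.leaf 333))) (.node (.node (.leaf 0) (.leaf 680)) (.node (.leaf 0) (.leaf 851)))) (.node (.node (.node (.node (.leaf 0) (.leaf 1125)) (.leaf 556)) (.node (.leaf 0) (.leaf 695))) (.node (.node (.leaf 0) (.leaf 366)) (.node (.leaf 0) (.leaf 0))))))) (.node (.node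 (.node (.node (.node (.node (.node (.leaf 0) (.leaf 1015)) (.leaf 520)) (.node (.leaf 0) (.leaf 1120))) (.node (.node (.leaf 0) (.leaf 454)) (.node (.leaf 0) (.leaf 551)))) (.node (.node (.node (.node (.leaf 0) (.leaf 993)) (.leaf 0)) (.node (.leaf 0) (.leaf 1065))) (.node (.node (.leaf 0) (.leaf 1108)) (.node (.leaf 0) (.leaf 467))))) (.node (.node (.node (.node (.node (.leaf 434) (.leaf 490)) (.leaf 0)) (.node (.leaf 604) (.leaf 558))) (.node (.node (.leaf 0) (.leaf 0)) (.node (.leaf 0) (.leaf 0)))) (.node (.node (.node (.node (.leaf 0) (.leaf 95)) (.leaf 0)) (.node (.leaf 0) (.leaf 77))) (.node (.node (.leaf 0) (.leaf 0)) (.node (.leaf 229) (.leaf 412)))))) (.node (.node (.node (.node (.node (.node (.leaf 0) (.leaf 854)) (.leaf 0)) (.node (.leaf 0) (.leaf 0))) (.node (.node (.leaf 525) (.leaf 444)) (.node (.leaf 0) (.leaf 681)))) (.node (.node (.node (.node (.leaf 500) (.leaf 94)) (.leaf 0)) (.node (.leaf 0) (.leaf 0))) (.node (.node (.leaf 0) (.leaf 0)) (.node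 (.leaf 832) (.leaf 1086))))) (.node (.node (.node (.node (.node (.leaf 29) (.leaf 684)) (.leaf 0)) (.node (.leaf 0) (.leaf 15))) (.node (.node (.leaf 0) (.leaf 470)) (.node (.leaf 451) (.leaf 0)))) (.node (.node (.node (.node (.leaf 0) (.leaf 1051)) (.leaf 0)) (.node (.leaf 0) (.leaf 0))) (.node (.node (.leaf 5) (.leaf 463)) (.node (.leaf 562) (.leaf 431))))))))) (.node (.node (.node (.node (.node (.node (.node (.node (.node (.leaf 0) (.leaf 1091)) (.leaf 1010)) (.node (.leaf 0) (.leaf 0))) (.node (.node (.leaf 367) (.leaf 0)) (.node (.leaf 0) (.leaf 175)))) (.node (.node (.node (.node (.leaf 0) (.leaf 992)) (.leaf 132)) (.node (.leaf 390) (.leaf 747))) (.node (.node (.leaf 0) (.leaf 0)) (.node (.leaf 0) (.leaf 928))))) (.node (.node (.node (.node (.node (.leaf 0) (.leaf 685)) (.leaf 0)) (.node (.leaf 338) (.leaf 233))) (.node (.node (.leaf 0) (.leaf 635)) (.node (.leaf 453) (.leaf 766)))) (.node (.node (.node (.node (.leaf 0) (.leaf 999)) (.leaf 265)) (.node (.leaf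 0) (.leaf 499))) (.node (.node (.leaf 130) (.leaf 275)) (.node (.leaf 164) (.leaf 217)))))) (.node (.node (.node (.node (.node (.node (.leaf 0) (.leaf 977)) (.leaf 361)) (.node (.leaf 0) (.leaf 135))) (.node (.node (.leaf 0) (.leaf 559)) (.node (.leaf 50) (.leaf 1075)))) (.node (.node (.node (.node (.leaf 0) (.leaf 1117)) (.leaf 0)) (.node (.leaf 0) (.leaf 0))) (.node (.node (.leaf 0) (.leaf 923)) (.node (.leaf 0) (.leaf 905))))) (.node (.node (.node (.node (.node (.leaf 0) (.leaf 1114)) (.leaf 282)) (.node (.leaf 0) (.leaf 863))) (.node (.node (.leaf 0) (.leaf 1038)) (.node (.leaf 0) (.leaf 1078)))) (.node (.node (.node (.node (.leaf 0) (.leaf 759)) (.leaf 0)) (.node (.leaf 1058) (.leaf 0))) (.node (.node (.leaf 0) (.leaf 142)) (.node (.leaf 0) (.leaf 884))))))) (.node (.node (.node (.node (.node (.node (.node (.leaf 0) (.leaf 838)) (.leaf 0)) (.node (.leaf 0) (.leaf 72))) (.node (.node (.leaf 590) (.leaf 0)) (.node (.leaf 459) (.leaf 983)))) (.node (.node (.node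 (.node (.leaf 0) (.leaf 478)) (.leaf 0)) (.node (.leaf 364) (.leaf 0))) (.node (.node (.leaf 0) (.leaf 67)) (.node (.leaf 1028) (.leaf 0))))) (.node (.node (.node (.node (.node (.leaf 0) (.leaf 985)) (.leaf 58)) (.node (.leaf 0) (.leaf 0))) (.node (.node (.leaf 0) (.leaf 930)) (.node (.leaf 226) (.leaf 768)))) (.node (.node (.node (.node (.leaf 355) (.leaf 844)) (.leaf 139)) (.node (.leaf 0) (.leaf 145))) (.node (.node (.leaf 0) (.leaf 1052)) (.node (.leaf 0) (.leaf 429)))))) (.node (.node (.node (.node (.node (.node (.leaf 0) (.leaf 843)) (.leaf 0)) (.node (.leaf 0) (.leaf 0))) (.node (.node (.leaf 0) (.leaf 669)) (.node (.leaf 311) (.leaf 0)))) (.node (.node (.node (.node (.leaf 0) (.leaf 996)) (.leaf 518)) (.node (.leaf 841) (.leaf 718))) (.node (.node (.leaf 0) (.leaf 872)) (.node (.leaf 464) (.leaf 960))))) (.node (.node (.node (.node (.node (.leaf 592) (.leaf 0)) (.leaf 611)) (.node (.leaf 0) (.leaf 0))) (.node (.node (.leaf 0) (.leaf 0)) (.node (.leaf 0)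 (.leaf 797)))) (.node (.node (.node (.node (.leaf 0) (.leaf 1107)) (.leaf 0)) (.node (.leaf 0) (.leaf 322))) (.node (.node (.leaf 0) (.leaf 0)) (.node (.leaf 447) (.leaf 241)))))))) (.node (.node (.node (.node (.node (.node (.node (.node (.leaf 0) (.leaf 414)) (.leaf 0)) (.node (.leaf 0) (.leaf 0))) (.node (.node (.leaf 0) (.leaf 232)) (.node (.leaf 0) (.leaf 634)))) (.node (.node (.node (.node (.leaf 595) (.leaf 1006)) (.leaf 533)) (.node (.leaf 0) (.leaf 660))) (.node (.node (.leaf 0) (.leaf 141)) (.node (.leaf 566) (.leaf 1011))))) (.node (.node (.node (.node (.node (.leaf 446) (.leaf 1099)) (.leaf 0)) (.node (.leaf 0) (.leaf 74))) (.node (.node (.leaf 0) (.leaf 655)) (.node (.leaf 0) (.leaf 82)))) (.node (.node (.node (.node (.leaf 0) (.leaf 0)) (.leaf 527)) (.node (.leaf 48) (.leaf 0))) (.node (.node (.leaf 380) (.leaf 171)) (.node (.leaf 0) (.leaf 958)))))) (.node (.node (.node (.node (.node (.node (.leaf 0) (.leaf 980)) (.leaf 0)) (.node (.leaf 0) (.leaf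 218))) (.node (.node (.leaf 0) (.leaf 0)) (.node (.leaf 0) (.leaf 799)))) (.node (.node (.node (.node (.leaf 0) (.leaf 284)) (.leaf 231)) (.node (.leaf 0) (.leaf 0))) (.node (.node (.leaf 430) (.leaf 372)) (.node (.leaf 0) (.leaf 0))))) (.node (.node (.node (.node (.node (.leaf 0) (.leaf 1020)) (.leaf 11)) (.node (.leaf 0) (.leaf 213))) (.node (.node (.leaf 0) (.leaf 932)) (.node (.leaf 53) (.leaf 941)))) (.node (.node (.node (.node (.leaf 0) (.leaf 864)) (.leaf 1016)) (.node (.leaf 0) (.leaf 239))) (.node (.node (.leaf 0) (.leaf 0)) (.node (.leaf 709) (.leaf 973))))))) (.node (.node (.node (.node (.node (.node (.node (.leaf 0) (.leaf 771)) (.leaf 0)) (.node (.leaf 363) (.leaf 0))) (.node (.node (.leaf 0) (.leaf 12)) (.node (.leaf 0) (.leaf 0)))) (.node (.node (.node (.node (.leaf 0) (.leaf 1037)) (.leaf 0)) (.node (.leaf 0) (.leaf 0))) (.node (.node (.leaf 0) (.leaf 537)) (.node (.leaf 0) (.leaf 127))))) (.node (.node (.node (.node (.node (.leaf 0) (.leaf 933))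 (.leaf 0)) (.node (.leaf 0) (.leaf 1090))) (.node (.node (.leaf 0) (.leaf 795)) (.node (.leaf 158) (.leaf 1077)))) (.node (.node (.node (.node (.leaf 33) (.leaf 964)) (.leaf 0)) (.node (.leaf 0) (.leaf 78))) (.node (.node (.leaf 0) (.leaf 813)) (.node (.leaf 230) (.leaf 837)))))) (.node (.node (.node (.node (.node (.node (.leaf 1) (.leaf 921)) (.leaf 0)) (.node (.leaf 0) (.leaf 397))) (.node (.node (.leaf 0) (.leaf 0)) (.node (.leaf 134) (.leaf 948)))) (.node (.node (.node (.node (.leaf 0) (.leaf 1055)) (.leaf 0)) (.node (.leaf 0) (.leaf 708))) (.node (.node (.leaf 0) (.leaf 0)) (.node (.leaf 254) (.leaf 1140))))) (.node (.node (.node (.node (.node (.leaf 0) (.leaf 90)) (.leaf 0)) (.node (.leaf 0) (.leaf 75))) (.node (.node (.leaf 0) (.leaf 567)) (.node (.leaf 0) (.leaf 83)))) (.node (.node (.node (.node (.leaf 0) (.leaf 575)) (.leaf 646)) (.node (.leaf 360) (.leaf 1062))) (.node (.node (.leaf 43) (.leaf 0)) (.node (.leaf 260) (.leaf 722))))))))))) (.node (.node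 (.node (.node (.node (.node (.node (.node (.node (.node (.node (.leaf 0) (.leaf 99)) (.leaf 0)) (.node (.leaf 0) (.leaf 697))) (.node (.node (.leaf 0) (.leaf 862)) (.node (.leaf 172) (.leaf 153)))) (.node (.node (.node (.node (.leaf 0) (.leaf 1024)) (.leaf 1041)) (.node (.leaf 0) (.leaf 0))) (.node (.node (.leaf 165) (.leaf 0)) (.node (.leaf 0) (.leaf 627))))) (.node (.node (.node (.node (.node (.leaf 0) (.leaf 711)) (.leaf 0)) (.node (.leaf 0) (.leaf 0))) (.node (.node (.leaf 0) (.leaf 245)) (.node (.leaf 593) (.leaf 371)))) (.node (.node (.node (.node (.leaf 0) (.leaf 550)) (.leaf 192)) (.node (.leaf 0) (.leaf 317))) (.node (.node (.leaf 0) (.leaf 0)) (.node (.leaf 0) (.leaf 914)))))) (.node (.node (.node (.node (.node (.node (.leaf 0) (.leaf 1084)) (.leaf 100)) (.node (.leaf 25) (.leaf 1027))) (.node (.node (.leaf 0) (.leaf 0)) (.node (.leaf 0) (.leaf 1030)))) (.node (.node (.node (.node (.leaf 0) (.leaf 305)) (.leaf 234)) (.node (.leaf 0) (.leaf 400))) (.node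 (.node (.leaf 207) (.leaf 912)) (.node (.leaf 404) (.leaf 0))))) (.node (.node (.node (.node (.node (.leaf 0) (.leaf 301)) (.leaf 0)) (.node (.leaf 0) (.leaf 0))) (.node (.node (.leaf 0) (.leaf 0)) (.node (.leaf 720) (.leaf 636)))) (.node (.node (.node (.node (.leaf 23) (.leaf 859)) (.leaf 0)) (.node (.leaf 0) (.leaf 0))) (.node (.node (.leaf 0) (.leaf 767)) (.node (.leaf 0) (.leaf 246))))))) (.node (.node (.node (.node (.node (.node (.node (.leaf 0) (.leaf 0)) (.leaf 648)) (.node (.leaf 0) (.leaf 394))) (.node (.node (.leaf 0) (.leaf 0)) (.node (.leaf 0) (.leaf 659)))) (.node (.node (.node (.node (.leaf 0) (.leaf 926)) (.leaf 0)) (.node (.leaf 0) (.leaf 0))) (.node (.node (.leaf 0) (.leaf 535)) (.node (.leaf 0) (.leaf 443))))) (.node (.node (.node (.node (.node (.leaf 0) (.leaf 909)) (.leaf 577)) (.node (.leaf 279) (.leaf 93))) (.node (.node (.leaf 0) (.leaf 195)) (.node (.leaf 0) (.leaf 97)))) (.node (.node (.node (.node (.leaf 103) (.leaf 469)) (.leaf 194)) (.node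 (.leaf 269) (.leaf 0))) (.node (.node (.leaf 0) (.leaf 293)) (.node (.leaf 177) (.leaf 407)))))) (.node (.node (.node (.node (.node (.node (.leaf 0) (.leaf 450)) (.leaf 0)) (.node (.leaf 0) (.leaf 0))) (.node (.node (.leaf 0) (.leaf 805)) (.node (.leaf 0) (.leaf 0)))) (.node (.node (.node (.node (.leaf 0) (.leaf 675)) (.leaf 524)) (.node (.leaf 0) (.leaf 943))) (.node (.node (.leaf 501) (.leaf 472)) (.node (.leaf 0) (.leaf 247))))) (.node (.node (.node (.node (.node (.leaf 0) (.leaf 1134)) (.leaf 0)) (.node (.leaf 0) (.leaf 0))) (.node (.node (.leaf 0) (.leaf 741)) (.node (.leaf 157) (.leaf 730)))) (.node (.node (.node (.node (.leaf 0) (.leaf 785)) (.leaf 0)) (.node (.leaf 0) (.leaf 240))) (.node (.node (.leaf 0) (.leaf 519)) (.node (.leaf 373) (.leaf 1008)))))))) (.node (.node (.node (.node (.node (.node (.node (.node (.leaf 0) (.leaf 0)) (.leaf 266)) (.node (.leaf 0) (.leaf 699))) (.node (.node (.leaf 0) (.leaf 21)) (.node (.leaf 0) (.leaf 298)))) (.node (.node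 (.node (.node (.leaf 0) (.leaf 0)) (.leaf 739)) (.node (.leaf 0) (.leaf 0))) (.node (.node (.leaf 18) (.leaf 0)) (.node (.leaf 191) (.leaf 853))))) (.node (.node (.node (.node (.node (.leaf 0) (.leaf 858)) (.leaf 847)) (.node (.leaf 0) (.leaf 332))) (.node (.node (.leaf 0) (.leaf 526)) (.node (.leaf 0) (.leaf 694)))) (.node (.node (.node (.node (.leaf 0) (.leaf 306)) (.leaf 0)) (.node (.leaf 0) (.leaf 0))) (.node (.node (.leaf 0) (.leaf 0)) (.node (.leaf 0) (.leaf 0)))))) (.node (.node (.node (.node (.node (.node (.leaf 0) (.leaf 0)) (.leaf 0)) (.node (.leaf 0) (.leaf 1048))) (.node (.node (.leaf 0) (.leaf 850)) (.node (.leaf 0) (.leaf 1067)))) (.node (.node (.node (.node (.leaf 0) (.leaf 0)) (.leaf 493)) (.node (.leaf 0) (.leaf 0))) (.node (.node (.leaf 0) (.leaf 903)) (.node (.leaf 0) (.leaf 1068))))) (.node (.node (.node (.node (.node (.leaf 0) (.leaf 690)) (.leaf 179)) (.node (.leaf 677) (.leaf 1072))) (.node (.node (.leaf 0) (.leaf 1116)) (.node (.leaf 0) (.leaf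 250)))) (.node (.node (.node (.node (.leaf 0) (.leaf 957)) (.leaf 151)) (.node (.leaf 0) (.leaf 716))) (.node (.node (.leaf 0) (.leaf 815)) (.node (.leaf 645) (.leaf 819))))))) (.node (.node (.node (.node (.node (.node (.node (.leaf 0) (.leaf 1128)) (.leaf 987)) (.node (.leaf 0) (.leaf 0))) (.node (.node (.leaf 329) (.leaf 673)) (.node (.leaf 0) (.leaf 1004)))) (.node (.node (.node (.node (.leaf 0) (.leaf 1137)) (.leaf 0)) (.node (.leaf 0) (.leaf 936))) (.node (.node (.leaf 0) (.leaf 227)) (.node (.leaf 193) (.leaf 439))))) (.node (.node (.node (.node (.node (.leaf 0) (.leaf 460)) (.leaf 0)) (.node (.leaf 0) (.leaf 208))) (.node (.node (.leaf 0) (.leaf 427)) (.node (.leaf 149) (.leaf 1148)))) (.node (.node (.node (.node (.leaf 0) (.leaf 950)) (.leaf 0)) (.node (.leaf 0) (.leaf 600))) (.node (.node (.leaf 0) (.leaf 0)) (.node (.leaf 20) (.leaf 0)))))) (.node (.node (.node (.node (.node (.node (.leaf 0) (.leaf 503)) (.leaf 0)) (.node (.leaf 169) (.leaf 0))) (.node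 (.node (.leaf 0) (.leaf 433)) (.node (.leaf 0) (.leaf 894)))) (.node (.node (.node (.node (.leaf 0) (.leaf 583)) (.leaf 0)) (.node (.leaf 0) (.leaf 0))) (.node (.node (.leaf 0) (.leaf 689)) (.node (.leaf 0) (.leaf 1102))))) (.node (.node (.node (.node (.node (.leaf 0) (.leaf 735)) (.leaf 0)) (.node (.leaf 0) (.leaf 448))) (.node (.node (.leaf 300) (.leaf 0)) (.node (.leaf 817) (.leaf 0)))) (.node (.node (.node (.node (.leaf 0) (.leaf 616)) (.leaf 873)) (.node (.leaf 350) (.leaf 752))) (.node (.node (.leaf 0) (.leaf 124)) (.node (.leaf 0) (.leaf 313))))))))) (.node (.node (.node (.node (.node (.node (.node (.node (.node (.leaf 0) (.leaf 154)) (.leaf 0)) (.node (.leaf 0) (.leaf 0))) (.node (.node (.leaf 0) (.leaf 111)) (.node (.leaf 117) (.leaf 0)))) (.node (.node (.node (.node (.leaf 0) (.leaf 1054)) (.leaf 0)) (.node (.leaf 476) (.leaf 814))) (.node (.node (.leaf 108) (.leaf 466)) (.node (.leaf 0) (.leaf 0))))) (.node (.node (.node (.node (.node (.leaf 0) (.leaf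 683)) (.leaf 0)) (.node (.leaf 0) (.leaf 161))) (.node (.node (.leaf 0) (.leaf 907)) (.node (.leaf 0) (.leaf 474)))) (.node (.node (.node (.node (.leaf 0) (.leaf 1064)) (.leaf 691)) (.node (.leaf 0) (.leaf 0))) (.node (.node (.leaf 0) (.leaf 0)) (.node (.leaf 0) (.leaf 974)))))) (.node (.node (.node (.node (.node (.node (.leaf 0) (.leaf 750)) (.leaf 0)) (.node (.leaf 0) (.leaf 0))) (.node (.node (.leaf 0) (.leaf 0)) (.node (.leaf 0) (.leaf 842)))) (.node (.node (.node (.node (.leaf 0) (.leaf 1138)) (.leaf 0)) (.node (.leaf 115) (.leaf 0))) (.node (.node (.leaf 0) (.leaf 584)) (.node (.leaf 0) (.leaf 0))))) (.node (.node (.node (.node (.node (.leaf 0) (.leaf 0)) (.leaf 0)) (.node (.leaf 0) (.leaf 479))) (.node (.node (.leaf 0) (.leaf 0)) (.node (.leaf 0) (.leaf 835)))) (.node (.node (.node (.node (.leaf 0) (.leaf 1079)) (.leaf 0)) (.node (.leaf 315) (.leaf 0))) (.node (.node (.leaf 0) (.leaf 532)) (.node (.leaf 0) (.leaf 1063))))))) (.node (.node (.node (.node (.node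 (.node (.node (.leaf 0) (.leaf 252)) (.leaf 0)) (.node (.leaf 0) (.leaf 1039))) (.node (.node (.leaf 0) (.leaf 0)) (.node (.leaf 0) (.leaf 285)))) (.node (.node (.node (.node (.leaf 0) (.leaf 868)) (.leaf 0)) (.node (.leaf 0) (.leaf 0))) (.node (.node (.leaf 0) (.leaf 0)) (.node (.leaf 0) (.leaf 0))))) (.node (.node (.node (.node (.node (.leaf 0) (.leaf 1101)) (.leaf 184)) (.node (.leaf 0) (.leaf 0))) (.node (.node (.leaf 0) (.leaf 0)) (.node (.leaf 0) (.leaf 1135)))) (.node (.node (.node (.node (.leaf 0) (.leaf 607)) (.leaf 303)) (.node (.leaf 0) (.leaf 295))) (.node (.node (.leaf 61) (.leaf 183)) (.node (.leaf 106) (.leaf 351)))))) (.node (.node (.node (.node (.node (.node (.leaf 0) (.leaf 857)) (.leaf 0)) (.node (.leaf 0) (.leaf 0))) (.node (.node (.leaf 0) (.leaf 0)) (.node (.leaf 0) (.leaf 940)))) (.node (.node (.node (.node (.leaf 0) (.leaf 287)) (.leaf 661)) (.node (.leaf 802) (.leaf 126))) (.node (.node (.leaf 0) (.leaf 0)) (.node (.leaf 820) (.leaf 237)))))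 (.node (.node (.node (.node (.node (.leaf 0) (.leaf 0)) (.leaf 0)) (.node (.leaf 0) (.leaf 0))) (.node (.node (.leaf 481) (.leaf 586)) (.node (.leaf 882) (.leaf 440)))) (.node (.node (.node (.node (.leaf 0) (.leaf 900)) (.leaf 0)) (.node (.leaf 511) (.leaf 0))) (.node (.node (.leaf 0) (.leaf 393)) (.node (.leaf 0) (.leaf 344)))))))) (.node (.node (.node (.node (.node (.node (.node (.node (.leaf 0) (.leaf 302)) (.leaf 0)) (.node (.leaf 0) (.leaf 0))) (.node (.node (.leaf 0) (.leaf 0)) (.node (.leaf 0) (.leaf 0)))) (.node (.node (.node (.node (.leaf 0) (.leaf 549)) (.leaf 0)) (.node (.leaf 0) (.leaf 587))) (.node (.node (.leaf 0) (.leaf 290)) (.node (.leaf 271) (.leaf 1131))))) (.node (.node (.node (.node (.node (.leaf 0) (.leaf 1103)) (.leaf 0)) (.node (.leaf 0) (.leaf 1088))) (.node (.node (.leaf 146) (.leaf 121)) (.node (.leaf 80) (.leaf 1050)))) (.node (.node (.node (.node (.leaf 0) (.leaf 0)) (.leaf 0)) (.node (.leaf 0) (.leaf 0))) (.node (.node (.leaf 345) (.leaf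 0)) (.node (.leaf 640) (.leaf 919)))))) (.node (.node (.node (.node (.node (.node (.leaf 0) (.leaf 441)) (.leaf 0)) (.node (.leaf 0) (.leaf 0))) (.node (.node (.leaf 105) (.leaf 0)) (.node (.leaf 0) (.leaf 0)))) (.node (.node (.node (.node (.leaf 0) (.leaf 0)) (.leaf 159)) (.node (.leaf 0) (.leaf 904))) (.node (.node (.leaf 0) (.leaf 637)) (.node (.leaf 0) (.leaf 539))))) (.node (.node (.node (.node (.node (.leaf 0) (.leaf 881)) (.leaf 120)) (.node (.leaf 0) (.leaf 22))) (.node (.node (.leaf 0) (.leaf 465)) (.node (.leaf 0) (.leaf 803)))) (.node (.node (.node (.node (.leaf 0) (.leaf 896)) (.leaf 715)) (.node (.leaf 0) (.leaf 581))) (.node (.node (.leaf 112) (.leaf 486)) (.node (.leaf 212) (.leaf 1142))))))) (.node (.node (.node (.node (.node (.node (.node (.leaf 0) (.leaf 0)) (.leaf 0)) (.node (.leaf 0) (.leaf 0))) (.node (.node (.leaf 0) (.leaf 0)) (.node (.leaf 0) (.leaf 452)))) (.node (.node (.node (.node (.leaf 0) (.leaf 662)) (.leaf 0)) (.node (.leaf 0) (.leaf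 779))) (.node (.node (.leaf 0) (.leaf 182)) (.node (.leaf 798) (.leaf 540))))) (.node (.node (.node (.node (.node (.leaf 0) (.leaf 1093)) (.leaf 0)) (.node (.leaf 0) (.leaf 744))) (.node (.node (.leaf 0) (.leaf 679)) (.node (.leaf 576) (.leaf 833)))) (.node (.node (.node (.node (.leaf 0) (.leaf 1119)) (.leaf 0)) (.node (.leaf 0) (.leaf 0))) (.node (.node (.leaf 166) (.leaf 258)) (.node (.leaf 0) (.leaf 728)))))) (.node (.node (.node (.node (.node (.node (.leaf 0) (.leaf 765)) (.leaf 288)) (.node (.leaf 618) (.leaf 235))) (.node (.node (.leaf 0) (.leaf 0)) (.node (.leaf 0) (.leaf 1076)))) (.node (.node (.node (.node (.leaf 442) (.leaf 714)) (.leaf 0)) (.node (.leaf 0) (.leaf 458))) (.node (.node (.leaf 0) (.leaf 419)) (.node (.leaf 0) (.leaf 0))))) (.node (.node (.node (.node (.node (.leaf 39) (.leaf 1085)) (.leaf 0)) (.node (.leaf 189) (.leaf 0))) (.node (.node (.leaf 0) (.leaf 0)) (.node (.leaf 0) (.leaf 0)))) (.node (.node (.node (.node (.leaf 206) (.leaf 934))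 (.leaf 670)) (.node (.leaf 0) (.leaf 96))) (.node (.node (.leaf 0) (.leaf 812)) (.node (.leaf 515) (.leaf 0)))))))))) (.node (.node (.node (.node (.node (.node (.node (.node (.node (.node (.leaf 0) (.leaf 0)) (.leaf 0)) (.node (.leaf 0) (.leaf 0))) (.node (.node (.leaf 0) (.leaf 0)) (.node (.leaf 0) (.leaf 0)))) (.node (.node (.node (.node (.leaf 0) (.leaf 1141)) (.leaf 0)) (.node (.leaf 0) (.leaf 0))) (.node (.node (.leaf 0) (.leaf 510)) (.node (.leaf 0) (.leaf 297))))) (.node (.node (.node (.node (.node (.leaf 0) (.leaf 0)) (.leaf 828)) (.node (.leaf 0) (.leaf 370))) (.node (.node (.leaf 0) (.leaf 0)) (.node (.leaf 0) (.leaf 0)))) (.node (.node (.node (.node (.leaf 0) (.leaf 1105)) (.leaf 0)) (.node (.leaf 0) (.leaf 852))) (.node (.node (.leaf 110) (.leaf 91)) (.node (.leaf 0) (.leaf 968)))))) (.node (.node (.node (.node (.node (.node (.leaf 0) (.leaf 546)) (.leaf 289)) (.node (.leaf 0) (.leaf 0))) (.node (.node (.leaf 0) (.leaf 0)) (.node (.leaf 626) (.leaf 825))))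 (.node (.node (.node (.node (.leaf 0) (.leaf 791)) (.leaf 0)) (.node (.leaf 432) (.leaf 196))) (.node (.node (.leaf 0) (.leaf 0)) (.node (.leaf 445) (.leaf 827))))) (.node (.node (.node (.node (.node (.leaf 0) (.leaf 1112)) (.leaf 901)) (.node (.leaf 0) (.leaf 1029))) (.node (.node (.leaf 0) (.leaf 122)) (.node (.leaf 190) (.leaf 982)))) (.node (.node (.node (.node (.leaf 0) (.leaf 494)) (.leaf 522)) (.node (.leaf 0) (.leaf 186))) (.node (.node (.leaf 147) (.leaf 391)) (.node (.leaf 0) (.leaf 0))))))) (.node (.node (.node (.node (.node (.node (.node (.leaf 0) (.leaf 702)) (.leaf 242)) (.node (.leaf 0) (.leaf 871))) (.node (.node (.leaf 0) (.leaf 0)) (.node (.leaf 0) (.leaf 251)))) (.node (.node (.node (.node (.leaf 0) (.leaf 816)) (.leaf 225)) (.node (.leaf 624) (.leaf 268))) (.node (.node (.leaf 0) (.leaf 686)) (.node (.leaf 638) (.leaf 855))))) (.node (.node (.node (.node (.node (.leaf 0) (.leaf 334)) (.leaf 0)) (.node (.leaf 0) (.leaf 703))) (.node (.node (.leaf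 0) (.leaf 0)) (.node (.leaf 0) (.leaf 954)))) (.node (.node (.node (.node (.leaf 0) (.leaf 889)) (.leaf 383)) (.node (.leaf 204) (.leaf 629))) (.node (.node (.leaf 0) (.leaf 606)) (.node (.leaf 0) (.leaf 781)))))) (.node (.node (.node (.node (.node (.node (.leaf 0) (.leaf 545)) (.leaf 0)) (.node (.leaf 0) (.leaf 396))) (.node (.node (.leaf 0) (.leaf 0)) (.node (.leaf 0) (.leaf 840)))) (.node (.node (.node (.node (.leaf 0) (.leaf 946)) (.leaf 0)) (.node (.leaf 0) (.leaf 0))) (.node (.node (.leaf 0) (.leaf 352)) (.node (.leaf 176) (.leaf 891))))) (.node (.node (.node (.node (.node (.leaf 0) (.leaf 1081)) (.leaf 806)) (.node (.leaf 148) (.leaf 0))) (.node (.node (.leaf 0) (.leaf 763)) (.node (.leaf 0) (.leaf 731)))) (.node (.node (.node (.node (.leaf 0) (.leaf 824)) (.leaf 0)) (.node (.leaf 0) (.leaf 353))) (.node (.node (.leaf 0) (.leaf 0)) (.node (.leaf 0) (.leaf 0)))))))) (.node (.node (.node (.node (.node (.node (.node (.node (.leaf 0) (.leaf 1095)) (.leaf 625))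 (.node (.leaf 331) (.leaf 214))) (.node (.node (.leaf 0) (.leaf 30)) (.node (.leaf 0) (.leaf 187)))) (.node (.node (.node (.node (.leaf 0) (.leaf 492)) (.leaf 0)) (.node (.leaf 156) (.leaf 0))) (.node (.node (.leaf 0) (.leaf 304)) (.node (.leaf 0) (.leaf 0))))) (.node (.node (.node (.node (.node (.leaf 0) (.leaf 1073)) (.leaf 0)) (.node (.leaf 0) (.leaf 696))) (.node (.node (.leaf 0) (.leaf 579)) (.node (.leaf 0) (.leaf 346)))) (.node (.node (.node (.node (.leaf 0) (.leaf 1111)) (.leaf 382)) (.node (.leaf 0) (.leaf 0))) (.node (.node (.leaf 0) (.leaf 0)) (.node (.leaf 0) (.leaf 678)))))) (.node (.node (.node (.node (.node (.node (.leaf 0) (.leaf 688)) (.leaf 0)) (.node (.leaf 0) (.leaf 543))) (.node (.node (.leaf 0) (.leaf 880)) (.node (.leaf 0) (.leaf 1083)))) (.node (.node (.node (.node (.leaf 0) (.leaf 588)) (.leaf 0)) (.node (.leaf 209) (.leaf 710))) (.node (.node (.leaf 0) (.leaf 0)) (.node (.leaf 81) (.leaf 610))))) (.node (.node (.node (.node (.node (.leaf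 0) (.leaf 770)) (.leaf 0)) (.node (.leaf 0) (.leaf 0))) (.node (.node (.leaf 0) (.leaf 205)) (.node (.leaf 783) (.leaf 406)))) (.node (.node (.node (.node (.leaf 0) (.leaf 778)) (.leaf 0)) (.node (.leaf 180) (.leaf 326))) (.node (.node (.leaf 0) (.leaf 0)) (.node (.leaf 0) (.leaf 0))))))) (.node (.node (.node (.node (.node (.node (.node (.leaf 0) (.leaf 1005)) (.leaf 468)) (.node (.leaf 113) (.leaf 0))) (.node (.node (.leaf 0) (.leaf 215)) (.node (.leaf 513) (.leaf 888)))) (.node (.node (.node (.node (.leaf 102) (.leaf 1074)) (.leaf 578)) (.node (.leaf 0) (.leaf 243))) (.node (.node (.leaf 109) (.leaf 0)) (.node (.leaf 639) (.leaf 745))))) (.node (.node (.node (.node (.node (.leaf 0) (.leaf 757)) (.leaf 0)) (.node (.leaf 0) (.leaf 0))) (.node (.node (.leaf 0) (.leaf 885)) (.node (.leaf 0) (.leaf 727)))) (.node (.node (.node (.node (.leaf 0) (.leaf 942)) (.leaf 349)) (.node (.leaf 0) (.leaf 922))) (.node (.node (.leaf 0) (.leaf 931)) (.node (.leaf 28) (.leaf 1087))))))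 (.node (.node (.node (.node (.node (.node (.leaf 0) (.leaf 0)) (.leaf 119)) (.node (.leaf 0) (.leaf 777))) (.node (.node (.leaf 0) (.leaf 0)) (.node (.leaf 0) (.leaf 0)))) (.node (.node (.node (.node (.leaf 0) (.leaf 0)) (.leaf 0)) (.node (.leaf 0) (.leaf 585))) (.node (.node (.leaf 0) (.leaf 292)) (.node (.leaf 0) (.leaf 1104))))) (.node (.node (.node (.node (.node (.leaf 0) (.leaf 947)) (.leaf 0)) (.node (.leaf 622) (.leaf 706))) (.node (.node (.leaf 0) (.leaf 0)) (.node (.leaf 0) (.leaf 0)))) (.node (.node (.node (.node (.leaf 0) (.leaf 1139)) (.leaf 0)) (.node (.leaf 0) (.leaf 700))) (.node (.node (.leaf 0) (.leaf 323)) (.node (.leaf 0) (.leaf 354))))))))) (.node (.node (.node (.node (.node (.node (.node (.node (.node (.leaf 0) (.leaf 1110)) (.leaf 0)) (.node (.leaf 0) (.leaf 462))) (.node (.node (.leaf 0) (.leaf 0)) (.node (.leaf 27) (.leaf 902)))) (.node (.node (.node (.node (.leaf 0) (.leaf 1089)) (.leaf 377)) (.node (.leaf 0) (.leaf 1057))) (.node (.node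 (.leaf 0) (.leaf 0)) (.node (.leaf 780) (.leaf 1144))))) (.node (.node (.node (.node (.node (.leaf 0) (.leaf 915)) (.leaf 0)) (.node (.leaf 0) (.leaf 0))) (.node (.node (.leaf 163) (.leaf 480)) (.node (.leaf 0) (.leaf 0)))) (.node (.node (.node (.node (.leaf 0) (.leaf 1123)) (.leaf 0)) (.node (.leaf 116) (.leaf 0))) (.node (.node (.leaf 0) (.leaf 152)) (.node (.leaf 848) (.leaf 40)))))) (.node (.node (.node (.node (.node (.node (.leaf 0) (.leaf 913)) (.leaf 210)) (.node (.leaf 0) (.leaf 395))) (.node (.node (.leaf 0) (.leaf 0)) (.node (.leaf 0) (.leaf 761)))) (.node (.node (.node (.node (.leaf 0) (.leaf 1092)) (.leaf 0)) (.node (.leaf 369) (.leaf 1025))) (.node (.node (.leaf 0) (.leaf 1109)) (.node (.leaf 291) (.leaf 0))))) (.node (.node (.node (.node (.node (.leaf 101) (.leaf 507)) (.leaf 0)) (.node (.leaf 69) (.leaf 876))) (.node (.node (.leaf 0) (.leaf 0)) (.node (.leaf 0) (.leaf 1127)))) (.node (.node (.node (.node (.leaf 0) (.leaf 822)) (.leaf 836)) (.node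 (.leaf 0) (.leaf 342))) (.node (.node (.leaf 0) (.leaf 0)) (.node (.leaf 644) (.leaf 0))))))) (.node (.node (.node (.node (.node (.node (.node (.leaf 0) (.leaf 280)) (.leaf 649)) (.node (.leaf 168) (.leaf 883))) (.node (.node (.leaf 0) (.leaf 672)) (.node (.leaf 0) (.leaf 1033)))) (.node (.node (.node (.node (.leaf 0) (.leaf 0)) (.leaf 379)) (.node (.leaf 0) (.leaf 0))) (.node (.node (.leaf 0) (.leaf 0)) (.node (.leaf 0) (.leaf 877))))) (.node (.node (.node (.node (.node (.leaf 0) (.leaf 944)) (.leaf 654)) (.node (.leaf 0) (.leaf 867))) (.node (.node (.leaf 107) (.leaf 0)) (.node (.leaf 0) (.leaf 1031)))) (.node (.node (.node (.node (.leaf 0) (.leaf 788)) (.leaf 821)) (.node (.leaf 0) (.leaf 0))) (.node (.node (.leaf 0) (.leaf 0)) (.node (.leaf 0) (.leaf 0)))))) (.node (.node (.node (.node (.node (.node (.leaf 0) (.leaf 0)) (.leaf 238)) (.node (.leaf 0) (.leaf 314))) (.node (.node (.leaf 0) (.leaf 267)) (.node (.leaf 286) (.leaf 856)))) (.node (.node (.node (.node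 (.leaf 0) (.leaf 0)) (.leaf 0)) (.node (.leaf 0) (.leaf 296))) (.node (.node (.leaf 0) (.leaf 0)) (.node (.leaf 150) (.leaf 963))))) (.node (.node (.node (.node (.node (.leaf 0) (.leaf 764)) (.leaf 0)) (.node (.leaf 312) (.leaf 325))) (.node (.node (.leaf 0) (.leaf 123)) (.node (.leaf 0) (.leaf 704)))) (.node (.node (.node (.node (.leaf 104) (.leaf 1130)) (.leaf 398)) (.node (.leaf 0) (.leaf 0))) (.node (.node (.leaf 0) (.leaf 726)) (.node (.leaf 0) (.leaf 620)))))))) (.node (.node (.node (.node (.node (.node (.node (.node (.leaf 0) (.leaf 188)) (.leaf 0)) (.node (.leaf 348) (.leaf 895))) (.node (.node (.leaf 0) (.leaf 387)) (.node (.leaf 0) (.leaf 927)))) (.node (.node (.node (.node (.leaf 0) (.leaf 1098)) (.leaf 0)) (.node (.leaf 330) (.leaf 0))) (.node (.node (.leaf 0) (.leaf 0)) (.node (.leaf 0) (.leaf 809))))) (.node (.node (.node (.node (.node (.leaf 0) (.leaf 898)) (.leaf 318)) (.node (.leaf 0) (.leaf 236))) (.node (.node (.leaf 0) (.leaf 270)) (.node (.leaf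 220) (.leaf 0)))) (.node (.node (.node (.node (.leaf 0) (.leaf 789)) (.leaf 343)) (.node (.leaf 0) (.leaf 807))) (.node (.node (.leaf 203) (.leaf 879)) (.node (.leaf 935) (.leaf 740)))))) (.node (.node (.node (.node (.node (.node (.leaf 0) (.leaf 969)) (.leaf 424)) (.node (.leaf 0) (.leaf 0))) (.node (.node (.leaf 0) (.leaf 0)) (.node (.leaf 0) (.leaf 717)))) (.node (.node (.node (.node (.leaf 0) (.leaf 155)) (.leaf 0)) (.node (.leaf 0) (.leaf 399))) (.node (.node (.leaf 0) (.leaf 0)) (.node (.leaf 512) (.leaf 0))))) (.node (.node (.node (.node (.node (.leaf 0) (.leaf 1152)) (.leaf 1143)) (.node (.leaf 0) (.leaf 34))) (.node (.node (.leaf 0) (.leaf 0)) (.node (.leaf 0) (.leaf 1053)))) (.node (.node (.node (.node (.leaf 0) (.leaf 1150)) (.leaf 0)) (.node (.leaf 0) (.leaf 664))) (.node (.node (.leaf 0) (.leaf 0)) (.node (.leaf 0) (.leaf 1146))))))) (.node (.node (.node (.node (.node (.node (.node (.leaf 0) (.leaf 760)) (.leaf 435)) (.node (.leaf 19) (.leaf 0))) (.node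 (.node (.leaf 0) (.leaf 674)) (.node (.leaf 173) (.leaf 0)))) (.node (.node (.node (.node (.leaf 0) (.leaf 776)) (.leaf 1059)) (.node (.leaf 0) (.leaf 582))) (.node (.node (.leaf 0) (.leaf 0)) (.node (.leaf 773) (.leaf 810))))) (.node (.node (.node (.node (.node (.leaf 0) (.leaf 0)) (.leaf 970)) (.node (.leaf 0) (.leaf 0))) (.node (.node (.leaf 0) (.leaf 1043)) (.node (.leaf 0) (.leaf 0)))) (.node (.node (.node (.node (.leaf 0) (.leaf 939)) (.leaf 88)) (.node (.leaf 808) (.leaf 0))) (.node (.node (.leaf 0) (.leaf 278)) (.node (.leaf 0) (.leaf 0)))))) (.node (.node (.node (.node (.node (.node (.leaf 0) (.leaf 347)) (.leaf 738)) (.node (.leaf 0) (.leaf 0))) (.node (.node (.leaf 54) (.leaf 753)) (.node (.leaf 0) (.leaf 299)))) (.node (.node (.node (.node (.leaf 0) (.leaf 487)) (.leaf 910)) (.node (.leaf 0) (.leaf 0))) (.node (.node (.leaf 0) (.leaf 657)) (.node (.leaf 0) (.leaf 1121))))) (.node (.node (.node (.node (.node (.leaf 0) (.leaf 831)) (.leaf 0)) (.node (.leaf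 0) (.leaf 0))) (.node (.node (.leaf 0) (.leaf 0)) (.node (.leaf 0) (.leaf 548)))) (.node (.node (.node (.node (.leaf 0) (.leaf 984)) (.leaf 580)) (.node (.leaf 0) (.leaf 0))) (.node (.node (.leaf 0) (.leaf 0)) (.node (.leaf 0) (.leaf 1035)))))))))))

/-- data -/
def tree2 : Trie (ℕ × ℕ) := .node (.node (.node (.node (.node (.node (.node (.node (.node (.node (.node (.leaf (0, 0)) (.leaf (830, 1))) (.leaf (320, 1))) (.node (.leaf (146, 1)) (.leaf (536, 0)))) (.node (.node (.leaf (69, 1)) (.leaf (415, 1))) (.node (.leaf (228, 1)) (.leaf (658, 1))))) (.node (.node (.node (.node (.leaf (34, 0)) (.leaf (941, 0))) (.leaf (366, 1))) (.node (.leaf (188, 0)) (.leaf (590, 1)))) (.node (.node (.leaf (107, 1)) (.leaf (472, 1))) (.node (.leaf (273, 1)) (.leaf (741, 1)))))) (.node (.node (.node (.node (.node (.leaf (15, 1)) (.leaf (871, 0))) (.leaf (344, 1))) (.node (.leaf (168, 0)) (.leaf (561, 0)))) (.node (.node (.leaf (88, 1)) (.leaf (443, 0))) (.node (.leaf (250, 1)) (.leaf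 (700, 1))))) (.node (.node (.node (.node (.leaf (51, 0)) (.leaf (1018, 0))) (.leaf (391, 0))) (.node (.leaf (207, 1)) (.leaf (620, 1)))) (.node (.node (.leaf (127, 1)) (.leaf (505, 0))) (.node (.leaf (295, 0)) (.leaf (783, 1))))))) (.node (.node (.node (.node (.node (.node (.leaf (7, 1)) (.leaf (850, 1))) (.leaf (333, 0))) (.node (.leaf (157, 1)) (.leaf (547, 1)))) (.node (.node (.leaf (78, 1)) (.leaf (429, 1))) (.node (.leaf (240, 1)) (.leaf (680, 0))))) (.node (.node (.node (.node (.leaf (42, 1)) (.leaf (983, 0))) (.leaf (379, 0))) (.node (.leaf (199, 0)) (.leaf (604, 1)))) (.node (.node (.leaf (117, 1)) (.leaf (486, 0))) (.node (.leaf (283, 1)) (.leaf (767, 0)))))) (.node (.node (.node (.node (.node (.leaf (24, 1)) (.leaf (898, 1))) (.leaf (354, 1))) (.node (.leaf (177, 1)) (.leaf (575, 0)))) (.node (.node (.leaf (97, 1)) (.leaf (455, 1))) (.node (.leaf (261, 0)) (.leaf (719, 1))))) (.node (.node (.node (.node (.leaf (60, 1)) (.leaf (1068, 0))) (.leaf (403, 1)))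 (.node (.leaf (218, 1)) (.leaf (637, 0)))) (.node (.node (.leaf (137, 0)) (.leaf (520, 0))) (.node (.leaf (308, 0)) (.leaf (805, 0)))))))) (.node (.node (.node (.node (.node (.node (.node (.leaf (3, 1)) (.leaf (840, 1))) (.leaf (327, 0))) (.node (.leaf (151, 0)) (.leaf (540, 1)))) (.node (.node (.leaf (74, 0)) (.leaf (423, 0))) (.node (.leaf (236, 0)) (.leaf (669, 1))))) (.node (.node (.node (.node (.leaf (38, 0)) (.leaf (962, 1))) (.leaf (373, 0))) (.node (.leaf (193, 1)) (.leaf (596, 0)))) (.node (.node (.leaf (113, 1)) (.leaf (480, 1))) (.node (.leaf (278, 1)) (.leaf (757, 1)))))) (.node (.node (.node (.node (.node (.leaf (20, 0)) (.leaf (882, 1))) (.leaf (350, 1))) (.node (.leaf (172, 1)) (.leaf (568, 1)))) (.node (.node (.leaf (92, 1)) (.leaf (449, 0))) (.node (.leaf (256, 0)) (.leaf (707, 1))))) (.node (.node (.node (.node (.leaf (56, 0)) (.leaf (1044, 1))) (.leaf (396, 1))) (.node (.leaf (212, 1)) (.leaf (629, 1)))) (.node (.node (.leaf (132, 1)) (.leaf (512,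 1))) (.node (.leaf (301, 1)) (.leaf (794, 0))))))) (.node (.node (.node (.node (.node (.node (.leaf (11, 1)) (.leaf (863, 1))) (.leaf (338, 0))) (.node (.leaf (162, 1)) (.leaf (556, 0)))) (.node (.node (.leaf (83, 0)) (.leaf (436, 0))) (.node (.leaf (245, 1)) (.leaf (690, 1))))) (.node (.node (.node (.node (.leaf (47, 0)) (.leaf (1004, 1))) (.leaf (385, 0))) (.node (.leaf (203, 0)) (.leaf (609, 1)))) (.node (.node (.leaf (122, 0)) (.leaf (496, 1))) (.node (.leaf (289, 1)) (.leaf (774, 1)))))) (.node (.node (.node (.node (.node (.leaf (28, 1)) (.leaf (920, 1))) (.leaf (362, 1))) (.node (.leaf (183, 0)) (.leaf (584, 1)))) (.node (.node (.leaf (102, 0)) (.leaf (462, 0))) (.node (.leaf (266, 1)) (.leaf (732, 0))))) (.node (.node (.node (.node (.leaf (65, 1)) (.leaf (1099, 1))) (.leaf (409, 1))) (.node (.leaf (223, 0)) (.leaf (648, 1)))) (.node (.node (.leaf (142, 0)) (.leaf (529, 0))) (.node (.leaf (314, 0)) (.leaf (817, 0))))))))) (.node (.node (.node (.node (.node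 (.node (.node (.node (.leaf (1, 1)) (.leaf (836, 1))) (.leaf (323, 1))) (.node (.leaf (148, 1)) (.leaf (538, 0)))) (.node (.node (.leaf (72, 0)) (.leaf (419, 1))) (.node (.leaf (233, 1)) (.leaf (663, 1))))) (.node (.node (.node (.node (.leaf (36, 0)) (.leaf (956, 1))) (.leaf (369, 1))) (.node (.leaf (191, 0)) (.leaf (594, 0)))) (.node (.node (.leaf (110, 1)) (.leaf (477, 1))) (.node (.leaf (276, 0)) (.leaf (748, 1)))))) (.node (.node (.node (.node (.node (.leaf (18, 0)) (.leaf (875, 1))) (.leaf (348, 0))) (.node (.leaf (170, 0)) (.leaf (565, 0)))) (.node (.node (.leaf (90, 1)) (.leaf (447, 0))) (.node (.leaf (253, 1)) (.leaf (703, 1))))) (.node (.node (.node (.node (.leaf (53, 1)) (.leaf (1028, 1))) (.leaf (393, 1))) (.node (.leaf (210, 1)) (.leaf (624, 1)))) (.node (.node (.leaf (129, 1)) (.leaf (508, 1))) (.node (.leaf (298, 1)) (.leaf (791, 1))))))) (.node (.node (.node (.node (.node (.node (.leaf (9, 1)) (.leaf (855, 0))) (.leaf (335, 0))) (.node (.leaf (160,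 1)) (.leaf (550, 1)))) (.node (.node (.leaf (81, 0)) (.leaf (434, 0))) (.node (.leaf (243, 1)) (.leaf (683, 1))))) (.node (.node (.node (.node (.leaf (44, 1)) (.leaf (993, 0))) (.leaf (381, 1))) (.node (.leaf (201, 0)) (.leaf (606, 1)))) (.node (.node (.leaf (119, 1)) (.leaf (491, 0))) (.node (.leaf (287, 0)) (.leaf (770, 0)))))) (.node (.node (.node (.node (.node (.leaf (26, 1)) (.leaf (911, 0))) (.leaf (358, 1))) (.node (.leaf (180, 1)) (.leaf (578, 1)))) (.node (.node (.leaf (100, 0)) (.leaf (458, 1))) (.node (.leaf (264, 0)) (.leaf (726, 0))))) (.node (.node (.node (.node (.leaf (63, 1)) (.leaf (1077, 0))) (.leaf (406, 1))) (.node (.leaf (221, 0)) (.leaf (642, 0)))) (.node (.node (.leaf (139, 1)) (.leaf (524, 0))) (.node (.leaf (310, 1)) (.leaf (811, 0)))))))) (.node (.node (.node (.node (.node (.node (.node (.leaf (5, 1)) (.leaf (844, 0))) (.leaf (330, 1))) (.node (.leaf (154, 1)) (.leaf (544, 1)))) (.node (.node (.leaf (76, 0)) (.leaf (425, 1))) (.node (.leaf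 (238, 0)) (.leaf (673, 0))))) (.node (.node (.node (.node (.leaf (40, 1)) (.leaf (971, 0))) (.leaf (376, 0))) (.node (.leaf (197, 0)) (.leaf (600, 0)))) (.node (.node (.leaf (115, 1)) (.leaf (482, 1))) (.node (.leaf (281, 1)) (.leaf (761, 0)))))) (.node (.node (.node (.node (.node (.leaf (22, 0)) (.leaf (893, 0))) (.leaf (352, 1))) (.node (.leaf (175, 0)) (.leaf (572, 1)))) (.node (.node (.leaf (95, 1)) (.leaf (451, 0))) (.node (.leaf (258, 1)) (.leaf (711, 1))))) (.node (.node (.node (.node (.leaf (58, 0)) (.leaf (1057, 1))) (.leaf (400, 0))) (.node (.leaf (215, 1)) (.leaf (633, 1)))) (.node (.node (.leaf (135, 0)) (.leaf (517, 0))) (.node (.leaf (304, 1)) (.leaf (797, 0))))))) (.node (.node (.node (.node (.node (.node (.leaf (13, 1)) (.leaf (868, 0))) (.leaf (342, 1))) (.node (.leaf (165, 0)) (.leaf (558, 1)))) (.node (.node (.leaf (85, 1)) (.leaf (439, 1))) (.node (.leaf (248, 0)) (.leaf (696, 0))))) (.node (.node (.node (.node (.leaf (49, 0)) (.leaf (1011, 1)))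 (.leaf (388, 1))) (.node (.leaf (205, 0)) (.leaf (613, 0)))) (.node (.node (.leaf (124, 1)) (.leaf (499, 0))) (.node (.leaf (292, 0)) (.leaf (780, 1)))))) (.node (.node (.node (.node (.node (.leaf (31, 1)) (.leaf (929, 1))) (.leaf (364, 1))) (.node (.leaf (185, 1)) (.leaf (587, 0)))) (.node (.node (.leaf (104, 0)) (.leaf (468, 1))) (.node (.leaf (269, 0)) (.leaf (737, 0))))) (.node (.node (.node (.node (.leaf (67, 1)) (.leaf (1115, 1))) (.leaf (413, 0))) (.node (.leaf (225, 0)) (.leaf (651, 0)))) (.node (.node (.leaf (144, 1)) (.leaf (533, 0))) (.node (.leaf (317, 0)) (.leaf (825, 1)))))))))) (.node (.node (.node (.node (.node (.node (.node (.node (.node (.leaf (0, 1)) (.leaf (832, 1))) (.leaf (321, 1))) (.node (.leaf (147, 1)) (.leaf (537, 0)))) (.node (.node (.leaf (70, 1)) (.leaf (418, 0))) (.node (.leaf (230, 0)) (.leaf (662, 1))))) (.node (.node (.node (.node (.leaf (35, 0)) (.leaf (945, 0))) (.leaf (368, 1))) (.node (.leaf (189, 1)) (.leaf (593, 0)))) (.node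 (.node (.leaf (109, 0)) (.leaf (476, 0))) (.node (.leaf (275, 0)) (.leaf (745, 0)))))) (.node (.node (.node (.node (.node (.leaf (16, 1)) (.leaf (872, 1))) (.leaf (346, 0))) (.node (.leaf (169, 0)) (.leaf (563, 1)))) (.node (.node (.leaf (89, 1)) (.leaf (445, 1))) (.node (.leaf (251, 1)) (.leaf (702, 0))))) (.node (.node (.node (.node (.leaf (52, 1)) (.leaf (1024, 0))) (.leaf (392, 1))) (.node (.leaf (209, 1)) (.leaf (622, 1)))) (.node (.node (.leaf (128, 1)) (.leaf (506, 1))) (.node (.leaf (297, 1)) (.leaf (786, 1))))))) (.node (.node (.node (.node (.node (.node (.leaf (8, 1)) (.leaf (852, 1))) (.leaf (334, 0))) (.node (.leaf (159, 0)) (.leaf (549, 1)))) (.node (.node (.leaf (79, 1)) (.leaf (431, 1))) (.node (.leaf (242, 1)) (.leaf (682, 0))))) (.node (.node (.node (.node (.leaf (43, 1)) (.leaf (990, 1))) (.leaf (380, 0))) (.node (.leaf (200, 0)) (.leaf (605, 1)))) (.node (.node (.leaf (118, 1)) (.leaf (489, 1))) (.node (.leaf (285, 0)) (.leaf (768, 0)))))) (.node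 (.node (.node (.node (.node (.leaf (25, 1)) (.leaf (904, 0))) (.leaf (356, 1))) (.node (.leaf (179, 0)) (.leaf (577, 1)))) (.node (.node (.leaf (99, 0)) (.leaf (456, 1))) (.node (.leaf (262, 1)) (.leaf (722, 0))))) (.node (.node (.node (.node (.leaf (62, 0)) (.leaf (1071, 1))) (.leaf (404, 1))) (.node (.leaf (219, 1)) (.leaf (640, 0)))) (.node (.node (.leaf (138, 0)) (.leaf (522, 1))) (.node (.leaf (309, 1)) (.leaf (809, 0)))))))) (.node (.node (.node (.node (.node (.node (.node (.leaf (4, 1)) (.leaf (843, 0))) (.leaf (328, 1))) (.node (.leaf (152, 1)) (.leaf (543, 0)))) (.node (.node (.leaf (75, 0)) (.leaf (424, 1))) (.node (.leaf (237, 0)) (.leaf (670, 1))))) (.node (.node (.node (.node (.leaf (39, 1)) (.leaf (969, 0))) (.leaf (375, 0))) (.node (.leaf (195, 0)) (.leaf (598, 0)))) (.node (.node (.leaf (114, 1)) (.leaf (481, 1))) (.node (.leaf (279, 1)) (.leaf (759, 1)))))) (.node (.node (.node (.node (.node (.leaf (21, 0)) (.leaf (890, 1))) (.leaf (351, 1))) (.node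 (.leaf (173, 1)) (.leaf (570, 1)))) (.node (.node (.leaf (94, 0)) (.leaf (450, 0))) (.node (.leaf (257, 1)) (.leaf (708, 1))))) (.node (.node (.node (.node (.leaf (57, 0)) (.leaf (1051, 1))) (.leaf (398, 1))) (.node (.leaf (214, 0)) (.leaf (632, 1)))) (.node (.node (.leaf (133, 1)) (.leaf (514, 1))) (.node (.leaf (303, 0)) (.leaf (795, 0))))))) (.node (.node (.node (.node (.node (.node (.leaf (12, 1)) (.leaf (866, 1))) (.leaf (340, 1))) (.node (.leaf (164, 0)) (.leaf (557, 0)))) (.node (.node (.leaf (84, 0)) (.leaf (437, 0))) (.node (.leaf (247, 0)) (.leaf (692, 0))))) (.node (.node (.node (.node (.leaf (48, 0)) (.leaf (1007, 1))) (.leaf (386, 0))) (.node (.leaf (204, 0)) (.leaf (612, 0)))) (.node (.node (.leaf (123, 0)) (.leaf (498, 0))) (.node (.leaf (290, 1)) (.leaf (776, 0)))))) (.node (.node (.node (.node (.node (.leaf (29, 1)) (.leaf (925, 1))) (.leaf (363, 1))) (.node (.leaf (184, 0)) (.leaf (586, 0)))) (.node (.node (.leaf (103, 0)) (.leaf (466, 1))) (.node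 (.leaf (268, 0)) (.leaf (735, 0))))) (.node (.node (.node (.node (.leaf (66, 1)) (.leaf (1108, 1))) (.leaf (410, 1))) (.node (.leaf (224, 0)) (.leaf (650, 0)))) (.node (.node (.leaf (143, 0)) (.leaf (532, 0))) (.node (.leaf (315, 0)) (.leaf (821, 1))))))))) (.node (.node (.node (.node (.node (.node (.node (.node (.leaf (2, 1)) (.leaf (837, 1))) (.leaf (325, 0))) (.node (.leaf (149, 1)) (.leaf (539, 0)))) (.node (.node (.leaf (73, 0)) (.leaf (421, 1))) (.node (.leaf (235, 0)) (.leaf (666, 1))))) (.node (.node (.node (.node (.leaf (37, 0)) (.leaf (957, 1))) (.leaf (371, 1))) (.node (.leaf (192, 0)) (.leaf (595, 0)))) (.node (.node (.leaf (112, 0)) (.leaf (479, 1))) (.node (.leaf (277, 1)) (.leaf (750, 0)))))) (.node (.node (.node (.node (.node (.leaf (19, 0)) (.leaf (879, 1))) (.leaf (349, 0))) (.node (.leaf (171, 0)) (.leaf (566, 0)))) (.node (.node (.leaf (91, 1)) (.leaf (448, 0))) (.node (.leaf (254, 1)) (.leaf (705, 0))))) (.node (.node (.node (.node (.leaf (55,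 0)) (.leaf (1033, 0))) (.leaf (394, 1))) (.node (.leaf (211, 1)) (.leaf (626, 1)))) (.node (.node (.leaf (130, 1)) (.leaf (511, 1))) (.node (.leaf (299, 1)) (.leaf (792, 1))))))) (.node (.node (.node (.node (.node (.node (.leaf (10, 1)) (.leaf (860, 1))) (.leaf (336, 1))) (.node (.leaf (161, 1)) (.leaf (553, 1)))) (.node (.node (.leaf (82, 0)) (.leaf (435, 0))) (.node (.leaf (244, 1)) (.leaf (686, 0))))) (.node (.node (.node (.node (.leaf (46, 0)) (.leaf (998, 0))) (.leaf (383, 1))) (.node (.leaf (202, 0)) (.leaf (608, 0)))) (.node (.node (.leaf (121, 0)) (.leaf (494, 1))) (.node (.leaf (288, 1)) (.leaf (771, 0)))))) (.node (.node (.node (.node (.node (.leaf (27, 1)) (.leaf (917, 0))) (.leaf (360, 0))) (.node (.leaf (181, 1)) (.leaf (582, 1)))) (.node (.node (.leaf (101, 0)) (.leaf (460, 0))) (.node (.leaf (265, 1)) (.leaf (730, 1))))) (.node (.node (.node (.node (.leaf (64, 1)) (.leaf (1083, 0))) (.leaf (407, 1))) (.node (.leaf (222, 0)) (.leaf (643, 1)))) (.node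 (.node (.leaf (141, 0)) (.leaf (527, 0))) (.node (.leaf (311, 1)) (.leaf (815, 1)))))))) (.node (.node (.node (.node (.node (.node (.node (.leaf (6, 1)) (.leaf (847, 0))) (.leaf (332, 0))) (.node (.leaf (155, 1)) (.leaf (546, 1)))) (.node (.node (.leaf (77, 0)) (.leaf (427, 1))) (.node (.leaf (239, 1)) (.leaf (676, 0))))) (.node (.node (.node (.node (.leaf (41, 1)) (.leaf (978, 1))) (.leaf (377, 1))) (.node (.leaf (198, 0)) (.leaf (601, 1)))) (.node (.node (.leaf (116, 1)) (.leaf (484, 1))) (.node (.leaf (282, 1)) (.leaf (763, 0)))))) (.node (.node (.node (.node (.node (.leaf (23, 0)) (.leaf (895, 1))) (.leaf (353, 1))) (.node (.leaf (176, 0)) (.leaf (573, 1)))) (.node (.node (.leaf (96, 1)) (.leaf (453, 0))) (.node (.leaf (259, 1)) (.leaf (715, 1))))) (.node (.node (.node (.node (.leaf (59, 1)) (.leaf (1061, 0))) (.leaf (402, 0))) (.node (.leaf (217, 1)) (.leaf (634, 1)))) (.node (.node (.leaf (136, 0)) (.leaf (519, 0))) (.node (.leaf (306, 1)) (.leaf (800, 1)))))))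 (.node (.node (.node (.node (.node (.node (.leaf (14, 1)) (.leaf (869, 1))) (.leaf (343, 1))) (.node (.leaf (167, 0)) (.leaf (560, 0)))) (.node (.node (.leaf (87, 0)) (.leaf (441, 1))) (.node (.leaf (249, 1)) (.leaf (698, 0))))) (.node (.node (.node (.node (.leaf (50, 0)) (.leaf (1013, 1))) (.leaf (390, 0))) (.node (.leaf (206, 1)) (.leaf (616, 0)))) (.node (.node (.leaf (125, 1)) (.leaf (501, 1))) (.node (.leaf (293, 1)) (.leaf (782, 1)))))) (.node (.node (.node (.node (.node (.leaf (32, 1)) (.leaf (935, 1))) (.leaf (365, 1))) (.node (.leaf (187, 0)) (.leaf (588, 1)))) (.node (.node (.leaf (105, 1)) (.leaf (470, 1))) (.node (.leaf (270, 1)) (.leaf (740, 1))))) (.node (.node (.node (.node (.leaf (68, 1)) (.leaf (1126, 1))) (.leaf (414, 0))) (.node (.leaf (226, 1)) (.leaf (656, 1)))) (.node (.node (.leaf (145, 1)) (.leaf (534, 1))) (.node (.leaf (319, 1)) (.leaf (827, 0))))))))))) (.node (.node (.node (.node (.node (.node (.node (.node (.node (.node (.leaf (0, 0))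 (.leaf (831, 1))) (.leaf (321, 0))) (.node (.leaf (147, 0)) (.leaf (536, 1)))) (.node (.node (.leaf (70, 0)) (.leaf (417, 1))) (.node (.leaf (229, 1)) (.leaf (659, 1))))) (.node (.node (.node (.node (.leaf (34, 1)) (.leaf (943, 1))) (.leaf (367, 0))) (.node (.leaf (189, 0)) (.leaf (591, 0)))) (.node (.node (.leaf (108, 1)) (.leaf (474, 0))) (.node (.leaf (274, 1)) (.leaf (742, 1)))))) (.node (.node (.node (.node (.node (.leaf (16, 0)) (.leaf (872, 0))) (.leaf (345, 1))) (.node (.leaf (168, 1)) (.leaf (562, 1)))) (.node (.node (.leaf (89, 0)) (.leaf (443, 1))) (.node (.leaf (251, 0)) (.leaf (701, 1))))) (.node (.node (.node (.node (.leaf (52, 0)) (.leaf (1022, 1))) (.leaf (391, 1))) (.node (.leaf (209, 0)) (.leaf (621, 0)))) (.node (.node (.leaf (128, 0)) (.leaf (505, 1))) (.node (.leaf (295, 1)) (.leaf (785, 1))))))) (.node (.node (.node (.node (.node (.node (.leaf (8, 0)) (.leaf (851, 0))) (.leaf (333, 1))) (.node (.leaf (158, 1)) (.leaf (548, 0)))) (.node (.node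 (.leaf (79, 0)) (.leaf (430, 0))) (.node (.leaf (242, 0)) (.leaf (681, 1))))) (.node (.node (.node (.node (.leaf (43, 0)) (.leaf (983, 1))) (.leaf (379, 1))) (.node (.leaf (199, 1)) (.leaf (605, 0)))) (.node (.node (.leaf (118, 0)) (.leaf (487, 0))) (.node (.leaf (284, 0)) (.leaf (767, 1)))))) (.node (.node (.node (.node (.node (.leaf (25, 0)) (.leaf (902, 1))) (.leaf (355, 0))) (.node (.leaf (178, 1)) (.leaf (575, 1)))) (.node (.node (.leaf (98, 1)) (.leaf (456, 0))) (.node (.leaf (262, 0)) (.leaf (721, 1))))) (.node (.node (.node (.node (.leaf (61, 1)) (.leaf (1070, 0))) (.leaf (404, 0))) (.node (.leaf (219, 0)) (.leaf (637, 1)))) (.node (.node (.leaf (137, 1)) (.leaf (522, 0))) (.node (.leaf (309, 0)) (.leaf (808, 0)))))))) (.node (.node (.node (.node (.node (.node (.node (.leaf (4, 0)) (.leaf (842, 1))) (.leaf (328, 0))) (.node (.leaf (151, 1)) (.leaf (541, 0)))) (.node (.node (.leaf (74, 1)) (.leaf (424, 0))) (.node (.leaf (236, 1)) (.leaf (670, 0))))) (.node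 (.node (.node (.node (.leaf (38, 1)) (.leaf (965, 1))) (.leaf (374, 1))) (.node (.leaf (194, 0)) (.leaf (597, 1)))) (.node (.node (.leaf (114, 0)) (.leaf (481, 0))) (.node (.leaf (279, 0)) (.leaf (759, 0)))))) (.node (.node (.node (.node (.node (.leaf (20, 1)) (.leaf (883, 0))) (.leaf (351, 0))) (.node (.leaf (173, 0)) (.leaf (570, 0)))) (.node (.node (.leaf (93, 1)) (.leaf (449, 1))) (.node (.leaf (256, 1)) (.leaf (708, 0))))) (.node (.node (.node (.node (.leaf (56, 1)) (.leaf (1048, 0))) (.leaf (397, 0))) (.node (.leaf (213, 1)) (.leaf (631, 1)))) (.node (.node (.leaf (133, 0)) (.leaf (513, 1))) (.node (.leaf (302, 1)) (.leaf (794, 1))))))) (.node (.node (.node (.node (.node (.node (.leaf (12, 0)) (.leaf (864, 0))) (.leaf (339, 0))) (.node (.leaf (163, 0)) (.leaf (556, 1)))) (.node (.node (.leaf (83, 1)) (.leaf (436, 1))) (.node (.leaf (246, 0)) (.leaf (691, 1))))) (.node (.node (.node (.node (.leaf (47, 1)) (.leaf (1006, 0))) (.leaf (385, 1))) (.node (.leaf (203,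 1)) (.leaf (611, 1)))) (.node (.node (.leaf (122, 1)) (.leaf (497, 1))) (.node (.leaf (290, 0)) (.leaf (775, 0)))))) (.node (.node (.node (.node (.node (.leaf (29, 0)) (.leaf (923, 0))) (.leaf (363, 0))) (.node (.leaf (183, 1)) (.leaf (585, 0)))) (.node (.node (.leaf (102, 1)) (.leaf (463, 0))) (.node (.leaf (267, 0)) (.leaf (733, 0))))) (.node (.node (.node (.node (.leaf (66, 0)) (.leaf (1102, 0))) (.leaf (410, 0))) (.node (.leaf (223, 1)) (.leaf (649, 1)))) (.node (.node (.leaf (142, 1)) (.leaf (530, 1))) (.node (.leaf (314, 1)) (.leaf (818, 0))))))))) (.node (.node (.node (.node (.node (.node (.node (.node (.leaf (2, 0)) (.leaf (837, 0))) (.leaf (324, 1))) (.node (.leaf (149, 0)) (.leaf (538, 1)))) (.node (.node (.leaf (72, 1)) (.leaf (420, 1))) (.node (.leaf (234, 0)) (.leaf (665, 1))))) (.node (.node (.node (.node (.leaf (36, 1)) (.leaf (957, 0))) (.leaf (370, 0))) (.node (.leaf (191, 1)) (.leaf (594, 1)))) (.node (.node (.leaf (111, 1)) (.leaf (478, 1))) (.node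 (.leaf (276, 1)) (.leaf (749, 0)))))) (.node (.node (.node (.node (.node (.leaf (18, 1)) (.leaf (878, 1))) (.leaf (348, 1))) (.node (.leaf (170, 1)) (.leaf (565, 1)))) (.node (.node (.leaf (91, 0)) (.leaf (447, 1))) (.node (.leaf (254, 0)) (.leaf (704, 1))))) (.node (.node (.node (.node (.leaf (54, 1)) (.leaf (1032, 1))) (.leaf (394, 0))) (.node (.leaf (211, 0)) (.leaf (625, 0)))) (.node (.node (.leaf (130, 0)) (.leaf (509, 1))) (.node (.leaf (299, 0)) (.leaf (792, 0))))))) (.node (.node (.node (.node (.node (.node (.leaf (10, 0)) (.leaf (857, 1))) (.leaf (335, 1))) (.node (.leaf (161, 0)) (.leaf (551, 0)))) (.node (.node (.leaf (81, 1)) (.leaf (434, 1))) (.node (.leaf (244, 0)) (.leaf (685, 0))))) (.node (.node (.node (.node (.leaf (45, 1)) (.leaf (996, 1))) (.leaf (382, 1))) (.node (.leaf (201, 1)) (.leaf (607, 0)))) (.node (.node (.leaf (120, 1)) (.leaf (491, 1))) (.node (.leaf (287, 1)) (.leaf (770, 1)))))) (.node (.node (.node (.node (.node (.leaf (27, 0))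 (.leaf (911, 1))) (.leaf (359, 1))) (.node (.leaf (181, 0)) (.leaf (581, 1)))) (.node (.node (.leaf (100, 1)) (.leaf (459, 1))) (.node (.leaf (264, 1)) (.leaf (727, 1))))) (.node (.node (.node (.node (.leaf (64, 0)) (.leaf (1082, 1))) (.leaf (407, 0))) (.node (.leaf (221, 1)) (.leaf (643, 0)))) (.node (.node (.leaf (140, 0)) (.leaf (526, 1))) (.node (.leaf (311, 0)) (.leaf (813, 1)))))))) (.node (.node (.node (.node (.node (.node (.node (.leaf (6, 0)) (.leaf (846, 0))) (.leaf (331, 1))) (.node (.leaf (155, 0)) (.leaf (546, 0)))) (.node (.node (.leaf (76, 1)) (.leaf (426, 1))) (.node (.leaf (239, 0)) (.leaf (673, 1))))) (.node (.node (.node (.node (.leaf (41, 0)) (.leaf (976, 1))) (.leaf (376, 1))) (.node (.leaf (197, 1)) (.leaf (601, 0)))) (.node (.node (.leaf (116, 0)) (.leaf (484, 0))) (.node (.leaf (282, 0)) (.leaf (761, 1)))))) (.node (.node (.node (.node (.node (.leaf (22, 1)) (.leaf (894, 0))) (.leaf (353, 0))) (.node (.leaf (175, 1)) (.leaf (573, 0)))) (.node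 (.node (.leaf (96, 0)) (.leaf (452, 0))) (.node (.leaf (259, 0)) (.leaf (714, 1))))) (.node (.node (.node (.node (.leaf (58, 1)) (.leaf (1060, 0))) (.leaf (400, 1))) (.node (.leaf (216, 0)) (.leaf (634, 0)))) (.node (.node (.leaf (135, 1)) (.leaf (518, 1))) (.node (.leaf (305, 1)) (.leaf (799, 1))))))) (.node (.node (.node (.node (.node (.node (.leaf (14, 0)) (.leaf (868, 1))) (.leaf (343, 0))) (.node (.leaf (165, 1)) (.leaf (559, 0)))) (.node (.node (.leaf (86, 1)) (.leaf (440, 0))) (.node (.leaf (248, 1)) (.leaf (697, 0))))) (.node (.node (.node (.node (.leaf (49, 1)) (.leaf (1013, 0))) (.leaf (389, 1))) (.node (.leaf (206, 0)) (.leaf (614, 1)))) (.node (.node (.leaf (125, 0)) (.leaf (501, 0))) (.node (.leaf (292, 1)) (.leaf (781, 1)))))) (.node (.node (.node (.node (.node (.leaf (32, 0)) (.leaf (931, 1))) (.leaf (365, 0))) (.node (.leaf (186, 0)) (.leaf (588, 0)))) (.node (.node (.leaf (105, 0)) (.leaf (469, 0))) (.node (.leaf (270, 0)) (.leaf (738, 1))))) (.node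 (.node (.node (.node (.leaf (68, 0)) (.leaf (1117, 1))) (.leaf (413, 1))) (.node (.leaf (226, 0)) (.leaf (654, 1)))) (.node (.node (.leaf (145, 0)) (.leaf (533, 1))) (.node (.leaf (319, 0)) (.leaf (826, 1)))))))))) (.node (.node (.node (.node (.node (.node (.node (.node (.node (.leaf (1, 0)) (.leaf (833, 1))) (.leaf (322, 0))) (.node (.leaf (148, 0)) (.leaf (537, 1)))) (.node (.node (.leaf (71, 1)) (.leaf (418, 1))) (.node (.leaf (232, 1)) (.leaf (663, 0))))) (.node (.node (.node (.node (.leaf (35, 1)) (.leaf (954, 0))) (.leaf (369, 0))) (.node (.leaf (190, 1)) (.leaf (593, 1)))) (.node (.node (.leaf (109, 1)) (.leaf (476, 1))) (.node (.leaf (275, 1)) (.leaf (747, 1)))))) (.node (.node (.node (.node (.node (.leaf (17, 1)) (.leaf (874, 0))) (.leaf (347, 1))) (.node (.leaf (169, 1)) (.leaf (564, 0)))) (.node (.node (.leaf (90, 0)) (.leaf (446, 1))) (.node (.leaf (252, 1)) (.leaf (702, 1))))) (.node (.node (.node (.node (.leaf (53, 0)) (.leaf (1025, 1))) (.leaf (393,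 0))) (.node (.leaf (210, 0)) (.leaf (623, 0)))) (.node (.node (.leaf (129, 0)) (.leaf (507, 1))) (.node (.leaf (298, 0)) (.leaf (790, 1))))))) (.node (.node (.node (.node (.node (.node (.leaf (9, 0)) (.leaf (854, 0))) (.leaf (334, 1))) (.node (.leaf (160, 0)) (.leaf (550, 0)))) (.node (.node (.leaf (80, 1)) (.leaf (432, 0))) (.node (.leaf (243, 0)) (.leaf (682, 1))))) (.node (.node (.node (.node (.leaf (44, 0)) (.leaf (992, 0))) (.leaf (381, 0))) (.node (.leaf (200, 1)) (.leaf (606, 0)))) (.node (.node (.leaf (119, 0)) (.leaf (490, 0))) (.node (.leaf (285, 1)) (.leaf (769, 1)))))) (.node (.node (.node (.node (.node (.leaf (26, 0)) (.leaf (905, 0))) (.leaf (357, 1))) (.node (.leaf (179, 1)) (.leaf (578, 0)))) (.node (.node (.leaf (99, 1)) (.leaf (457, 0))) (.node (.leaf (263, 0)) (.leaf (725, 1))))) (.node (.node (.node (.node (.leaf (63, 0)) (.leaf (1074, 1))) (.leaf (405, 1))) (.node (.leaf (220, 1)) (.leaf (641, 1)))) (.node (.node (.leaf (138, 1)) (.leaf (523,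 0))) (.node (.leaf (310, 0)) (.leaf (810, 1)))))))) (.node (.node (.node (.node (.node (.node (.node (.leaf (5, 0)) (.leaf (843, 1))) (.leaf (330, 0))) (.node (.leaf (153, 1)) (.leaf (544, 0)))) (.node (.node (.leaf (75, 1)) (.leaf (425, 0))) (.node (.leaf (237, 1)) (.leaf (671, 0))))) (.node (.node (.node (.node (.leaf (40, 0)) (.leaf (970, 1))) (.leaf (375, 1))) (.node (.leaf (195, 1)) (.leaf (599, 1)))) (.node (.node (.leaf (115, 0)) (.leaf (482, 0))) (.node (.leaf (280, 1)) (.leaf (760, 0)))))) (.node (.node (.node (.node (.node (.leaf (21, 1)) (.leaf (891, 1))) (.leaf (352, 0))) (.node (.leaf (174, 1)) (.leaf (571, 1)))) (.node (.node (.leaf (95, 0)) (.leaf (450, 1))) (.node (.leaf (258, 0)) (.leaf (710, 0))))) (.node (.node (.node (.node (.leaf (57, 1)) (.leaf (1053, 1))) (.leaf (399, 0))) (.node (.leaf (214, 1)) (.leaf (633, 0)))) (.node (.node (.leaf (134, 1)) (.leaf (515, 1))) (.node (.leaf (303, 1)) (.leaf (796, 1))))))) (.node (.node (.node (.node (.node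 (.node (.leaf (13, 0)) (.leaf (867, 1))) (.leaf (342, 0))) (.node (.leaf (164, 1)) (.leaf (557, 1)))) (.node (.node (.leaf (84, 1)) (.leaf (438, 1))) (.node (.leaf (247, 1)) (.leaf (695, 1))))) (.node (.node (.node (.node (.leaf (48, 1)) (.leaf (1009, 1))) (.leaf (387, 0))) (.node (.leaf (204, 1)) (.leaf (612, 1)))) (.node (.node (.leaf (124, 0)) (.leaf (498, 1))) (.node (.leaf (291, 1)) (.leaf (780, 0)))))) (.node (.node (.node (.node (.node (.leaf (30, 1)) (.leaf (926, 0))) (.leaf (364, 0))) (.node (.leaf (184, 1)) (.leaf (586, 1)))) (.node (.node (.leaf (103, 1)) (.leaf (467, 0))) (.node (.leaf (268, 1)) (.leaf (736, 1))))) (.node (.node (.node (.node (.leaf (67, 0)) (.leaf (1110, 1))) (.leaf (412, 1))) (.node (.leaf (224, 1)) (.leaf (650, 1)))) (.node (.node (.leaf (143, 1)) (.leaf (532, 1))) (.node (.leaf (316, 1)) (.leaf (824, 1))))))))) (.node (.node (.node (.node (.node (.node (.node (.node (.leaf (3, 0)) (.leaf (839, 1))) (.leaf (326, 1))) (.node (.leaf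 (150, 0)) (.leaf (540, 0)))) (.node (.node (.leaf (73, 1)) (.leaf (422, 0))) (.node (.leaf (235, 1)) (.leaf (668, 0))))) (.node (.node (.node (.node (.leaf (37, 1)) (.leaf (958, 1))) (.leaf (372, 1))) (.node (.leaf (193, 0)) (.leaf (595, 1)))) (.node (.node (.leaf (113, 0)) (.leaf (480, 0))) (.node (.leaf (278, 0)) (.leaf (755, 1)))))) (.node (.node (.node (.node (.node (.leaf (19, 1)) (.leaf (880, 1))) (.leaf (349, 1))) (.node (.leaf (172, 0)) (.leaf (568, 0)))) (.node (.node (.leaf (92, 0)) (.leaf (448, 1))) (.node (.leaf (255, 1)) (.leaf (707, 0))))) (.node (.node (.node (.node (.leaf (55, 1)) (.leaf (1038, 1))) (.leaf (395, 1))) (.node (.leaf (212, 0)) (.leaf (627, 0)))) (.node (.node (.leaf (131, 1)) (.leaf (512, 0))) (.node (.leaf (300, 1)) (.leaf (793, 0))))))) (.node (.node (.node (.node (.node (.node (.leaf (11, 0)) (.leaf (861, 0))) (.leaf (337, 0))) (.node (.leaf (162, 0)) (.leaf (554, 0)))) (.node (.node (.leaf (82, 1)) (.leaf (435, 1))) (.node (.leaf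 (245, 0)) (.leaf (688, 1))))) (.node (.node (.node (.node (.leaf (46, 1)) (.leaf (1003, 1))) (.leaf (384, 0))) (.node (.leaf (202, 1)) (.leaf (609, 0)))) (.node (.node (.leaf (121, 1)) (.leaf (495, 1))) (.node (.leaf (289, 0)) (.leaf (774, 0)))))) (.node (.node (.node (.node (.node (.leaf (28, 0)) (.leaf (918, 1))) (.leaf (362, 0))) (.node (.leaf (182, 1)) (.leaf (583, 1)))) (.node (.node (.leaf (101, 1)) (.leaf (461, 0))) (.node (.leaf (266, 0)) (.leaf (731, 1))))) (.node (.node (.node (.node (.leaf (65, 0)) (.leaf (1092, 1))) (.leaf (408, 1))) (.node (.leaf (222, 1)) (.leaf (646, 1)))) (.node (.node (.leaf (141, 1)) (.leaf (528, 0))) (.node (.leaf (312, 1)) (.leaf (816, 1)))))))) (.node (.node (.node (.node (.node (.node (.node (.leaf (7, 0)) (.leaf (849, 0))) (.leaf (332, 1))) (.node (.leaf (156, 1)) (.leaf (547, 0)))) (.node (.node (.leaf (78, 0)) (.leaf (429, 0))) (.node (.leaf (240, 0)) (.leaf (677, 0))))) (.node (.node (.node (.node (.leaf (42, 0)) (.leaf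 (979, 1))) (.leaf (378, 0))) (.node (.leaf (198, 1)) (.leaf (603, 1)))) (.node (.node (.leaf (117, 0)) (.leaf (485, 1))) (.node (.leaf (283, 0)) (.leaf (764, 0)))))) (.node (.node (.node (.node (.node (.leaf (23, 1)) (.leaf (897, 1))) (.leaf (354, 0))) (.node (.leaf (176, 1)) (.leaf (574, 1)))) (.node (.node (.leaf (97, 0)) (.leaf (453, 1))) (.node (.leaf (260, 1)) (.leaf (717, 1))))) (.node (.node (.node (.node (.leaf (60, 0)) (.leaf (1064, 0))) (.leaf (402, 1))) (.node (.leaf (218, 0)) (.leaf (635, 0)))) (.node (.node (.leaf (136, 1)) (.leaf (519, 1))) (.node (.leaf (307, 0)) (.leaf (803, 1))))))) (.node (.node (.node (.node (.node (.node (.leaf (15, 0)) (.leaf (870, 1))) (.leaf (344, 0))) (.node (.leaf (167, 1)) (.leaf (560, 1)))) (.node (.node (.leaf (87, 1)) (.leaf (442, 0))) (.node (.leaf (250, 0)) (.leaf (699, 0))))) (.node (.node (.node (.node (.leaf (50, 1)) (.leaf (1017, 1))) (.leaf (390, 1))) (.node (.leaf (207, 0)) (.leaf (617, 0)))) (.node (.node (.leaf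 (127, 0)) (.leaf (503, 1))) (.node (.leaf (294, 1)) (.leaf (783, 0)))))) (.node (.node (.node (.node (.node (.leaf (33, 1)) (.leaf (940, 0))) (.leaf (366, 0))) (.node (.leaf (187, 1)) (.leaf (589, 0)))) (.node (.node (.leaf (106, 1)) (.leaf (471, 0))) (.node (.leaf (272, 0)) (.leaf (741, 0))))) (.node (.node (.node (.node (.leaf (69, 0)) (.leaf (1127, 0))) (.leaf (414, 1))) (.node (.leaf (227, 1)) (.leaf (657, 1)))) (.node (.node (.leaf (146, 0)) (.leaf (535, 0))) (.node (.leaf (320, 0)) (.leaf (828, 0)))))))))))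

/-- data -/
def cert2 : Trie (ℕ × ℕ × ℕ) := .node (.node (.node (.node (.node (.node (.node (.node (.node (.node (.node (.leaf (0, 0, 5)) (.leaf (4, 159, 3))) (.leaf (4, 136, 9))) (.node (.leaf (4, 176, 2)) (.leaf (2, 946, 7)))) (.node (.node (.node (.leaf (0, 16, 5)) (.leaf (0, 169, 4))) (.leaf (2, 297, 4))) (.node (.leaf (2, 405, 7)) (.leaf (3, 511, 4))))) (.node (.node (.node (.node (.leaf (2, 163, 4)) (.leaf (4, 573, 3))) (.leaf (1, 33, 5))) (.node (.leaf (3, 542, 11)) (.leaf (3, 194, 8)))) (.node (.node (.leaf (3, 1000, 2)) (.leaf (2, 583, 4))) (.node (.leaf (3, 412, 9)) (.leaf (3, 962, 4)))))) (.node (.node (.node (.node (.node (.leaf (2, 15, 4)) (.leaf (4, 366, 3))) (.leaf (4, 617, 3))) (.node (.leaf (2, 359, 6)) (.leaf (3, 41, 9)))) (.node (.node (.leaf (2, 60, 3)) (.leaf (2, 428, 6))) (.node (.leaf (3, 23, 4)) (.leaf (3, 756, 1))))) (.node (.node (.node (.node (.leaf (2, 706, 3)) (.leaf (4, 783, 1))) (.leaf (2, 115, 5))) (.node (.leaf (1, 436, 4)) (.leaf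 (3, 335, 6)))) (.node (.node (.leaf (2, 409, 6)) (.leaf (2, 777, 4))) (.node (.leaf (3, 840, 3)) (.leaf (3, 1101, 11))))))) (.node (.node (.node (.node (.node (.node (.leaf (0, 202, 5)) (.leaf (4, 271, 5))) (.leaf (4, 260, 0))) (.node (.leaf (2, 116, 0)) (.leaf (2, 1021, 2)))) (.node (.node (.leaf (0, 243, 5)) (.leaf (2, 373, 3))) (.node (.leaf (2, 622, 4)) (.leaf (3, 637, 10))))) (.node (.node (.node (.node (.leaf (2, 286, 3)) (.leaf (4, 669, 7))) (.leaf (2, 28, 3))) (.node (.leaf (0, 176, 5)) (.leaf (3, 265, 6)))) (.node (.node (.leaf (1, 129, 4)) (.leaf (2, 661, 0))) (.node (.leaf (3, 606, 10)) (.leaf (3, 1043, 11)))))) (.node (.node (.node (.node (.node (.leaf (2, 68, 4)) (.leaf (4, 444, 7))) (.leaf (0, 200, 4))) (.node (.leaf (2, 983, 6)) (.leaf (3, 116, 3)))) (.node (.node (.leaf (2, 300, 3)) (.leaf (2, 499, 6))) (.node (.leaf (3, 211, 8)) (.leaf (3, 858, 11))))) (.node (.node (.node (.node (.leaf (3, 263, 10)) (.leaf (4, 943, 3))) (.leaf (2, 195, 2))) (.node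 (.leaf (2, 229, 6)) (.leaf (3, 426, 7)))) (.node (.node (.leaf (3, 150, 9)) (.leaf (2, 875, 3))) (.node (.leaf (4, 9, 6)) (.leaf (4, 33, 8)))))))) (.node (.node (.node (.node (.node (.node (.node (.leaf (0, 28, 5)) (.leaf (4, 192, 3))) (.leaf (4, 200, 8))) (.node (.leaf (0, 393, 1)) (.leaf (2, 980, 3)))) (.node (.node (.leaf (0, 100, 5)) (.leaf (2, 330, 6))) (.node (.leaf (2, 532, 6)) (.leaf (3, 598, 1))))) (.node (.node (.node (.node (.leaf (2, 206, 4)) (.leaf (4, 621, 6))) (.leaf (1, 327, 7))) (.node (.leaf (4, 76, 1)) (.leaf (3, 241, 9)))) (.node (.node (.leaf (0, 112, 3)) (.leaf (2, 625, 4))) (.node (.leaf (3, 504, 4)) (.leaf (3, 998, 10)))))) (.node (.node (.node (.node (.node (.leaf (2, 37, 4)) (.leaf (4, 408, 8))) (.leaf (4, 862, 10))) (.node (.leaf (2, 645, 3)) (.leaf (3, 88, 2)))) (.node (.node (.leaf (2, 165, 6)) (.leaf (2, 467, 5))) (.node (.leaf (3, 79, 4)) (.leaf (3, 816, 11))))) (.node (.node (.node (.node (.leaf (3, 142, 10)) (.leaf (4, 837, 2)))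 (.leaf (2, 160, 4))) (.node (.leaf (2, 141, 4)) (.leaf (3, 377, 5)))) (.node (.node (.leaf (2, 803, 7)) (.leaf (2, 826, 6))) (.node (.leaf (3, 1034, 9)) (.leaf (3, 1144, 6))))))) (.node (.node (.node (.node (.node (.node (.leaf (2, 2, 3)) (.leaf (4, 305, 4))) (.leaf (4, 409, 4))) (.node (.leaf (2, 209, 4)) (.leaf (2, 1113, 7)))) (.node (.node (.leaf (1, 148, 4)) (.leaf (2, 392, 4))) (.node (.leaf (2, 842, 4)) (.leaf (3, 713, 6))))) (.node (.node (.node (.node (.leaf (2, 407, 4)) (.leaf (4, 721, 2))) (.leaf (2, 88, 4))) (.node (.leaf (1, 70, 2)) (.leaf (3, 304, 8)))) (.node (.node (.leaf (2, 128, 0)) (.leaf (2, 720, 7))) (.node (.leaf (3, 753, 9)) (.leaf (3, 1067, 11)))))) (.node (.node (.node (.node (.node (.leaf (2, 102, 4)) (.leaf (4, 516, 7))) (.leaf (0, 460, 2))) (.node (.leaf (3, 154, 2)) (.leaf (3, 165, 8)))) (.node (.node (.leaf (2, 619, 4)) (.leaf (2, 536, 6))) (.node (.leaf (3, 359, 2)) (.leaf (3, 914, 4))))) (.node (.node (.node (.node (.leaf (3, 676,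 10)) (.leaf (4, 1012, 0))) (.leaf (2, 264, 5))) (.node (.leaf (2, 369, 6)) (.leaf (3, 463, 8)))) (.node (.node (.leaf (3, 539, 9)) (.leaf (2, 914, 2))) (.node (.leaf (4, 34, 6)) (.leaf (4, 93, 6))))))))) (.node (.node (.node (.node (.node (.node (.node (.node (.leaf (0, 10, 5)) (.leaf (4, 175, 3))) (.leaf (4, 179, 2))) (.node (.leaf (0, 82, 4)) (.leaf (2, 972, 3)))) (.node (.node (.leaf (0, 60, 5)) (.leaf (2, 313, 6))) (.node (.leaf (2, 506, 5)) (.leaf (3, 570, 8))))) (.node (.node (.node (.node (.leaf (2, 178, 3)) (.leaf (4, 588, 5))) (.leaf (1, 143, 4))) (.node (.leaf (3, 774, 8)) (.leaf (3, 213, 6)))) (.node (.node (.leaf (0, 26, 4)) (.leaf (2, 601, 0))) (.node (.leaf (3, 451, 6)) (.leaf (3, 976, 11)))))) (.node (.node (.node (.node (.node (.leaf (2, 23, 4)) (.leaf (4, 393, 2))) (.leaf (4, 739, 3))) (.node (.leaf (2, 511, 3)) (.leaf (3, 61, 3)))) (.node (.node (.leaf (2, 106, 3)) (.leaf (2, 445, 6))) (.node (.leaf (3, 51, 9)) (.leaf (3, 794, 9))))) (.node (.node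 (.node (.node (.leaf (3, 42, 10)) (.leaf (4, 813, 8))) (.leaf (2, 140, 5))) (.node (.leaf (2, 76, 0)) (.leaf (3, 343, 9)))) (.node (.node (.leaf (2, 533, 0)) (.leaf (2, 804, 3))) (.node (.leaf (3, 972, 1)) (.leaf (3, 1122, 11))))))) (.node (.node (.node (.node (.node (.node (.leaf (1, 9, 7)) (.leaf (4, 286, 8))) (.leaf (4, 372, 10))) (.node (.leaf (2, 155, 0)) (.leaf (2, 1069, 6)))) (.node (.node (.leaf (1, 42, 4)) (.leaf (2, 386, 6))) (.node (.leaf (2, 774, 5)) (.leaf (3, 672, 11))))) (.node (.node (.node (.node (.leaf (2, 339, 4)) (.leaf (4, 697, 9))) (.leaf (2, 51, 4))) (.node (.leaf (0, 470, 0)) (.leaf (3, 288, 2)))) (.node (.node (.leaf (2, 82, 0)) (.leaf (2, 693, 5))) (.node (.leaf (3, 674, 2)) (.leaf (3, 1049, 4)))))) (.node (.node (.node (.node (.node (.leaf (2, 83, 4)) (.leaf (4, 484, 2))) (.leaf (0, 276, 4))) (.node (.leaf (3, 5, 6)) (.leaf (3, 145, 5)))) (.node (.node (.leaf (2, 465, 4)) (.leaf (2, 521, 7))) (.node (.leaf (3, 281, 6)) (.leaf (3, 873,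 11))))) (.node (.node (.node (.node (.leaf (3, 380, 10)) (.leaf (4, 976, 3))) (.leaf (2, 252, 3))) (.node (.leaf (2, 314, 6)) (.leaf (3, 438, 7)))) (.node (.node (.leaf (3, 234, 10)) (.leaf (2, 894, 6))) (.node (.leaf (4, 22, 3)) (.leaf (4, 61, 6)))))))) (.node (.node (.node (.node (.node (.node (.node (.leaf (0, 50, 5)) (.leaf (4, 250, 4))) (.leaf (4, 224, 4))) (.node (.leaf (1, 119, 2)) (.leaf (2, 1000, 2)))) (.node (.node (.leaf (0, 168, 5)) (.leaf (2, 351, 4))) (.node (.leaf (2, 565, 4)) (.leaf (3, 613, 8))))) (.node (.node (.node (.node (.leaf (2, 247, 4)) (.leaf (4, 655, 5))) (.leaf (2, 9, 4))) (.node (.leaf (4, 370, 2)) (.leaf (3, 250, 9)))) (.node (.node (.leaf (1, 23, 6)) (.leaf (2, 653, 3))) (.node (.leaf (3, 555, 4)) (.leaf (3, 1032, 6)))))) (.node (.node (.node (.node (.node (.leaf (2, 52, 4)) (.leaf (4, 420, 2))) (.leaf (0, 103, 3))) (.node (.leaf (2, 823, 3)) (.leaf (3, 97, 6)))) (.node (.node (.leaf (2, 240, 6)) (.leaf (2, 478, 4))) (.node (.leaf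 (3, 125, 4)) (.leaf (3, 832, 6))))) (.node (.node (.node (.node (.leaf (3, 201, 10)) (.leaf (4, 922, 10))) (.leaf (2, 180, 4))) (.node (.leaf (2, 190, 7)) (.leaf (3, 398, 2)))) (.node (.node (.leaf (3, 18, 10)) (.leaf (2, 847, 0))) (.node (.leaf (3, 1098, 2)) (.leaf (4, 7, 7))))))) (.node (.node (.node (.node (.node (.node (.leaf (2, 7, 4)) (.leaf (4, 344, 5))) (.leaf (4, 529, 2))) (.node (.leaf (2, 234, 3)) (.leaf (3, 13, 6)))) (.node (.node (.leaf (2, 16, 3)) (.leaf (2, 412, 4))) (.node (.leaf (2, 1019, 0)) (.leaf (3, 731, 0))))) (.node (.node (.node (.node (.leaf (2, 567, 3)) (.leaf (4, 745, 4))) (.leaf (2, 99, 4))) (.node (.leaf (1, 198, 6)) (.leaf (3, 320, 9)))) (.node (.node (.leaf (2, 312, 7)) (.leaf (2, 737, 5))) (.node (.leaf (3, 795, 1)) (.leaf (3, 1088, 11)))))) (.node (.node (.node (.node (.node (.leaf (2, 132, 3)) (.leaf (4, 545, 5))) (.leaf (0, 727, 2))) (.node (.leaf (3, 361, 8)) (.leaf (3, 184, 6)))) (.node (.node (.leaf (3, 62, 10)) (.leaf (2, 557,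 5))) (.node (.leaf (3, 387, 10)) (.leaf (3, 941, 10))))) (.node (.node (.node (.node (.leaf (3, 777, 11)) (.leaf (4, 1093, 0))) (.leaf (2, 276, 2))) (.node (.leaf (2, 383, 0)) (.leaf (3, 488, 6)))) (.node (.node (.leaf (4, 23, 8)) (.leaf (2, 929, 1))) (.node (.leaf (4, 98, 10)) (.leaf (4, 109, 6)))))))))) (.node (.node (.node (.node (.node (.node (.node (.node (.node (.leaf (0, 4, 5)) (.leaf (4, 163, 5))) (.leaf (4, 172, 3))) (.node (.leaf (4, 251, 2)) (.leaf (2, 957, 0)))) (.node (.node (.leaf (0, 47, 5)) (.leaf (2, 306, 4))) (.node (.leaf (2, 422, 6)) (.leaf (3, 563, 4))))) (.node (.node (.node (.node (.leaf (2, 173, 4)) (.leaf (4, 577, 8))) (.leaf (1, 123, 7))) (.node (.leaf (3, 619, 2)) (.leaf (3, 206, 7)))) (.node (.node (.leaf (4, 63, 3)) (.leaf (2, 594, 5))) (.node (.leaf (3, 445, 11)) (.leaf (3, 969, 10)))))) (.node (.node (.node (.node (.node (.leaf (2, 19, 4)) (.leaf (4, 378, 1))) (.leaf (4, 707, 2))) (.node (.leaf (2, 466, 2)) (.leaf (3, 56, 8)))) (.node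 (.node (.leaf (2, 90, 6)) (.leaf (2, 437, 2))) (.node (.leaf (3, 44, 2)) (.leaf (3, 768, 2))))) (.node (.node (.node (.node (.leaf (2, 829, 3)) (.leaf (4, 794, 5))) (.leaf (2, 126, 4))) (.node (.leaf (2, 29, 5)) (.leaf (3, 341, 8)))) (.node (.node (.leaf (2, 431, 3)) (.leaf (2, 790, 1))) (.node (.leaf (3, 899, 1)) (.leaf (3, 1112, 11))))))) (.node (.node (.node (.node (.node (.node (.leaf (1, 1, 7)) (.leaf (4, 280, 9))) (.leaf (4, 294, 8))) (.node (.leaf (2, 135, 0)) (.leaf (2, 1049, 7)))) (.node (.node (.leaf (1, 19, 4)) (.leaf (2, 379, 2))) (.node (.leaf (2, 648, 4)) (.leaf (3, 650, 10))))) (.node (.node (.node (.node (.leaf (2, 319, 4)) (.leaf (4, 683, 8))) (.leaf (2, 33, 4))) (.node (.leaf (0, 354, 3)) (.leaf (3, 278, 4)))) (.node (.node (.leaf (2, 56, 0)) (.leaf (2, 669, 4))) (.node (.leaf (3, 636, 1)) (.leaf (3, 1045, 0)))))) (.node (.node (.node (.node (.node (.leaf (2, 78, 4)) (.leaf (4, 450, 2))) (.leaf (0, 266, 5))) (.node (.leaf (3, 0, 9)) (.leaf (3,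 124, 7)))) (.node (.node (.leaf (2, 357, 3)) (.leaf (2, 508, 3))) (.node (.leaf (3, 271, 8)) (.leaf (3, 864, 7))))) (.node (.node (.node (.node (.leaf (3, 334, 10)) (.leaf (4, 968, 5))) (.leaf (2, 244, 3))) (.node (.leaf (2, 291, 3)) (.leaf (3, 432, 10)))) (.node (.node (.leaf (3, 192, 10)) (.leaf (2, 888, 4))) (.node (.leaf (4, 13, 8)) (.leaf (4, 44, 8)))))))) (.node (.node (.node (.node (.node (.node (.node (.leaf (0, 35, 5)) (.leaf (4, 214, 5))) (.leaf (4, 219, 2))) (.node (.leaf (1, 21, 6)) (.leaf (2, 982, 6)))) (.node (.node (.leaf (0, 133, 5)) (.leaf (2, 345, 0))) (.node (.leaf (2, 550, 6)) (.leaf (3, 608, 10))))) (.node (.node (.node (.node (.leaf (2, 223, 4)) (.leaf (4, 637, 2))) (.leaf (1, 357, 6))) (.node (.leaf (4, 149, 1)) (.leaf (3, 244, 6)))) (.node (.node (.leaf (1, 3, 6)) (.leaf (2, 629, 2))) (.node (.leaf (3, 530, 9)) (.leaf (3, 1014, 11)))))) (.node (.node (.node (.node (.node (.leaf (2, 42, 4)) (.leaf (4, 413, 5))) (.leaf (4, 1094, 0))) (.node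 (.leaf (2, 699, 6)) (.leaf (3, 90, 4)))) (.node (.node (.leaf (2, 188, 4)) (.leaf (2, 472, 3))) (.node (.leaf (3, 101, 8)) (.leaf (3, 824, 3))))) (.node (.node (.node (.node (.leaf (3, 163, 10)) (.leaf (4, 907, 9))) (.leaf (2, 174, 0))) (.node (.leaf (2, 154, 4)) (.leaf (3, 389, 6)))) (.node (.node (.leaf (3, 10, 10)) (.leaf (2, 831, 5))) (.node (.leaf (3, 1076, 11)) (.leaf (3, 1150, 11))))))) (.node (.node (.node (.node (.node (.node (.leaf (2, 4, 3)) (.leaf (4, 314, 8))) (.leaf (4, 493, 7))) (.node (.leaf (2, 226, 4)) (.leaf (3, 2, 9)))) (.node (.node (.leaf (1, 353, 4)) (.leaf (2, 408, 0))) (.node (.leaf (2, 887, 0)) (.leaf (3, 723, 11))))) (.node (.node (.node (.node (.leaf (2, 504, 3)) (.leaf (4, 724, 10))) (.leaf (2, 95, 4))) (.node (.leaf (1, 138, 5)) (.leaf (3, 309, 7)))) (.node (.node (.leaf (2, 281, 7)) (.leaf (2, 733, 6))) (.node (.leaf (3, 772, 4)) (.leaf (3, 1078, 2)))))) (.node (.node (.node (.node (.node (.leaf (2, 121, 4)) (.leaf (4, 524, 9))) (.leaf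 (0, 565, 1))) (.node (.leaf (3, 286, 2)) (.leaf (3, 176, 2)))) (.node (.node (.leaf (2, 664, 3)) (.leaf (2, 538, 6))) (.node (.leaf (3, 374, 2)) (.leaf (3, 925, 6))))) (.node (.node (.node (.node (.leaf (3, 697, 10)) (.leaf (4, 1025, 8))) (.leaf (2, 271, 5))) (.node (.leaf (2, 374, 3)) (.leaf (3, 466, 2)))) (.node (.node (.leaf (4, 12, 3)) (.leaf (2, 925, 1))) (.node (.leaf (4, 51, 7)) (.leaf (4, 99, 4))))))))) (.node (.node (.node (.node (.node (.node (.node (.node (.leaf (0, 18, 5)) (.leaf (4, 181, 3))) (.leaf (4, 195, 3))) (.node (.leaf (0, 160, 4)) (.leaf (2, 974, 5)))) (.node (.node (.leaf (0, 84, 5)) (.leaf (2, 321, 4))) (.node (.leaf (2, 522, 6)) (.leaf (3, 591, 10))))) (.node (.node (.node (.node (.leaf (2, 201, 4)) (.leaf (4, 594, 9))) (.leaf (1, 214, 5))) (.node (.leaf (3, 918, 11)) (.leaf (3, 223, 9)))) (.node (.node (.leaf (0, 62, 3)) (.leaf (2, 616, 2))) (.node (.leaf (3, 473, 11)) (.leaf (3, 994, 11)))))) (.node (.node (.node (.node (.node (.leaf (2,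 31, 3)) (.leaf (4, 402, 7))) (.leaf (4, 789, 2))) (.node (.leaf (2, 585, 3)) (.leaf (3, 78, 7)))) (.node (.node (.leaf (2, 142, 4)) (.leaf (2, 453, 6))) (.node (.leaf (3, 65, 4)) (.leaf (3, 807, 8))))) (.node (.node (.node (.node (.leaf (3, 96, 10)) (.leaf (4, 831, 9))) (.leaf (2, 145, 4))) (.node (.leaf (2, 108, 4)) (.leaf (3, 360, 10)))) (.node (.node (.leaf (2, 599, 7)) (.leaf (2, 806, 7))) (.node (.leaf (3, 1004, 2)) (.leaf (3, 1128, 1))))))) (.node (.node (.node (.node (.node (.node (.leaf (2, 0, 3)) (.leaf (4, 301, 8))) (.leaf (4, 396, 7))) (.node (.leaf (2, 171, 3)) (.leaf (2, 1104, 2)))) (.node (.node (.leaf (1, 75, 4)) (.leaf (2, 390, 5))) (.node (.leaf (2, 794, 6)) (.leaf (3, 693, 8))))) (.node (.node (.node (.node (.leaf (2, 367, 4)) (.leaf (4, 716, 7))) (.leaf (2, 81, 4))) (.node (.leaf (1, 38, 5)) (.leaf (3, 299, 8)))) (.node (.node (.leaf (2, 112, 3)) (.leaf (2, 713, 3))) (.node (.leaf (3, 709, 11)) (.leaf (3, 1058, 0)))))) (.node (.node (.node (.node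 (.node (.leaf (2, 91, 4)) (.leaf (4, 497, 5))) (.leaf (0, 289, 2))) (.node (.leaf (3, 72, 9)) (.leaf (3, 158, 4)))) (.node (.node (.leaf (2, 513, 3)) (.leaf (2, 526, 4))) (.node (.leaf (3, 330, 10)) (.leaf (3, 885, 6))))) (.node (.node (.node (.node (.leaf (3, 536, 10)) (.leaf (4, 999, 9))) (.leaf (2, 255, 4))) (.node (.leaf (2, 335, 4)) (.leaf (3, 448, 9)))) (.node (.node (.leaf (3, 357, 2)) (.leaf (2, 904, 5))) (.node (.leaf (4, 28, 3)) (.leaf (4, 87, 6)))))))) (.node (.node (.node (.node (.node (.node (.node (.leaf (0, 69, 5)) (.leaf (4, 259, 7))) (.leaf (4, 241, 2))) (.node (.leaf (1, 175, 4)) (.leaf (2, 1004, 6)))) (.node (.node (.leaf (0, 212, 5)) (.leaf (2, 360, 0))) (.node (.leaf (2, 609, 6)) (.leaf (3, 629, 6))))) (.node (.node (.node (.node (.leaf (2, 250, 4)) (.leaf (4, 659, 9))) (.leaf (2, 24, 0))) (.node (.leaf (0, 116, 4)) (.leaf (3, 256, 10)))) (.node (.node (.leaf (1, 83, 4)) (.leaf (2, 657, 5))) (.node (.leaf (3, 577, 4)) (.leaf (3, 1038, 9))))))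 (.node (.node (.node (.node (.node (.leaf (2, 57, 4)) (.leaf (4, 435, 2))) (.leaf (0, 149, 3))) (.node (.leaf (2, 862, 6)) (.leaf (3, 105, 8)))) (.node (.node (.leaf (2, 263, 4)) (.leaf (2, 488, 4))) (.node (.leaf (3, 136, 4)) (.leaf (3, 844, 10))))) (.node (.node (.node (.node (.leaf (3, 226, 10)) (.leaf (4, 928, 5))) (.leaf (2, 189, 5))) (.node (.leaf (2, 220, 0)) (.leaf (3, 420, 5)))) (.node (.node (.leaf (3, 104, 9)) (.leaf (2, 852, 0))) (.node (.leaf (4, 0, 4)) (.leaf (4, 16, 4))))))) (.node (.node (.node (.node (.node (.node (.leaf (2, 11, 4)) (.leaf (4, 355, 6))) (.leaf (4, 551, 1))) (.node (.leaf (2, 267, 3)) (.leaf (3, 26, 9)))) (.node (.node (.leaf (2, 32, 3)) (.leaf (2, 417, 4))) (.node (.leaf (3, 1, 6)) (.leaf (3, 734, 7))))) (.node (.node (.node (.node (.leaf (2, 633, 4)) (.leaf (4, 777, 3))) (.leaf (2, 103, 3))) (.node (.leaf (1, 294, 4)) (.leaf (3, 325, 0)))) (.node (.node (.leaf (2, 384, 4)) (.leaf (2, 763, 3))) (.node (.leaf (3, 823, 8)) (.leaf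 (3, 1090, 11)))))) (.node (.node (.node (.node (.node (.leaf (2, 138, 4)) (.leaf (4, 547, 3))) (.leaf (0, 894, 3))) (.node (.leaf (3, 493, 9)) (.leaf (3, 186, 5)))) (.node (.node (.leaf (3, 384, 10)) (.leaf (2, 570, 6))) (.node (.leaf (3, 396, 6)) (.leaf (3, 953, 11))))) (.node (.node (.node (.node (.leaf (3, 975, 11)) (.leaf (4, 1128, 8))) (.leaf (2, 282, 6))) (.node (.leaf (2, 397, 6)) (.leaf (3, 491, 10)))) (.node (.node (.leaf (4, 67, 8)) (.leaf (2, 936, 1))) (.node (.leaf (4, 121, 3)) (.leaf (4, 133, 8))))))))))) (.node (.node (.node (.node (.node (.node (.node (.node (.node (.node (.leaf (0, 2, 5)) (.leaf (4, 161, 2))) (.leaf (4, 153, 8))) (.node (.leaf (4, 197, 3)) (.leaf (2, 956, 6)))) (.node (.node (.leaf (0, 32, 5)) (.leaf (2, 304, 5))) (.node (.leaf (2, 411, 0)) (.leaf (3, 533, 8))))) (.node (.node (.node (.node (.leaf (2, 172, 4)) (.leaf (4, 574, 10))) (.leaf (1, 44, 7))) (.node (.leaf (3, 557, 9)) (.leaf (3, 198, 6)))) (.node (.node (.leaf (3, 1104,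 2)) (.leaf (2, 588, 6))) (.node (.leaf (3, 415, 2)) (.leaf (3, 964, 1)))))) (.node (.node (.node (.node (.node (.leaf (2, 18, 3)) (.leaf (4, 371, 0))) (.leaf (4, 694, 9))) (.node (.leaf (2, 423, 3)) (.leaf (3, 48, 8)))) (.node (.node (.leaf (2, 67, 0)) (.leaf (2, 429, 6))) (.node (.leaf (3, 29, 4)) (.leaf (3, 762, 9))))) (.node (.node (.node (.node (.leaf (2, 768, 4)) (.leaf (4, 792, 8))) (.leaf (2, 118, 3))) (.node (.leaf (1, 595, 4)) (.leaf (3, 336, 11)))) (.node (.node (.leaf (2, 427, 7)) (.leaf (2, 778, 1))) (.node (.leaf (3, 884, 11)) (.leaf (3, 1108, 1))))))) (.node (.node (.node (.node (.node (.node (.leaf (1, 0, 7)) (.leaf (4, 278, 2))) (.leaf (4, 287, 8))) (.node (.leaf (2, 119, 4)) (.leaf (2, 1038, 7)))) (.node (.node (.leaf (1, 11, 4)) (.leaf (2, 376, 5))) (.node (.leaf (2, 632, 0)) (.leaf (3, 644, 8))))) (.node (.node (.node (.node (.leaf (2, 292, 4)) (.leaf (4, 675, 4))) (.leaf (2, 30, 5))) (.node (.leaf (0, 287, 2)) (.leaf (3, 275, 10)))) (.node (.node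 (.leaf (1, 211, 4)) (.leaf (2, 667, 5))) (.node (.leaf (3, 617, 10)) (.leaf (3, 1044, 4)))))) (.node (.node (.node (.node (.node (.leaf (2, 75, 4)) (.leaf (4, 449, 3))) (.leaf (0, 244, 5))) (.node (.leaf (2, 995, 3)) (.leaf (3, 118, 4)))) (.node (.node (.leaf (2, 333, 0)) (.leaf (2, 502, 3))) (.node (.leaf (3, 215, 9)) (.leaf (3, 861, 10))))) (.node (.node (.node (.node (.leaf (3, 294, 11)) (.leaf (4, 954, 5))) (.leaf (2, 242, 6))) (.node (.leaf (2, 287, 3)) (.leaf (3, 430, 10)))) (.node (.node (.leaf (3, 159, 10)) (.leaf (2, 881, 7))) (.node (.leaf (4, 11, 10)) (.leaf (4, 36, 8)))))))) (.node (.node (.node (.node (.node (.node (.node (.leaf (0, 34, 5)) (.leaf (4, 213, 2))) (.leaf (4, 210, 3))) (.node (.leaf (1, 13, 6)) (.leaf (2, 981, 3)))) (.node (.node (.leaf (0, 130, 5)) (.leaf (2, 338, 5))) (.node (.leaf (2, 539, 3)) (.leaf (3, 604, 4))))) (.node (.node (.node (.node (.leaf (2, 214, 4)) (.leaf (4, 636, 5))) (.leaf (1, 342, 5))) (.node (.leaf (4, 102, 3)) (.leaf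 (3, 243, 5)))) (.node (.node (.leaf (0, 316, 5)) (.leaf (2, 626, 3))) (.node (.leaf (3, 520, 10)) (.leaf (3, 1009, 3)))))) (.node (.node (.node (.node (.node (.leaf (2, 38, 4)) (.leaf (4, 412, 8))) (.leaf (4, 1018, 2))) (.node (.leaf (2, 662, 3)) (.leaf (3, 89, 10)))) (.node (.node (.leaf (2, 182, 7)) (.leaf (2, 471, 5))) (.node (.leaf (3, 86, 4)) (.leaf (3, 820, 11))))) (.node (.node (.node (.node (.leaf (3, 151, 10)) (.leaf (4, 842, 7))) (.leaf (2, 167, 6))) (.node (.leaf (2, 150, 4)) (.leaf (3, 381, 9)))) (.node (.node (.leaf (3, 6, 10)) (.leaf (2, 830, 0))) (.node (.leaf (3, 1069, 11)) (.leaf (3, 1146, 11))))))) (.node (.node (.node (.node (.node (.node (.leaf (2, 3, 4)) (.leaf (4, 313, 7))) (.leaf (4, 475, 2))) (.node (.leaf (2, 211, 5)) (.leaf (2, 1126, 7)))) (.node (.node (.leaf (1, 223, 4)) (.leaf (2, 404, 0))) (.node (.leaf (2, 870, 4)) (.leaf (3, 720, 5))))) (.node (.node (.node (.node (.leaf (2, 480, 4)) (.leaf (4, 723, 8))) (.leaf (2, 89, 0))) (.node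 (.leaf (1, 92, 5)) (.leaf (3, 308, 8)))) (.node (.node (.leaf (2, 207, 4)) (.leaf (2, 732, 6))) (.node (.leaf (3, 763, 10)) (.leaf (3, 1074, 9)))))) (.node (.node (.node (.node (.node (.leaf (2, 117, 4)) (.leaf (4, 519, 2))) (.leaf (0, 469, 4))) (.node (.leaf (3, 227, 2)) (.leaf (3, 175, 9)))) (.node (.node (.leaf (2, 636, 3)) (.leaf (2, 537, 4))) (.node (.leaf (3, 370, 5)) (.leaf (3, 917, 10))))) (.node (.node (.node (.node (.leaf (3, 685, 10)) (.leaf (4, 1015, 11))) (.leaf (2, 266, 4))) (.node (.leaf (2, 370, 4)) (.leaf (3, 464, 9)))) (.node (.node (.leaf (3, 764, 10)) (.leaf (2, 920, 7))) (.node (.leaf (4, 50, 6)) (.leaf (4, 96, 4))))))))) (.node (.node (.node (.node (.node (.node (.node (.node (.leaf (0, 12, 5)) (.leaf (4, 180, 5))) (.leaf (4, 193, 4))) (.node (.leaf (0, 128, 4)) (.leaf (2, 973, 4)))) (.node (.node (.leaf (0, 73, 5)) (.leaf (2, 318, 5))) (.node (.leaf (2, 510, 0)) (.leaf (3, 583, 5))))) (.node (.node (.node (.node (.leaf (2, 184, 4)) (.leaf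 (4, 589, 2))) (.leaf (1, 205, 7))) (.node (.leaf (3, 797, 10)) (.leaf (3, 219, 6)))) (.node (.node (.leaf (0, 41, 4)) (.leaf (2, 607, 6))) (.node (.leaf (3, 465, 4)) (.leaf (3, 990, 0)))))) (.node (.node (.node (.node (.node (.leaf (2, 27, 4)) (.leaf (4, 398, 8))) (.leaf (4, 765, 3))) (.node (.leaf (2, 562, 7)) (.leaf (3, 77, 8)))) (.node (.node (.leaf (2, 136, 6)) (.leaf (2, 448, 3))) (.node (.leaf (3, 53, 4)) (.leaf (3, 800, 2))))) (.node (.node (.node (.node (.leaf (3, 68, 10)) (.leaf (4, 827, 2))) (.leaf (2, 143, 5))) (.node (.leaf (2, 104, 4)) (.leaf (3, 350, 4)))) (.node (.node (.leaf (2, 584, 4)) (.leaf (2, 805, 0))) (.node (.leaf (3, 984, 7)) (.leaf (3, 1124, 11))))))) (.node (.node (.node (.node (.node (.node (.leaf (1, 17, 7)) (.leaf (4, 298, 8))) (.leaf (4, 373, 6))) (.node (.leaf (2, 159, 3)) (.leaf (2, 1074, 7)))) (.node (.node (.leaf (1, 49, 4)) (.leaf (2, 388, 2))) (.node (.leaf (2, 776, 2)) (.leaf (3, 684, 6))))) (.node (.node (.node (.node (.leaf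 (2, 353, 4)) (.leaf (4, 699, 5))) (.leaf (2, 54, 0))) (.node (.leaf (1, 25, 7)) (.leaf (3, 295, 6)))) (.node (.node (.leaf (2, 101, 3)) (.leaf (2, 701, 6))) (.node (.leaf (3, 701, 11)) (.leaf (3, 1051, 2)))))) (.node (.node (.node (.node (.node (.leaf (2, 86, 3)) (.leaf (4, 492, 2))) (.leaf (0, 278, 1))) (.node (.leaf (3, 31, 9)) (.leaf (3, 155, 8)))) (.node (.node (.leaf (2, 483, 3)) (.leaf (2, 525, 2))) (.node (.leaf (3, 297, 9)) (.leaf (3, 883, 8))))) (.node (.node (.node (.node (.leaf (3, 409, 11)) (.leaf (4, 996, 3))) (.leaf (2, 254, 5))) (.node (.leaf (2, 324, 4)) (.leaf (3, 443, 1)))) (.node (.node (.leaf (3, 267, 10)) (.leaf (2, 902, 0))) (.node (.leaf (4, 24, 8)) (.leaf (4, 70, 8)))))))) (.node (.node (.node (.node (.node (.node (.node (.leaf (0, 63, 5)) (.leaf (4, 254, 6))) (.leaf (4, 235, 3))) (.node (.leaf (1, 158, 3)) (.leaf (2, 1001, 0)))) (.node (.node (.leaf (0, 191, 5)) (.leaf (2, 356, 1))) (.node (.leaf (2, 590, 2)) (.leaf (3, 628, 8))))) (.node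 (.node (.node (.node (.leaf (2, 248, 4)) (.leaf (4, 657, 9))) (.leaf (2, 21, 4))) (.node (.leaf (4, 542, 3)) (.leaf (3, 252, 6)))) (.node (.node (.leaf (1, 57, 4)) (.leaf (2, 656, 0))) (.node (.leaf (3, 567, 2)) (.leaf (3, 1033, 8)))))) (.node (.node (.node (.node (.node (.leaf (2, 53, 4)) (.leaf (4, 424, 8))) (.leaf (0, 122, 4))) (.node (.leaf (2, 836, 3)) (.leaf (3, 102, 7)))) (.node (.node (.leaf (2, 257, 7)) (.leaf (2, 481, 6))) (.node (.leaf (3, 131, 0)) (.leaf (3, 837, 10))))) (.node (.node (.node (.node (.leaf (3, 218, 10)) (.leaf (4, 927, 1))) (.leaf (2, 186, 6))) (.node (.leaf (2, 198, 4)) (.leaf (3, 418, 4)))) (.node (.node (.leaf (3, 87, 10)) (.leaf (2, 851, 3))) (.node (.leaf (3, 1127, 10)) (.leaf (4, 8, 4))))))) (.node (.node (.node (.node (.node (.node (.leaf (2, 10, 3)) (.leaf (4, 352, 7))) (.leaf (4, 537, 2))) (.node (.leaf (2, 246, 3)) (.leaf (3, 14, 8)))) (.node (.node (.leaf (2, 26, 0)) (.leaf (2, 414, 6))) (.node (.leaf (2, 1109, 0)) (.leaf (3,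 732, 8))))) (.node (.node (.node (.node (.leaf (2, 573, 4)) (.leaf (4, 764, 6))) (.leaf (2, 100, 2))) (.node (.leaf (1, 269, 7)) (.leaf (3, 321, 8)))) (.node (.node (.leaf (2, 326, 7)) (.leaf (2, 755, 4))) (.node (.leaf (3, 802, 1)) (.leaf (3, 1089, 0)))))) (.node (.node (.node (.node (.node (.leaf (2, 137, 4)) (.leaf (4, 546, 2))) (.leaf (0, 737, 3))) (.node (.leaf (3, 401, 2)) (.leaf (3, 185, 4)))) (.node (.node (.leaf (3, 112, 10)) (.leaf (2, 560, 2))) (.node (.leaf (3, 392, 6)) (.leaf (3, 951, 0))))) (.node (.node (.node (.node (.leaf (3, 854, 10)) (.leaf (4, 1097, 1))) (.leaf (2, 279, 6))) (.node (.leaf (2, 394, 6)) (.leaf (3, 490, 10)))) (.node (.node (.leaf (4, 41, 8)) (.leaf (2, 931, 7))) (.node (.leaf (4, 105, 3)) (.leaf (4, 120, 8)))))))))) (.node (.node (.node (.node (.node (.node (.node (.node (.node (.leaf (0, 6, 5)) (.leaf (4, 166, 2))) (.leaf (4, 174, 8))) (.node (.leaf (0, 56, 4)) (.leaf (2, 968, 4)))) (.node (.node (.leaf (0, 58, 5)) (.leaf (2,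 310, 6))) (.node (.leaf (2, 446, 7)) (.leaf (3, 566, 8))))) (.node (.node (.node (.node (.leaf (2, 175, 4)) (.leaf (4, 583, 7))) (.leaf (1, 142, 3))) (.node (.leaf (3, 647, 4)) (.leaf (3, 208, 8)))) (.node (.node (.leaf (4, 113, 3)) (.leaf (2, 595, 4))) (.node (.leaf (3, 446, 8)) (.leaf (3, 974, 4)))))) (.node (.node (.node (.node (.node (.leaf (2, 22, 4)) (.leaf (4, 383, 4))) (.leaf (4, 719, 7))) (.node (.leaf (2, 501, 6)) (.leaf (3, 57, 9)))) (.node (.node (.leaf (2, 96, 4)) (.leaf (2, 443, 0))) (.node (.leaf (3, 46, 9)) (.leaf (3, 769, 0))))) (.node (.node (.node (.node (.leaf (3, 27, 10)) (.leaf (4, 812, 2))) (.leaf (2, 139, 4))) (.node (.leaf (2, 55, 4)) (.leaf (3, 342, 3)))) (.node (.node (.leaf (2, 441, 7)) (.leaf (2, 793, 6))) (.node (.leaf (3, 956, 11)) (.leaf (3, 1115, 11))))))) (.node (.node (.node (.node (.node (.node (.leaf (1, 5, 7)) (.leaf (4, 283, 8))) (.leaf (4, 319, 3))) (.node (.leaf (2, 151, 4)) (.leaf (2, 1052, 3)))) (.node (.node (.leaf (1,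 27, 4)) (.leaf (2, 381, 5))) (.node (.leaf (2, 694, 6)) (.leaf (3, 660, 11))))) (.node (.node (.node (.node (.leaf (2, 334, 4)) (.leaf (4, 685, 2))) (.leaf (2, 46, 4))) (.node (.leaf (0, 402, 2)) (.leaf (3, 287, 7)))) (.node (.node (.leaf (2, 62, 3)) (.leaf (2, 677, 0))) (.node (.leaf (3, 655, 2)) (.leaf (3, 1047, 11)))))) (.node (.node (.node (.node (.node (.leaf (2, 79, 4)) (.leaf (4, 461, 3))) (.leaf (0, 272, 3))) (.node (.leaf (3, 3, 4)) (.leaf (3, 126, 8)))) (.node (.node (.leaf (2, 372, 2)) (.leaf (2, 516, 5))) (.node (.leaf (3, 272, 0)) (.leaf (3, 866, 1))))) (.node (.node (.node (.node (.leaf (3, 348, 10)) (.leaf (4, 971, 2))) (.leaf (2, 245, 5))) (.node (.leaf (2, 307, 5)) (.leaf (3, 433, 9)))) (.node (.node (.leaf (3, 225, 9)) (.leaf (2, 891, 0))) (.node (.leaf (4, 19, 8)) (.leaf (4, 48, 4)))))))) (.node (.node (.node (.node (.node (.node (.node (.leaf (0, 43, 5)) (.leaf (4, 244, 4))) (.leaf (4, 223, 3))) (.node (.leaf (1, 36, 6)) (.leaf (2, 984, 6))))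 (.node (.node (.leaf (0, 146, 5)) (.leaf (2, 349, 5))) (.node (.leaf (2, 555, 3)) (.leaf (3, 609, 6))))) (.node (.node (.node (.node (.leaf (2, 238, 4)) (.leaf (4, 649, 6))) (.leaf (1, 608, 7))) (.node (.leaf (4, 353, 3)) (.leaf (3, 245, 4)))) (.node (.node (.leaf (1, 7, 6)) (.leaf (2, 642, 6))) (.node (.leaf (3, 541, 10)) (.leaf (3, 1029, 11)))))) (.node (.node (.node (.node (.node (.leaf (2, 49, 4)) (.leaf (4, 414, 7))) (.leaf (0, 76, 4))) (.node (.leaf (2, 736, 3)) (.leaf (3, 92, 5)))) (.node (.node (.leaf (2, 227, 3)) (.leaf (2, 475, 4))) (.node (.leaf (3, 119, 4)) (.leaf (3, 827, 10))))) (.node (.node (.node (.node (.leaf (3, 188, 10)) (.leaf (4, 915, 8))) (.leaf (2, 179, 3))) (.node (.leaf (2, 185, 4)) (.leaf (3, 393, 10)))) (.node (.node (.leaf (3, 17, 5)) (.leaf (2, 835, 0))) (.node (.leaf (3, 1077, 10)) (.leaf (4, 3, 7))))))) (.node (.node (.node (.node (.node (.node (.leaf (2, 6, 3)) (.leaf (4, 322, 2))) (.leaf (4, 526, 3))) (.node (.leaf (2, 230, 0))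 (.leaf (3, 12, 6)))) (.node (.node (.leaf (2, 8, 3)) (.leaf (2, 410, 5))) (.node (.leaf (2, 1002, 5)) (.leaf (3, 729, 1))))) (.node (.node (.node (.node (.leaf (2, 548, 4)) (.leaf (4, 726, 9))) (.leaf (2, 97, 5))) (.node (.leaf (1, 194, 7)) (.leaf (3, 314, 4)))) (.node (.node (.leaf (2, 294, 6)) (.leaf (2, 735, 0))) (.node (.leaf (3, 785, 2)) (.leaf (3, 1084, 11)))))) (.node (.node (.node (.node (.node (.leaf (2, 124, 4)) (.leaf (4, 530, 3))) (.leaf (0, 707, 5))) (.node (.leaf (3, 356, 11)) (.leaf (3, 180, 2)))) (.node (.node (.leaf (2, 838, 3)) (.leaf (2, 554, 3))) (.node (.leaf (3, 379, 0)) (.leaf (3, 934, 11))))) (.node (.node (.node (.node (.leaf (3, 759, 10)) (.leaf (4, 1090, 1))) (.leaf (2, 272, 3))) (.node (.leaf (2, 382, 0)) (.leaf (3, 480, 9)))) (.node (.node (.leaf (4, 20, 3)) (.leaf (2, 926, 6))) (.node (.leaf (4, 88, 2)) (.leaf (4, 107, 8))))))))) (.node (.node (.node (.node (.node (.node (.node (.node (.leaf (0, 20, 5)) (.leaf (4, 189, 8))) (.leaf (4,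 196, 2))) (.node (.leaf (0, 251, 4)) (.leaf (2, 977, 3)))) (.node (.node (.leaf (0, 87, 5)) (.leaf (2, 327, 6))) (.node (.leaf (2, 531, 5)) (.leaf (3, 597, 7))))) (.node (.node (.node (.node (.leaf (2, 203, 4)) (.leaf (4, 615, 2))) (.leaf (1, 302, 2))) (.node (.leaf (3, 985, 11)) (.leaf (3, 229, 2)))) (.node (.node (.leaf (0, 67, 4)) (.leaf (2, 617, 4))) (.node (.leaf (3, 479, 4)) (.leaf (3, 995, 8)))))) (.node (.node (.node (.node (.node (.leaf (2, 34, 3)) (.leaf (4, 407, 3))) (.leaf (4, 796, 4))) (.node (.leaf (2, 611, 3)) (.leaf (3, 81, 5)))) (.node (.node (.leaf (2, 152, 3)) (.leaf (2, 455, 4))) (.node (.leaf (3, 74, 8)) (.leaf (3, 809, 10))))) (.node (.node (.node (.node (.leaf (3, 117, 10)) (.leaf (4, 836, 7))) (.leaf (2, 149, 3))) (.node (.leaf (2, 129, 5)) (.leaf (3, 376, 9)))) (.node (.node (.leaf (2, 791, 4)) (.leaf (2, 813, 2))) (.node (.leaf (3, 1010, 11)) (.leaf (3, 1136, 11))))))) (.node (.node (.node (.node (.node (.node (.leaf (2, 1, 4)) (.leaf (4,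 303, 7))) (.leaf (4, 404, 10))) (.node (.leaf (2, 192, 3)) (.leaf (2, 1105, 0)))) (.node (.node (.leaf (1, 102, 4)) (.leaf (2, 391, 2))) (.node (.leaf (2, 825, 5)) (.leaf (3, 699, 9))))) (.node (.node (.node (.node (.leaf (2, 401, 3)) (.leaf (4, 717, 9))) (.leaf (2, 84, 3))) (.node (.leaf (1, 40, 7)) (.leaf (3, 300, 2)))) (.node (.node (.leaf (2, 125, 4)) (.leaf (2, 719, 2))) (.node (.leaf (3, 739, 8)) (.leaf (3, 1061, 10)))))) (.node (.node (.node (.node (.node (.leaf (2, 92, 4)) (.leaf (4, 505, 6))) (.leaf (0, 375, 2))) (.node (.leaf (3, 132, 2)) (.leaf (3, 161, 7)))) (.node (.node (.leaf (2, 553, 2)) (.leaf (2, 529, 3))) (.node (.leaf (3, 355, 10)) (.leaf (3, 889, 1))))) (.node (.node (.node (.node (.leaf (3, 561, 10)) (.leaf (4, 1000, 7))) (.leaf (2, 259, 5))) (.node (.leaf (2, 350, 0)) (.leaf (3, 450, 10)))) (.node (.node (.leaf (3, 358, 11)) (.leaf (2, 905, 3))) (.node (.leaf (4, 29, 8)) (.leaf (4, 89, 8)))))))) (.node (.node (.node (.node (.node (.node (.node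 (.leaf (0, 118, 5)) (.leaf (4, 266, 6))) (.leaf (4, 252, 4))) (.node (.leaf (2, 109, 0)) (.leaf (2, 1009, 4)))) (.node (.node (.leaf (0, 222, 5)) (.leaf (2, 361, 5))) (.node (.leaf (2, 620, 6)) (.leaf (3, 633, 10))))) (.node (.node (.node (.node (.leaf (2, 253, 3)) (.leaf (4, 663, 5))) (.leaf (2, 25, 4))) (.node (.leaf (0, 141, 4)) (.leaf (3, 260, 5)))) (.node (.node (.leaf (1, 106, 7)) (.leaf (2, 659, 1))) (.node (.leaf (3, 579, 4)) (.leaf (3, 1041, 11)))))) (.node (.node (.node (.node (.node (.leaf (2, 65, 4)) (.leaf (4, 440, 5))) (.leaf (0, 187, 1))) (.node (.leaf (2, 935, 6)) (.leaf (3, 109, 8)))) (.node (.node (.leaf (2, 290, 6)) (.leaf (2, 493, 3))) (.node (.leaf (3, 196, 8)) (.leaf (3, 847, 2))))) (.node (.node (.node (.node (.leaf (3, 238, 10)) (.leaf (4, 935, 4))) (.leaf (2, 194, 6))) (.node (.leaf (2, 225, 4)) (.leaf (3, 425, 5)))) (.node (.node (.leaf (3, 108, 2)) (.leaf (2, 859, 2))) (.node (.leaf (4, 1, 4)) (.leaf (4, 27, 3))))))) (.node (.node (.node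 (.node (.node (.node (.leaf (2, 14, 4)) (.leaf (4, 358, 6))) (.leaf (4, 590, 4))) (.node (.leaf (2, 342, 3)) (.leaf (3, 28, 4)))) (.node (.node (.leaf (2, 41, 0)) (.leaf (2, 425, 6))) (.node (.leaf (3, 9, 6)) (.leaf (3, 737, 9))))) (.node (.node (.node (.node (.leaf (2, 655, 3)) (.leaf (4, 781, 0))) (.leaf (2, 114, 4))) (.node (.leaf (1, 321, 4)) (.leaf (3, 332, 6)))) (.node (.node (.leaf (2, 396, 7)) (.leaf (2, 766, 4))) (.node (.leaf (3, 829, 2)) (.leaf (3, 1091, 11)))))) (.node (.node (.node (.node (.node (.leaf (2, 148, 4)) (.leaf (4, 566, 1))) (.leaf (1, 29, 7))) (.node (.leaf (3, 495, 1)) (.leaf (3, 193, 6)))) (.node (.node (.leaf (3, 564, 10)) (.leaf (2, 572, 3))) (.node (.leaf (3, 406, 3)) (.leaf (3, 960, 0))))) (.node (.node (.node (.node (.leaf (0, 8, 5)) (.leaf (4, 1137, 1))) (.leaf (2, 293, 3))) (.node (.leaf (2, 403, 4)) (.leaf (3, 508, 3)))) (.node (.node (.leaf (4, 119, 8)) (.leaf (2, 939, 7))) (.node (.leaf (4, 128, 3)) (.leaf (4, 146, 7)))))))))))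

/-- data -/
def pot2 : Trie (Vec) := .node (.node (.node (.node (.node (.node (.node (.node (.node (.node (.node (.leaf ([])) (.leaf ([17, 23]))) (.leaf ([14, 26]))) (.node (.leaf ([12, 20])) (.leaf ([14, 10])))) (.node (.node (.leaf ([11, 21])) (.leaf ([15, 25]))) (.node (.leaf ([14, 26])) (.leaf ([18, 38]))))) (.node (.node (.node (.node (.leaf ([8, 8])) (.leaf ([20, 44]))) (.leaf ([16, 32]))) (.node (.leaf ([12, 20])) (.leaf ([17, 31])))) (.node (.node (.leaf ([12, 28])) (.leaf ([16, 32]))) (.node (.leaf ([13, 19])) (.leaf ([19, 45])))))) (.node (.node (.node (.node (.node (.leaf ([6, 2])) (.leaf ([17, 23]))) (.leaf ([13, 11]))) (.node (.leaf ([11, 13])) (.leaf ([15, 17])))) (.node (.node (.leaf ([10, 14])) (.leaf ([16, 32]))) (.node (.leaf ([14, 26])) (.leaf ([16, 24]))))) (.node (.node (.node (.node (.leaf ([9, 15])) (.leaf ([20, 36]))) (.leaf ([14, 18]))) (.node (.leaf ([12, 12])) (.leaf ([17, 31])))) (.node (.node (.leaf ([12, 20])) (.leaf ([14, 18]))) (.node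 (.leaf ([14, 26])) (.leaf ([18, 30]))))))) (.node (.node (.node (.node (.node (.node (.leaf ([5, 3])) (.leaf ([18, 30]))) (.leaf ([13, 11]))) (.node (.leaf ([11, 13])) (.leaf ([17, 31])))) (.node (.node (.leaf ([12, 28])) (.leaf ([14, 18]))) (.node (.leaf ([14, 26])) (.leaf ([15, 17]))))) (.node (.node (.node (.node (.leaf ([9, 15])) (.leaf ([16, 8]))) (.leaf ([15, 25]))) (.node (.leaf ([11, 5])) (.leaf ([16, 24])))) (.node (.node (.leaf ([11, 13])) (.leaf ([16, 32]))) (.node (.leaf ([15, 33])) (.leaf ([15, 9])))))) (.node (.node (.node (.node (.node (.leaf ([8, 16])) (.leaf ([18, 30]))) (.leaf ([15, 25]))) (.node (.leaf ([15, 41])) (.leaf ([16, 24])))) (.node (.node (.leaf ([12, 28])) (.leaf ([15, 25]))) (.node (.leaf ([13, 19])) (.leaf ([18, 38]))))) (.node (.node (.node (.node (.leaf ([9, 7])) (.leaf ([20, 36]))) (.leaf ([14, 18]))) (.node (.leaf ([13, 19])) (.leaf ([16, 24])))) (.node (.node (.leaf ([12, 20])) (.leaf ([15, 25]))) (.node (.leaf ([13, 19])) (.leaf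 ([18, 30])))))))) (.node (.node (.node (.node (.node (.node (.node (.leaf ([4, 4])) (.leaf ([19, 37]))) (.leaf ([14, 26]))) (.node (.leaf ([13, 27])) (.leaf ([16, 24])))) (.node (.node (.leaf ([10, 14])) (.leaf ([14, 18]))) (.node (.leaf ([12, 12])) (.leaf ([17, 31]))))) (.node (.node (.node (.node (.leaf ([7, 1])) (.leaf ([19, 37]))) (.leaf ([13, 11]))) (.node (.leaf ([14, 34])) (.leaf ([17, 31])))) (.node (.node (.leaf ([11, 13])) (.leaf ([16, 32]))) (.node (.leaf ([14, 26])) (.leaf ([16, 16])))))) (.node (.node (.node (.node (.node (.leaf ([7, 9])) (.leaf ([18, 30]))) (.leaf ([16, 32]))) (.node (.leaf ([14, 34])) (.leaf ([15, 17])))) (.node (.node (.leaf ([10, 14])) (.leaf ([14, 18]))) (.node (.leaf ([13, 19])) (.leaf ([16, 24]))))) (.node (.node (.node (.node (.leaf ([10, 22])) (.leaf ([19, 29]))) (.leaf ([14, 18]))) (.node (.leaf ([14, 26])) (.leaf ([15, 17])))) (.node (.node (.leaf ([10, 6])) (.leaf ([16, 32]))) (.node (.leaf ([15, 33])) (.leaf ([15, 9])))))))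 (.node (.node (.node (.node (.node (.node (.leaf ([6, 10])) (.leaf ([17, 23]))) (.leaf ([13, 11]))) (.node (.leaf ([13, 27])) (.leaf ([15, 17])))) (.node (.node (.leaf ([10, 14])) (.leaf ([15, 25]))) (.node (.leaf ([13, 19])) (.leaf ([18, 38]))))) (.node (.node (.node (.node (.leaf ([8, 8])) (.leaf ([18, 22]))) (.leaf ([15, 25]))) (.node (.leaf ([11, 5])) (.leaf ([17, 31])))) (.node (.node (.leaf ([11, 13])) (.leaf ([15, 25]))) (.node (.leaf ([14, 26])) (.leaf ([16, 16])))))) (.node (.node (.node (.node (.node (.leaf ([9, 23])) (.leaf ([20, 44]))) (.leaf ([13, 11]))) (.node (.leaf ([13, 27])) (.leaf ([15, 17])))) (.node (.node (.leaf ([10, 14])) (.leaf ([15, 25]))) (.node (.leaf ([14, 26])) (.leaf ([16, 24]))))) (.node (.node (.node (.node (.leaf ([11, 21])) (.leaf ([20, 28]))) (.leaf ([15, 25]))) (.node (.leaf ([12, 12])) (.leaf ([16, 24])))) (.node (.node (.leaf ([11, 13])) (.leaf ([15, 17]))) (.node (.leaf ([12, 12])) (.leaf ([18, 30]))))))))) (.node (.node (.node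 (.node (.node (.node (.node (.node (.leaf ([3, 5])) (.leaf ([17, 23]))) (.leaf ([17, 47]))) (.node (.leaf ([12, 20])) (.leaf ([14, 10])))) (.node (.node (.leaf ([8])) (.leaf ([18, 46]))) (.node (.leaf ([12, 12])) (.leaf ([17, 31]))))) (.node (.node (.node (.node (.leaf ([8, 8])) (.leaf ([18, 30]))) (.leaf ([15, 25]))) (.node (.leaf ([12, 20])) (.leaf ([15, 17])))) (.node (.node (.leaf ([14, 42])) (.leaf ([15, 25]))) (.node (.leaf ([13, 19])) (.leaf ([17, 31])))))) (.node (.node (.node (.node (.node (.leaf ([7, 9])) (.leaf ([18, 30]))) (.leaf ([13, 11]))) (.node (.leaf ([11, 13])) (.leaf ([16, 24])))) (.node (.node (.leaf ([11, 21])) (.leaf ([13, 11]))) (.node (.leaf ([12, 12])) (.leaf ([16, 24]))))) (.node (.node (.node (.node (.leaf ([9, 15])) (.leaf ([19, 29]))) (.leaf ([15, 25]))) (.node (.leaf ([14, 26])) (.leaf ([16, 24])))) (.node (.node (.leaf ([12, 20])) (.leaf ([15, 25]))) (.node (.leaf ([14, 26])) (.leaf ([16, 16]))))))) (.node (.node (.node (.node (.node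 (.node (.leaf ([6, 10])) (.leaf ([17, 23]))) (.leaf ([13, 11]))) (.node (.leaf ([12, 20])) (.leaf ([16, 24])))) (.node (.node (.leaf ([10, 14])) (.leaf ([16, 32]))) (.node (.leaf ([13, 19])) (.leaf ([16, 24]))))) (.node (.node (.node (.node (.leaf ([10, 22])) (.leaf ([17, 15]))) (.leaf ([16, 32]))) (.node (.leaf ([11, 5])) (.leaf ([15, 17])))) (.node (.node (.leaf ([12, 20])) (.leaf ([17, 39]))) (.node (.leaf ([12, 12])) (.leaf ([16, 16])))))) (.node (.node (.node (.node (.node (.leaf ([9, 23])) (.leaf ([16, 16]))) (.leaf ([15, 25]))) (.node (.leaf ([12, 20])) (.leaf ([17, 31])))) (.node (.node (.leaf ([10, 14])) (.leaf ([16, 32]))) (.node (.leaf ([14, 26])) (.leaf ([16, 24]))))) (.node (.node (.node (.node (.leaf ([10, 14])) (.leaf ([18, 22]))) (.leaf ([16, 32]))) (.node (.leaf ([11, 5])) (.leaf ([17, 31])))) (.node (.node (.leaf ([12, 20])) (.leaf ([17, 39]))) (.node (.leaf ([15, 33])) (.leaf ([17, 23])))))))) (.node (.node (.node (.node (.node (.node (.node (.leaf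 ([5, 11])) (.leaf ([17, 23]))) (.leaf ([16, 40]))) (.node (.leaf ([13, 27])) (.leaf ([15, 17])))) (.node (.node (.leaf ([10, 14])) (.leaf ([16, 32]))) (.node (.leaf ([12, 12])) (.leaf ([18, 38]))))) (.node (.node (.node (.node (.leaf ([9, 15])) (.leaf ([17, 15]))) (.leaf ([13, 11]))) (.node (.leaf ([11, 5])) (.leaf ([16, 24])))) (.node (.node (.leaf ([11, 13])) (.leaf ([15, 25]))) (.node (.leaf ([13, 19])) (.leaf ([15, 9])))))) (.node (.node (.node (.node (.node (.leaf ([8, 16])) (.leaf ([19, 37]))) (.leaf ([14, 18]))) (.node (.leaf ([12, 20])) (.leaf ([17, 31])))) (.node (.node (.leaf ([12, 28])) (.leaf ([14, 18]))) (.node (.leaf ([15, 33])) (.leaf ([17, 31]))))) (.node (.node (.node (.node (.leaf ([10, 22])) (.leaf ([18, 22]))) (.leaf ([15, 25]))) (.node (.leaf ([13, 19])) (.leaf ([17, 31])))) (.node (.node (.leaf ([11, 13])) (.leaf ([15, 25]))) (.node (.leaf ([17, 47])) (.leaf ([16, 16]))))))) (.node (.node (.node (.node (.node (.node (.leaf ([7, 17])) (.leaf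 ([17, 23]))) (.leaf ([14, 18]))) (.node (.leaf ([12, 20])) (.leaf ([16, 24])))) (.node (.node (.leaf ([13, 35])) (.leaf ([15, 25]))) (.node (.leaf ([12, 12])) (.leaf ([16, 24]))))) (.node (.node (.node (.node (.leaf ([8, 8])) (.leaf ([20, 36]))) (.leaf ([14, 18]))) (.node (.leaf ([12, 12])) (.leaf ([15, 17])))) (.node (.node (.leaf ([13, 27])) (.leaf ([15, 25]))) (.node (.leaf ([12, 12])) (.leaf ([17, 23])))))) (.node (.node (.node (.node (.node (.leaf ([7, 1])) (.leaf ([18, 30]))) (.leaf ([15, 25]))) (.node (.leaf ([13, 27])) (.leaf ([16, 24])))) (.node (.node (.leaf ([11, 21])) (.leaf ([14, 18]))) (.node (.leaf ([14, 26])) (.leaf ([16, 24]))))) (.node (.node (.node (.node (.leaf ([11, 21])) (.leaf ([20, 28]))) (.leaf ([14, 18]))) (.node (.leaf ([13, 19])) (.leaf ([16, 24])))) (.node (.node (.leaf ([14, 34])) (.leaf ([15, 17]))) (.node (.leaf ([13, 19])) (.leaf ([17, 23])))))))))) (.node (.node (.node (.node (.node (.node (.node (.node (.node (.leaf ([2, 6])) (.leaf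 ([19, 37]))) (.leaf ([15, 33]))) (.node (.leaf ([13, 27])) (.leaf ([15, 17])))) (.node (.node (.leaf ([11, 21])) (.leaf ([16, 32]))) (.node (.leaf ([14, 26])) (.leaf ([16, 24]))))) (.node (.node (.node (.node (.leaf ([8, 8])) (.leaf ([18, 30]))) (.leaf ([15, 25]))) (.node (.leaf ([14, 34])) (.leaf ([17, 31])))) (.node (.node (.leaf ([12, 28])) (.leaf ([13, 11]))) (.node (.leaf ([12, 12])) (.leaf ([17, 31])))))) (.node (.node (.node (.node (.node (.leaf ([7, 9])) (.leaf ([17, 23]))) (.leaf ([13, 11]))) (.node (.leaf ([12, 20])) (.leaf ([16, 24])))) (.node (.node (.leaf ([11, 21])) (.leaf ([17, 39]))) (.node (.leaf ([15, 33])) (.leaf ([16, 24]))))) (.node (.node (.node (.node (.leaf ([11, 29])) (.leaf ([18, 22]))) (.leaf ([14, 18]))) (.node (.leaf ([13, 19])) (.leaf ([15, 17])))) (.node (.node (.leaf ([13, 27])) (.leaf ([15, 25]))) (.node (.leaf ([13, 19])) (.leaf ([18, 30]))))))) (.node (.node (.node (.node (.node (.node (.leaf ([6, 10])) (.leaf ([17, 23]))) (.leaf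 ([12, 4]))) (.node (.leaf ([11, 13])) (.leaf ([16, 24])))) (.node (.node (.leaf ([10, 14])) (.leaf ([16, 32]))) (.node (.leaf ([12, 12])) (.leaf ([14, 10]))))) (.node (.node (.node (.node (.leaf ([10, 22])) (.leaf ([19, 29]))) (.leaf ([14, 18]))) (.node (.leaf ([12, 12])) (.leaf ([16, 24])))) (.node (.node (.leaf ([12, 20])) (.leaf ([17, 39]))) (.node (.leaf ([14, 26])) (.leaf ([15, 9])))))) (.node (.node (.node (.node (.node (.leaf ([8, 16])) (.leaf ([18, 30]))) (.leaf ([16, 32]))) (.node (.leaf ([11, 13])) (.leaf ([15, 17])))) (.node (.node (.leaf ([9, 7])) (.leaf ([16, 32]))) (.node (.leaf ([15, 33])) (.leaf ([18, 38]))))) (.node (.node (.node (.node (.leaf ([9, 7])) (.leaf ([20, 36]))) (.leaf ([15, 25]))) (.node (.leaf ([14, 26])) (.leaf ([16, 24])))) (.node (.node (.leaf ([10, 6])) (.leaf ([18, 46]))) (.node (.leaf ([14, 26])) (.leaf ([16, 16])))))))) (.node (.node (.node (.node (.node (.node (.node (.leaf ([5, 11])) (.leaf ([18, 30]))) (.leaf ([16, 40])))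 (.node (.leaf ([12, 20])) (.leaf ([13, 3])))) (.node (.node (.leaf ([9, 7])) (.leaf ([15, 25]))) (.node (.leaf ([13, 19])) (.leaf ([18, 38]))))) (.node (.node (.node (.node (.leaf ([9, 15])) (.leaf ([16, 8]))) (.leaf ([14, 18]))) (.node (.leaf ([14, 34])) (.leaf ([16, 24])))) (.node (.node (.leaf ([11, 13])) (.leaf ([17, 39]))) (.node (.leaf ([14, 26])) (.leaf ([16, 16])))))) (.node (.node (.node (.node (.node (.leaf ([7, 9])) (.leaf ([18, 30]))) (.leaf ([13, 11]))) (.node (.leaf ([12, 20])) (.leaf ([16, 24])))) (.node (.node (.leaf ([10, 14])) (.leaf ([13, 11]))) (.node (.leaf ([14, 26])) (.leaf ([17, 31]))))) (.node (.node (.node (.node (.leaf ([9, 15])) (.leaf ([19, 29]))) (.leaf ([16, 32]))) (.node (.leaf ([11, 5])) (.leaf ([17, 31])))) (.node (.node (.leaf ([11, 13])) (.leaf ([17, 39]))) (.node (.leaf ([15, 33])) (.leaf ([16, 16]))))))) (.node (.node (.node (.node (.node (.node (.leaf ([7, 17])) (.leaf ([17, 23]))) (.leaf ([13, 11]))) (.node (.leaf ([12, 20]))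 (.leaf ([14, 10])))) (.node (.node (.leaf ([11, 21])) (.leaf ([16, 32]))) (.node (.leaf ([14, 26])) (.leaf ([17, 31]))))) (.node (.node (.node (.node (.leaf ([9, 15])) (.leaf ([20, 36]))) (.leaf ([15, 25]))) (.node (.leaf ([12, 12])) (.leaf ([16, 24])))) (.node (.node (.leaf ([11, 13])) (.leaf ([15, 25]))) (.node (.leaf ([14, 26])) (.leaf ([17, 23])))))) (.node (.node (.node (.node (.node (.leaf ([9, 23])) (.leaf ([18, 30]))) (.leaf ([14, 18]))) (.node (.leaf ([11, 13])) (.leaf ([15, 17])))) (.node (.node (.leaf ([11, 21])) (.leaf ([16, 32]))) (.node (.leaf ([14, 26])) (.leaf ([18, 38]))))) (.node (.node (.node (.node (.leaf ([10, 14])) (.leaf ([19, 21]))) (.leaf ([16, 32]))) (.node (.leaf ([13, 19])) (.leaf ([16, 24])))) (.node (.node (.leaf ([12, 20])) (.leaf ([14, 10]))) (.node (.leaf ([13, 19])) (.leaf ([19, 37]))))))))) (.node (.node (.node (.node (.node (.node (.node (.node (.leaf ([4, 12])) (.leaf ([18, 30]))) (.leaf ([14, 26]))) (.node (.leaf ([13, 27]))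 (.leaf ([14, 10])))) (.node (.node (.leaf ([9, 7])) (.leaf ([14, 18]))) (.node (.leaf ([12, 12])) (.leaf ([18, 38]))))) (.node (.node (.node (.node (.leaf ([9, 15])) (.leaf ([19, 37]))) (.leaf ([17, 39]))) (.node (.leaf ([13, 27])) (.leaf ([16, 24])))) (.node (.node (.leaf ([10, 6])) (.leaf ([16, 32]))) (.node (.leaf ([13, 19])) (.leaf ([17, 31])))))) (.node (.node (.node (.node (.node (.leaf ([6, 2])) (.leaf ([17, 23]))) (.leaf ([14, 18]))) (.node (.leaf ([12, 20])) (.leaf ([16, 24])))) (.node (.node (.leaf ([12, 28])) (.leaf ([14, 18]))) (.node (.leaf ([13, 19])) (.leaf ([16, 24]))))) (.node (.node (.node (.node (.leaf ([9, 15])) (.leaf ([19, 29]))) (.leaf ([15, 25]))) (.node (.leaf ([13, 19])) (.leaf ([17, 31])))) (.node (.node (.leaf ([13, 27])) (.leaf ([15, 25]))) (.node (.leaf ([15, 33])) (.leaf ([17, 23]))))))) (.node (.node (.node (.node (.node (.node (.leaf ([7, 17])) (.leaf ([17, 23]))) (.leaf ([13, 11]))) (.node (.leaf ([12, 20])) (.leaf ([14, 10]))))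 (.node (.node (.leaf ([11, 21])) (.leaf ([14, 18]))) (.node (.leaf ([14, 26])) (.leaf ([16, 24]))))) (.node (.node (.node (.node (.leaf ([7, 1])) (.leaf ([18, 22]))) (.leaf ([15, 25]))) (.node (.leaf ([12, 12])) (.leaf ([15, 17])))) (.node (.node (.leaf ([10, 6])) (.leaf ([15, 25]))) (.node (.leaf ([13, 19])) (.leaf ([17, 23])))))) (.node (.node (.node (.node (.node (.leaf ([8, 16])) (.leaf ([16, 16]))) (.leaf ([15, 25]))) (.node (.leaf ([13, 27])) (.leaf ([19, 45])))) (.node (.node (.leaf ([11, 21])) (.leaf ([14, 18]))) (.node (.leaf ([16, 40])) (.leaf ([17, 31]))))) (.node (.node (.node (.node (.leaf ([10, 14])) (.leaf ([19, 29]))) (.leaf ([14, 18]))) (.node (.leaf ([12, 12])) (.leaf ([19, 45])))) (.node (.node (.leaf ([12, 20])) (.leaf ([14, 10]))) (.node (.leaf ([15, 33])) (.leaf ([18, 30])))))))) (.node (.node (.node (.node (.node (.node (.node (.leaf ([6, 18])) (.leaf ([16, 16]))) (.leaf ([12, 4]))) (.node (.leaf ([14, 34])) (.leaf ([15, 17])))) (.node (.node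 (.leaf ([10, 14])) (.leaf ([16, 32]))) (.node (.leaf ([14, 26])) (.leaf ([14, 10]))))) (.node (.node (.node (.node (.leaf ([10, 22])) (.leaf ([17, 15]))) (.leaf ([15, 25]))) (.node (.leaf ([11, 5])) (.leaf ([18, 38])))) (.node (.node (.leaf ([12, 20])) (.leaf ([16, 32]))) (.node (.leaf ([14, 26])) (.leaf ([16, 16])))))) (.node (.node (.node (.node (.node (.leaf ([6, 2])) (.leaf ([18, 30]))) (.leaf ([14, 18]))) (.node (.leaf ([13, 27])) (.leaf ([15, 17])))) (.node (.node (.leaf ([11, 21])) (.leaf ([15, 25]))) (.node (.leaf ([13, 19])) (.leaf ([16, 24]))))) (.node (.node (.node (.node (.leaf ([12, 36])) (.leaf ([21, 43]))) (.leaf ([13, 11]))) (.node (.leaf ([14, 26])) (.leaf ([18, 38])))) (.node (.node (.leaf ([11, 13])) (.leaf ([16, 32]))) (.node (.leaf ([13, 19])) (.leaf ([17, 23]))))))) (.node (.node (.node (.node (.node (.node (.leaf ([8, 24])) (.leaf ([17, 23]))) (.leaf ([15, 25]))) (.node (.leaf ([10, 6])) (.leaf ([16, 24])))) (.node (.node (.leaf ([9, 7]))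 (.leaf ([16, 32]))) (.node (.leaf ([14, 26])) (.leaf ([17, 31]))))) (.node (.node (.node (.node (.leaf ([9, 15])) (.leaf ([18, 22]))) (.leaf ([13, 11]))) (.node (.leaf ([14, 26])) (.leaf ([15, 17])))) (.node (.node (.leaf ([11, 13])) (.leaf ([16, 32]))) (.node (.leaf ([14, 26])) (.leaf ([17, 23])))))) (.node (.node (.node (.node (.node (.leaf ([8, 8])) (.leaf ([17, 23]))) (.leaf ([14, 18]))) (.node (.leaf ([13, 27])) (.leaf ([15, 17])))) (.node (.node (.leaf ([13, 35])) (.leaf ([15, 25]))) (.node (.leaf ([16, 40])) (.leaf ([17, 31]))))) (.node (.node (.node (.node (.leaf ([10, 14])) (.leaf ([21, 35]))) (.leaf ([15, 25]))) (.node (.leaf ([15, 33])) (.leaf ([16, 24])))) (.node (.node (.leaf ([11, 13])) (.leaf ([15, 17]))) (.node (.leaf ([16, 40])) (.leaf ([17, 23]))))))))))) (.node (.node (.node (.node (.node (.node (.node (.node (.node (.node (.leaf ([1, (-1)])) (.leaf ([17, 23]))) (.leaf ([14, 26]))) (.node (.leaf ([12, 20])) (.leaf ([15, 17])))) (.node (.node (.leaf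 ([10, 14])) (.leaf ([16, 32]))) (.node (.leaf ([14, 26])) (.leaf ([16, 24]))))) (.node (.node (.node (.node (.leaf ([9, 15])) (.leaf ([19, 37]))) (.leaf ([13, 11]))) (.node (.leaf ([13, 27])) (.leaf ([15, 17])))) (.node (.node (.leaf ([12, 28])) (.leaf ([15, 25]))) (.node (.leaf ([13, 19])) (.leaf ([17, 31])))))) (.node (.node (.node (.node (.node (.leaf ([6, 2])) (.leaf ([16, 16]))) (.leaf ([14, 18]))) (.node (.leaf ([12, 20])) (.leaf ([18, 38])))) (.node (.node (.leaf ([10, 14])) (.leaf ([17, 39]))) (.node (.leaf ([14, 26])) (.leaf ([16, 24]))))) (.node (.node (.node (.node (.leaf ([10, 22])) (.leaf ([19, 29]))) (.leaf ([15, 25]))) (.node (.leaf ([12, 12])) (.leaf ([17, 31])))) (.node (.node (.leaf ([12, 20])) (.leaf ([15, 25]))) (.node (.leaf ([15, 33])) (.leaf ([16, 16]))))))) (.node (.node (.node (.node (.node (.node (.leaf ([5, 3])) (.leaf ([15, 9]))) (.leaf ([14, 18]))) (.node (.leaf ([11, 13])) (.leaf ([14, 10])))) (.node (.node (.leaf ([9, 7])) (.leaf ([14,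 18]))) (.node (.leaf ([11, 5])) (.leaf ([17, 31]))))) (.node (.node (.node (.node (.leaf ([9, 15])) (.leaf ([17, 15]))) (.leaf ([16, 32]))) (.node (.leaf ([12, 12])) (.leaf ([15, 17])))) (.node (.node (.leaf ([11, 13])) (.leaf ([15, 25]))) (.node (.leaf ([13, 19])) (.leaf ([16, 16])))))) (.node (.node (.node (.node (.node (.leaf ([7, 9])) (.leaf ([20, 44]))) (.leaf ([14, 18]))) (.node (.leaf ([11, 13])) (.leaf ([17, 31])))) (.node (.node (.leaf ([13, 35])) (.leaf ([15, 25]))) (.node (.leaf ([14, 26])) (.leaf ([17, 31]))))) (.node (.node (.node (.node (.leaf ([9, 7])) (.leaf ([19, 29]))) (.leaf ([14, 18]))) (.node (.leaf ([13, 19])) (.leaf ([17, 31])))) (.node (.node (.leaf ([13, 27])) (.leaf ([17, 39]))) (.node (.leaf ([13, 19])) (.leaf ([16, 16])))))))) (.node (.node (.node (.node (.node (.node (.node (.leaf ([4, 4])) (.leaf ([18, 30]))) (.leaf ([15, 33]))) (.node (.leaf ([14, 34])) (.leaf ([15, 17])))) (.node (.node (.leaf ([11, 21])) (.leaf ([14, 18]))) (.node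 (.leaf ([13, 19])) (.leaf ([17, 31]))))) (.node (.node (.node (.node (.leaf ([8, 8])) (.leaf ([19, 37]))) (.leaf ([14, 18]))) (.node (.leaf ([13, 27])) (.leaf ([19, 45])))) (.node (.node (.leaf ([10, 6])) (.leaf ([16, 32]))) (.node (.leaf ([13, 19])) (.leaf ([15, 9])))))) (.node (.node (.node (.node (.node (.leaf ([8, 16])) (.leaf ([19, 37]))) (.leaf ([12, 4]))) (.node (.leaf ([11, 13])) (.leaf ([15, 17])))) (.node (.node (.leaf ([11, 21])) (.leaf ([15, 25]))) (.node (.leaf ([14, 26])) (.leaf ([16, 24]))))) (.node (.node (.node (.node (.leaf ([11, 29])) (.leaf ([18, 22]))) (.leaf ([14, 18]))) (.node (.leaf ([15, 33])) (.leaf ([17, 31])))) (.node (.node (.leaf ([10, 6])) (.leaf ([16, 32]))) (.node (.leaf ([15, 33])) (.leaf ([16, 16]))))))) (.node (.node (.node (.node (.node (.node (.leaf ([6, 10])) (.leaf ([18, 30]))) (.leaf ([14, 18]))) (.node (.leaf ([11, 13])) (.leaf ([16, 24])))) (.node (.node (.leaf ([11, 21])) (.leaf ([16, 32]))) (.node (.leaf ([13, 19])) (.leaf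 ([16, 24]))))) (.node (.node (.node (.node (.leaf ([9, 15])) (.leaf ([18, 22]))) (.leaf ([16, 32]))) (.node (.leaf ([12, 12])) (.leaf ([16, 24])))) (.node (.node (.leaf ([12, 20])) (.leaf ([15, 25]))) (.node (.leaf ([13, 19])) (.leaf ([16, 16])))))) (.node (.node (.node (.node (.node (.leaf ([8, 16])) (.leaf ([17, 23]))) (.leaf ([13, 11]))) (.node (.leaf ([14, 34])) (.leaf ([15, 17])))) (.node (.node (.leaf ([11, 21])) (.leaf ([15, 25]))) (.node (.leaf ([14, 26])) (.leaf ([16, 24]))))) (.node (.node (.node (.node (.leaf ([9, 7])) (.leaf ([18, 14]))) (.leaf ([15, 25]))) (.node (.leaf ([13, 19])) (.leaf ([16, 24])))) (.node (.node (.leaf ([12, 20])) (.leaf ([14, 10]))) (.node (.leaf ([13, 19])) (.leaf ([16, 16]))))))))) (.node (.node (.node (.node (.node (.node (.node (.node (.leaf ([3, 5])) (.leaf ([17, 23]))) (.leaf ([14, 26]))) (.node (.leaf ([12, 20])) (.leaf ([15, 17])))) (.node (.node (.leaf ([9, 7])) (.leaf ([14, 18]))) (.node (.leaf ([12, 12])) (.leaf ([18,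 38]))))) (.node (.node (.node (.node (.leaf ([9, 15])) (.leaf ([18, 30]))) (.leaf ([15, 25]))) (.node (.leaf ([13, 27])) (.leaf ([16, 24])))) (.node (.node (.leaf ([10, 6])) (.leaf ([16, 32]))) (.node (.leaf ([14, 26])) (.leaf ([17, 31])))))) (.node (.node (.node (.node (.node (.leaf ([8, 16])) (.leaf ([20, 44]))) (.leaf ([14, 18]))) (.node (.leaf ([12, 20])) (.leaf ([17, 31])))) (.node (.node (.leaf ([11, 21])) (.leaf ([14, 18]))) (.node (.leaf ([12, 12])) (.leaf ([18, 38]))))) (.node (.node (.node (.node (.leaf ([10, 22])) (.leaf ([21, 43]))) (.leaf ([14, 18]))) (.node (.leaf ([12, 12])) (.leaf ([15, 17])))) (.node (.node (.leaf ([12, 20])) (.leaf ([17, 39]))) (.node (.leaf ([14, 26])) (.leaf ([16, 16]))))))) (.node (.node (.node (.node (.node (.node (.leaf ([6, 10])) (.leaf ([18, 30]))) (.leaf ([14, 18]))) (.node (.leaf ([11, 13])) (.leaf ([16, 24])))) (.node (.node (.leaf ([11, 21])) (.leaf ([17, 39]))) (.node (.leaf ([13, 19])) (.leaf ([15, 17]))))) (.node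 (.node (.node (.node (.leaf ([11, 29])) (.leaf ([18, 22]))) (.leaf ([17, 39]))) (.node (.leaf ([12, 12])) (.leaf ([15, 17])))) (.node (.node (.leaf ([13, 27])) (.leaf ([18, 46]))) (.node (.leaf ([13, 19])) (.leaf ([17, 23])))))) (.node (.node (.node (.node (.node (.leaf ([7, 9])) (.leaf ([17, 23]))) (.leaf ([15, 25]))) (.node (.leaf ([12, 20])) (.leaf ([17, 31])))) (.node (.node (.leaf ([11, 21])) (.leaf ([17, 39]))) (.node (.leaf ([15, 33])) (.leaf ([17, 31]))))) (.node (.node (.node (.node (.leaf ([9, 7])) (.leaf ([20, 36]))) (.leaf ([13, 11]))) (.node (.leaf ([12, 12])) (.leaf ([18, 38])))) (.node (.node (.leaf ([11, 13])) (.leaf ([14, 10]))) (.node (.leaf ([14, 26])) (.leaf ([16, 16])))))))) (.node (.node (.node (.node (.node (.node (.node (.leaf ([5, 11])) (.leaf ([19, 37]))) (.leaf ([17, 47]))) (.node (.leaf ([13, 27])) (.leaf ([14, 10])))) (.node (.node (.leaf ([11, 21])) (.leaf ([16, 32]))) (.node (.leaf ([13, 19])) (.leaf ([19, 45]))))) (.node (.node (.node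 (.node (.leaf ([9, 15])) (.leaf ([17, 15]))) (.leaf ([14, 18]))) (.node (.leaf ([12, 12])) (.leaf ([17, 31])))) (.node (.node (.leaf ([11, 13])) (.leaf ([15, 25]))) (.node (.leaf ([13, 19])) (.leaf ([16, 16])))))) (.node (.node (.node (.node (.node (.leaf ([9, 23])) (.leaf ([17, 23]))) (.leaf ([13, 11]))) (.node (.leaf ([13, 27])) (.leaf ([14, 10])))) (.node (.node (.leaf ([10, 14])) (.leaf ([14, 18]))) (.node (.leaf ([12, 12])) (.leaf ([19, 45]))))) (.node (.node (.node (.node (.leaf ([11, 29])) (.leaf ([19, 29]))) (.leaf ([16, 32]))) (.node (.leaf ([12, 12])) (.leaf ([17, 31])))) (.node (.node (.leaf ([12, 20])) (.leaf ([16, 32]))) (.node (.leaf ([13, 19])) (.leaf ([19, 37]))))))) (.node (.node (.node (.node (.node (.node (.leaf ([7, 17])) (.leaf ([18, 30]))) (.leaf ([14, 18]))) (.node (.leaf ([13, 27])) (.leaf ([15, 17])))) (.node (.node (.leaf ([9, 7])) (.leaf ([15, 25]))) (.node (.leaf ([13, 19])) (.leaf ([16, 24]))))) (.node (.node (.node (.node (.leaf ([9,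 15])) (.leaf ([17, 15]))) (.leaf ([14, 18]))) (.node (.leaf ([13, 19])) (.leaf ([17, 31])))) (.node (.node (.leaf ([10, 6])) (.leaf ([15, 25]))) (.node (.leaf ([13, 19])) (.leaf ([16, 16])))))) (.node (.node (.node (.node (.node (.leaf ([7, 1])) (.leaf ([19, 37]))) (.leaf ([13, 11]))) (.node (.leaf ([12, 20])) (.leaf ([14, 10])))) (.node (.node (.leaf ([12, 28])) (.leaf ([14, 18]))) (.node (.leaf ([15, 33])) (.leaf ([17, 31]))))) (.node (.node (.node (.node (.leaf ([9, 7])) (.leaf ([19, 21]))) (.leaf ([15, 25]))) (.node (.leaf ([14, 26])) (.leaf ([18, 38])))) (.node (.node (.leaf ([10, 6])) (.leaf ([16, 24]))) (.node (.leaf ([15, 33])) (.leaf ([17, 23])))))))))) (.node (.node (.node (.node (.node (.node (.node (.node (.node (.leaf ([2, (-2)])) (.leaf ([17, 23]))) (.leaf ([15, 33]))) (.node (.leaf ([11, 13])) (.leaf ([16, 24])))) (.node (.node (.leaf ([12, 28])) (.leaf ([17, 39]))) (.node (.leaf ([12, 12])) (.leaf ([16, 24]))))) (.node (.node (.node (.node (.leaf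 ([9, 15])) (.leaf ([19, 37]))) (.leaf ([14, 18]))) (.node (.leaf ([15, 41])) (.leaf ([18, 38])))) (.node (.node (.leaf ([13, 35])) (.leaf ([14, 18]))) (.node (.leaf ([13, 19])) (.leaf ([19, 45])))))) (.node (.node (.node (.node (.node (.leaf ([7, 9])) (.leaf ([18, 30]))) (.leaf ([15, 25]))) (.node (.leaf ([13, 27])) (.leaf ([16, 24])))) (.node (.node (.leaf ([10, 14])) (.leaf ([18, 46]))) (.node (.leaf ([16, 40])) (.leaf ([17, 31]))))) (.node (.node (.node (.node (.leaf ([8, 8])) (.leaf ([19, 29]))) (.leaf ([14, 18]))) (.node (.leaf ([13, 19])) (.leaf ([15, 17])))) (.node (.node (.leaf ([11, 13])) (.leaf ([17, 39]))) (.node (.leaf ([13, 19])) (.leaf ([16, 16]))))))) (.node (.node (.node (.node (.node (.node (.leaf ([5, 3])) (.leaf ([16, 16]))) (.leaf ([13, 11]))) (.node (.leaf ([11, 13])) (.leaf ([15, 17])))) (.node (.node (.leaf ([11, 21])) (.leaf ([14, 18]))) (.node (.leaf ([12, 12])) (.leaf ([15, 17]))))) (.node (.node (.node (.node (.leaf ([9, 15])) (.leaf ([19,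 29]))) (.leaf ([15, 25]))) (.node (.leaf ([13, 19])) (.leaf ([14, 10])))) (.node (.node (.leaf ([11, 13])) (.leaf ([16, 32]))) (.node (.leaf ([15, 33])) (.leaf ([17, 23])))))) (.node (.node (.node (.node (.node (.leaf ([8, 16])) (.leaf ([18, 30]))) (.leaf ([14, 18]))) (.node (.leaf ([12, 20])) (.leaf ([16, 24])))) (.node (.node (.leaf ([10, 14])) (.leaf ([14, 18]))) (.node (.leaf ([13, 19])) (.leaf ([20, 52]))))) (.node (.node (.node (.node (.leaf ([9, 7])) (.leaf ([20, 36]))) (.leaf ([15, 25]))) (.node (.leaf ([15, 33])) (.leaf ([18, 38])))) (.node (.node (.leaf ([11, 13])) (.leaf ([16, 32]))) (.node (.leaf ([14, 26])) (.leaf ([18, 30])))))))) (.node (.node (.node (.node (.node (.node (.node (.leaf ([4, 4])) (.leaf ([19, 37]))) (.leaf ([15, 33]))) (.node (.leaf ([13, 27])) (.leaf ([14, 10])))) (.node (.node (.leaf ([10, 14])) (.leaf ([15, 25]))) (.node (.leaf ([14, 26])) (.leaf ([16, 24]))))) (.node (.node (.node (.node (.leaf ([8, 8])) (.leaf ([18, 22]))) (.leaf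 ([15, 25]))) (.node (.leaf ([15, 41])) (.leaf ([17, 31])))) (.node (.node (.leaf ([10, 6])) (.leaf ([14, 18]))) (.node (.leaf ([15, 33])) (.leaf ([16, 16])))))) (.node (.node (.node (.node (.node (.leaf ([8, 16])) (.leaf ([19, 37]))) (.leaf ([13, 11]))) (.node (.leaf ([13, 27])) (.leaf ([16, 24])))) (.node (.node (.leaf ([11, 21])) (.leaf ([14, 18]))) (.node (.leaf ([14, 26])) (.leaf ([17, 31]))))) (.node (.node (.node (.node (.leaf ([10, 22])) (.leaf ([20, 36]))) (.leaf ([14, 18]))) (.node (.leaf ([12, 12])) (.leaf ([16, 24])))) (.node (.node (.leaf ([11, 13])) (.leaf ([17, 39]))) (.node (.leaf ([16, 40])) (.leaf ([18, 30]))))))) (.node (.node (.node (.node (.node (.node (.leaf ([6, 10])) (.leaf ([17, 23]))) (.leaf ([13, 11]))) (.node (.leaf ([13, 27])) (.leaf ([15, 17])))) (.node (.node (.leaf ([12, 28])) (.leaf ([18, 46]))) (.node (.leaf ([15, 33])) (.leaf ([16, 24]))))) (.node (.node (.node (.node (.leaf ([10, 22])) (.leaf ([18, 22]))) (.leaf ([13, 11]))) (.node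 (.leaf ([13, 19])) (.leaf ([17, 31])))) (.node (.node (.leaf ([12, 20])) (.leaf ([16, 32]))) (.node (.leaf ([15, 33])) (.leaf ([16, 16])))))) (.node (.node (.node (.node (.node (.leaf ([10, 30])) (.leaf ([18, 30]))) (.leaf ([14, 18]))) (.node (.leaf ([12, 20])) (.leaf ([16, 24])))) (.node (.node (.leaf ([12, 28])) (.leaf ([16, 32]))) (.node (.leaf ([15, 33])) (.leaf ([16, 24]))))) (.node (.node (.node (.node (.leaf ([10, 14])) (.leaf ([20, 28]))) (.leaf ([14, 18]))) (.node (.leaf ([14, 26])) (.leaf ([17, 31])))) (.node (.node (.leaf ([13, 27])) (.leaf ([15, 17]))) (.node (.leaf ([15, 33])) (.leaf ([17, 23]))))))))) (.node (.node (.node (.node (.node (.node (.node (.node (.leaf ([3, (-3)])) (.leaf ([19, 37]))) (.leaf ([15, 33]))) (.node (.leaf ([12, 20])) (.leaf ([15, 17])))) (.node (.node (.leaf ([10, 14])) (.leaf ([14, 18]))) (.node (.leaf ([13, 19])) (.leaf ([16, 24]))))) (.node (.node (.node (.node (.leaf ([10, 22])) (.leaf ([19, 37]))) (.leaf ([13, 11]))) (.node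 (.leaf ([13, 27])) (.leaf ([17, 31])))) (.node (.node (.leaf ([10, 6])) (.leaf ([15, 25]))) (.node (.leaf ([13, 19])) (.leaf ([18, 38])))))) (.node (.node (.node (.node (.node (.leaf ([7, 9])) (.leaf ([18, 30]))) (.leaf ([15, 25]))) (.node (.leaf ([13, 27])) (.leaf ([14, 10])))) (.node (.node (.leaf ([9, 7])) (.leaf ([15, 25]))) (.node (.leaf ([13, 19])) (.leaf ([15, 17]))))) (.node (.node (.node (.node (.leaf ([10, 22])) (.leaf ([18, 22]))) (.leaf ([16, 32]))) (.node (.leaf ([13, 19])) (.leaf ([16, 24])))) (.node (.node (.leaf ([14, 34])) (.leaf ([15, 25]))) (.node (.leaf ([14, 26])) (.leaf ([17, 23]))))))) (.node (.node (.node (.node (.node (.node (.leaf ([5, 3])) (.leaf ([18, 30]))) (.leaf ([13, 11]))) (.node (.leaf ([12, 20])) (.leaf ([14, 10])))) (.node (.node (.leaf ([12, 28])) (.leaf ([15, 25]))) (.node (.leaf ([12, 12])) (.leaf ([17, 31]))))) (.node (.node (.node (.node (.leaf ([8, 8])) (.leaf ([20, 36]))) (.leaf ([15, 25]))) (.node (.leaf ([13, 19])) (.leaf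 ([16, 24])))) (.node (.node (.leaf ([11, 13])) (.leaf ([15, 25]))) (.node (.leaf ([13, 19])) (.leaf ([15, 9])))))) (.node (.node (.node (.node (.node (.leaf ([8, 16])) (.leaf ([18, 30]))) (.leaf ([12, 4]))) (.node (.leaf ([13, 27])) (.leaf ([15, 17])))) (.node (.node (.leaf ([12, 28])) (.leaf ([14, 18]))) (.node (.leaf ([13, 19])) (.leaf ([18, 38]))))) (.node (.node (.node (.node (.leaf ([10, 14])) (.leaf ([20, 36]))) (.leaf ([15, 25]))) (.node (.leaf ([13, 19])) (.leaf ([16, 24])))) (.node (.node (.leaf ([13, 27])) (.leaf ([14, 10]))) (.node (.leaf ([15, 33])) (.leaf ([18, 30])))))))) (.node (.node (.node (.node (.node (.node (.node (.leaf ([4, (-4)])) (.leaf ([16, 16]))) (.leaf ([13, 11]))) (.node (.leaf ([15, 41])) (.leaf ([16, 24])))) (.node (.node (.leaf ([11, 21])) (.leaf ([13, 11]))) (.node (.leaf ([13, 19])) (.leaf ([15, 17]))))) (.node (.node (.node (.node (.leaf ([8, 8])) (.leaf ([19, 29]))) (.leaf ([14, 18]))) (.node (.leaf ([12, 12])) (.leaf ([15, 17]))))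 (.node (.node (.leaf ([10, 6])) (.leaf ([16, 32]))) (.node (.leaf ([14, 26])) (.leaf ([16, 16])))))) (.node (.node (.node (.node (.node (.leaf ([7, 9])) (.leaf ([18, 30]))) (.leaf ([14, 18]))) (.node (.leaf ([14, 34])) (.leaf ([16, 24])))) (.node (.node (.leaf ([11, 21])) (.leaf ([16, 32]))) (.node (.leaf ([14, 26])) (.leaf ([17, 31]))))) (.node (.node (.node (.node (.leaf ([8])) (.leaf ([19, 29]))) (.leaf ([14, 18]))) (.node (.leaf ([12, 12])) (.leaf ([15, 17])))) (.node (.node (.leaf ([12, 20])) (.leaf ([17, 39]))) (.node (.leaf ([13, 19])) (.leaf ([18, 30]))))))) (.node (.node (.node (.node (.node (.node (.leaf ([5, (-5)])) (.leaf ([19, 37]))) (.leaf ([12, 4]))) (.node (.leaf ([11, 13])) (.leaf ([17, 31])))) (.node (.node (.leaf ([10, 14])) (.leaf ([15, 25]))) (.node (.leaf ([13, 19])) (.leaf ([17, 31]))))) (.node (.node (.node (.node (.leaf ([10, 22])) (.leaf ([18, 22]))) (.leaf ([14, 18]))) (.node (.leaf ([11, 5])) (.leaf ([15, 17])))) (.node (.node (.leaf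 ([11, 13])) (.leaf ([17, 39]))) (.node (.leaf ([14, 26])) (.leaf ([17, 23])))))) (.node (.node (.node (.node (.node (.leaf ([8, 8])) (.leaf ([18, 30]))) (.leaf ([15, 25]))) (.node (.leaf ([14, 34])) (.leaf ([15, 17])))) (.node (.node (.leaf ([11, 21])) (.leaf ([14, 18]))) (.node (.leaf ([12, 12])) (.leaf ([18, 38]))))) (.node (.node (.node (.node (.leaf ([10, 14])) (.leaf ([19, 21]))) (.leaf ([16, 32]))) (.node (.leaf ([13, 19])) (.leaf ([16, 24])))) (.node (.node (.leaf ([11, 13])) (.leaf ([14, 10]))) (.node (.leaf ([13, 19])) (.leaf ([17, 23])))))))))))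

/-- the table -/
def table2 : Table where
  size := 1152
  ngen := 2
  next g x := next2.getK (2 * g + x)
  prev g x := prev2.getK (2 * g + x)
  lab g x := lab2.getK (2 * g + x)
  val g x := val2.getK (2 * g + x)
  rank g x := rank2.getK (2 * g + x)
  tree g := tree2.getK g
  cert j := cert2.getK j
  nded := 1153
  rels := [⟨[(0, true), (0, true), (0, true), (0, true), (0, true), (0, true)], [], [1]⟩,
    ⟨[(1, true), (1, true), (1, true), (1, true), (1, true), (1, true), (1, true), (1, true)], [], [0, 1]⟩,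
    ⟨[(0, false), (1, true), (1, true), (1, true), (0, false), (0, false), (1, false), (0, false)], [], [0, 0, 1]⟩,
    ⟨[(0, false), (0, false), (1, false), (1, false), (0, false), (1, true), (0, true), (1, true), (1, true), (0, true), (1, true), (0, false)], [], [0, 0, 0, 1]⟩,
    ⟨[(0, true), (1, true), (0, true), (1, false), (0, false), (1, false), (0, true), (1, true), (0, true), (1, false), (0, false), (1, false)], [], [0, 0, 0, 0, 1]⟩]
  pot g := pot2.getK g
  innerSize := 1
  innerGen := 0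

/-- the table with its checks -/
def level2 : CfsgLib.Sporadic.ChainLevel where
  table := table2
  gexp := [[1, (-1)], [2, 6]]
  perm := [2611266740906618866535223804031247611148986573837827417838836111612659679690773886625607979521424496139910649334317919558976196899295204904740744539621052536965279989014191632225410657147097280784165191048277701520237591301784871877504863332180423615229906314953819602372331005687941323336755982936961484499749020895421270059181319538721712700912933918209186541394606841594190097062592494876587421130367344961800097224760496864963812750855583700961948202668134714395246848952971752187605323828026120106664588557146696170334387727612892078990240962790091783952788262726728224875600550053995574258442091293358604378443058990271473882980189727915444838868019060635536710156705455982281469930576325759294732515434825083431689175526158124621961988711514281647555071742660034620626189204384524294257805303625385950575615036000171946615903922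71109167826465240485763344048493491304943806699578610328561760638315603097184120308992294101241969286406759610395980457450466511381860075834467715010576022100103825174501975647059717958136885093149777526596872556958565216338241555354689672835864284312810738866763216240130190869966137854512021783737722814553449345351195174597259472104487386986103187659769538991801232903887970869095445966897695211987192659202831317856176932014475968437871018474157949051197180542883302977460960067770718653524573958627865839759944156614578008670637889895259960748636114739326565881304659150973422356785286516345803962390210946837622926783066723809952943532259934482957581606461766187031944398576573144922043144604862889816710122963862755932160698153856783665878907631441956970952246000283062675708430582652019756621423546038709927963908899840, 261126632991842662237167011172318240275537048245348949016419116816903082000329693695865715032210265347152919106198434242132207965687239667910915877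3793812902187833288994427585594015650716368790806076845402783378937119584117975007674974866519082637296185497037842941592559917749050995338200574049602521914146774775899896280918739860434923423580235405326062011551600334207884091960382440935300860553436478511417343951488907169338115090262714700228886208851652115251207008876338261681018459989476593474239038185277942303067191585095621571748726435410583806959486647731202637100034463876205874166316330144024110560825474906533953219577022540907876763553807856032465977327610559320480348782531373544518471466136960122915629089475516751442637869220206551961966435689063094132125713104973591864362307663549034719639923768685644746726404437537603194018737711676444343915127772485964325217922522674038903969379151060369249809139094440795596591311770399186241693816201365635725496485246847315695524991589866751875542383683796731938696375591609800451746207721676627134526563149265135767565392449310142122003026575552857051282924675030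79834367283172051197768303871839826456261589804956651662205164323579262111099959375442603596052921020289914203545257296483606758879512816419215983409990728650582060645000682931166427854288013719021849764982229653947692398434811661179298939202282525147713742131002842577621177040353216475478642484777314850159781749624199812825091442036157379920956067894448889025516074720788798799089464451815449842181296639379668391772729162569563338160135282426552895137013174261734708351082016164502429675734639478243138486287567077119662640668355855360]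
  pinv := [2611266637109136648404600457826476213504329187015550569522995260417926435059569596656285604504634270823867118719461960879136715644774149504632850826632669458869377855347315829281895090097976988315966109624214691515478793013225575596072500789395367541359762499406080557245465755471546443459082777011541621681956762856733906611094525915782082416104696536424385688408171763282214775752719778598101575455444364881227372360684713686967035885059331582238189526395409683821822000940345579705502222103291672006209426310755128462841312388305757646313814482971541370710432449119663891333309010291150430510763215511462087722373687379767280682014310744473820812582796704266561330253882574509948790126717537038938197266089060589038046229743586228721832189374708708020622128071041082298329714388296236415451755437488880645901363034794304027898212224504971031758640395907038838188641670331248484456021359891553302755584831461055810499962662129249372489416128488746380709517179433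81965814174248835073043438046391447872869454574104519919841256295028784486741669847129888030827967421138724396133627059419188881513963001464809384071906171651179167427207565833134551880395963180197868487933281218163116055570910819940940212689204379352797502750426090990427087448681352188499457743340656295083476285235264174513362542999262389279912977577965206134646250055924275754853232841106265056599829915443696279455839968428302083164509530272416345890590034060345666872654850946724607176710504942972520727740261942706243327631598090869416837186878772005465763762090343929259554469228170871833642927658056695965470739825684045932395874768028201973160931078970785033587484834623830293800631141376, 261126637960724215494200896517876399178024240904773575741177912342166568121585362203745335332910898679063355529275715566111811172486805958354850736516429247586828825636485635123184186842042337564405756112647263427373209448256626592332029728463014818497489614824855758618615417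310427272843835475027489290819476337972281593734784313744305616377145316572836883286856982435269391451150416084181577917041836703354930153921785789051637866809998074107337379919243597583787327948212239867165102322969110375702514220404958751831196424382727646454010052465441446067132478945359090361027034783487945904637107893169901417340892282515141166391275613382172840741998132249238412317805396932833518714667070586290718640744545792177614467913013678953083197806372386543719895869105655574486146710328980482261812166260583062561897200878254828709024334092224928648584244626168040198223613991664666403696776278702980083127022109378417724238203682103035768735168927569666922867991804192800345848355734684144462465291450292857778518156682583734448082324071653171459464876218396133922831017376457170653050941468224551897460217294762976328247077678536616920403626907116811319966380810667571768315788377919860109725864123938115481132078311791281148153115446206628202373121852382285983217109456259052445196620103374890004789333667889619878985492075265998665850826209047704948095975272705784154312697001108861938960273960328778150168635364715974855046448923294424972317467141428084421577260342984153320178313718187277464637371436937336447016854770617673420072134394321454522006896465520534030031533074192067891566243609126021238420929797690188778082868696188490309926261905943241297439491072]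
  defs := []
  eqs := [(0, 89, [(-2), 1, (-2), (-2)]), (0, 337, [1, 0, 3, (-1), 2])]
  pts := [2, 4]

end CfsgLib.Sporadic.MultCoTwoPart
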